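import Mathlib
import Cfsg.Agent.Lib.PGroups.Basic
import Cfsg.Agent.Lib.Coprime.PGroup

/-!
Automorphisms of a finite `p`-group acting trivially on the Frattini quotient.
-/

set_option autoImplicit false

namespace Cfsg.Agent.GroupStructure3.FrattiniAut

open Subgroup

theorem card_dvd_of_free {A T : Type*} [Group A] [Finite A] [Finite T] [MulAction A T]
    (h : ∀ t : T, MulAction.stabilizer A t = ⊥) : Nat.card A ∣ Nat.card T := by
  classical
  haveI := Fintype.ofFinite (MulAction.orbitRel.Quotient A T)
  rw [Nat.card_congr (MulAction.selfEquivSigmaOrbitsQuotientStabilizer A T), Nat.card_sigma]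
  refine Finset.dvd_sum fun ω _ => ?_
  rw [← index_eq_card, h, index_bot]

variable {P : Type*} [Group P] [Finite P] {p n r : ℕ} [Fact p.Prime]

theorem pow_mem_frattini (hP : IsPGroup p P) (x : P) : x ^ p ∈ frattini P := by
  have hp : p.Prime := Fact.out
  haveI := hP.isNilpotent
  suffices h : ∀ M : Subgroup P, IsCoatom M → x ^ p ∈ M by
    change x ^ p ∈ Order.radical (Subgroup P)
    rw [Order.radical]
    simpa only [Subgroup.mem_iInf, Set.mem_setOf_eq] using h
  intro M hM
  haveI := Subgroup.NormalizerCondition.normal_of_coatom M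
    Group.normalizerCondition_of_isNilpotent hM
  have hQ : IsPGroup p (P ⧸ M) := hP.to_quotient M
  have hne : Nontrivial (P ⧸ M) := by
    by_contra h
    rw [not_nontrivial_iff_subsingleton] at h
    exact hM.1 (eq_top_iff.2 fun y _ => (QuotientGroup.eq_one_iff y).1 (Subsingleton.elim _ _))
  obtain ⟨k, hk, hcard⟩ := hQ.nontrivial_iff_card.1 hne
  obtain ⟨H, hH⟩ := Sylow.exists_subgroup_card_pow_prime (G := P ⧸ M) p (n := 1)
    (by rw [hcard]; exact pow_dvd_pow p hk)
  have hlt : M < H.comap (QuotientGroup.mk' M) := by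
    refine lt_of_le_of_ne (fun y hy => ?_) fun he => ?_
    · rw [mem_comap, QuotientGroup.mk'_apply, (QuotientGroup.eq_one_iff y).2 hy]
      exact one_mem _
    · have h0 : H = ⊥ := by
        rw [← map_comap_eq_self_of_surjective (QuotientGroup.mk'_surjective M) H, ← he,
          QuotientGroup.map_mk'_self]
      rw [h0, card_bot, pow_one] at hH
      exact hp.ne_one hH.symm
  have hcardQ : Nat.card (P ⧸ M) = p := by
    have h1 : H = ⊤ := by
      rw [← map_comap_eq_self_of_surjective (QuotientGroup.mk'_surjective M) H, hM.2 _ hlt,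
        map_top_of_surjective _ (QuotientGroup.mk'_surjective M)]
    rw [h1, card_top, pow_one] at hH
    exact hH
  have := pow_index_mem M x
  rwa [index_eq_card, hcardQ] at this

theorem exponents (hP : Nat.card P = p ^ n) (hr : (frattini P).index = p ^ r) :
    r ≤ n ∧ Nat.card (frattini P) = p ^ (n - r) := by
  have hp : p.Prime := Fact.out
  have h1 : r ≤ n := by
    have := (frattini P).index_dvd_card
    rw [hr, hP] at this
    exact (Nat.pow_dvd_pow_iff_le_right hp.one_lt).1 this
  refine ⟨h1, ?_⟩
  have h2 := (frattini P).card_mul_index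
  rw [hr, hP] at h2
  refine Nat.eq_of_mul_eq_mul_right (pow_pos hp.pos r) ?_
  rw [h2, ← pow_add, Nat.sub_add_cancel h1]

theorem card_stab_dvd (hP : Nat.card P = p ^ n) (hr : (frattini P).index = p ^ r)
    (A : Subgroup (MulAut P)) (hA : ∀ α ∈ A, ∀ x : P, α x * x⁻¹ ∈ frattini P) :
    Nat.card A ∣ p ^ (r * (n - r)) := by
  classical
  obtain ⟨hrn, hΦ⟩ := exponents hP hr
  have hPp : IsPGroup p P := IsPGroup.of_card hP
  haveI := hPp.isNilpotent
  -- generators modulo the Frattini subgroup
  obtain ⟨S, hS, hgen⟩ := PGroups.Basic.exists_generators (hPp.to_quotient (frattini P)) r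
    (by rw [← index_eq_card, hr])
  obtain ⟨b, hb⟩ : ∃ b : Fin r → P, ∀ s ∈ S, ∃ i, QuotientGroup.mk (b i) = s := by
    let l := S.toList
    refine ⟨fun i => if h : i.1 < l.length then (l[i.1]).out else 1, fun s hs => ?_⟩
    obtain ⟨i, hi, his⟩ := List.getElem_of_mem (Finset.mem_toList.2 hs)
    have hir : i < r := lt_of_lt_of_le hi (le_trans (Finset.length_toList S).le hS)
    refine ⟨⟨i, hir⟩, ?_⟩
    simp only [dif_pos hi, QuotientGroup.out_eq', l, his]
  have hchar : ∀ (α : MulAut P) (x : P), x ∈ frattini P → α x ∈ frattini P := fun α x hx =>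
    (characteristic_iff_map_le.1 (inferInstance : (frattini P).Characteristic)) α ⟨x, hx, rfl⟩
  have hmem : ∀ (α : A) (i : Fin r) (t : frattini P),
      (b i)⁻¹ * (α : MulAut P) (b i * t) ∈ frattini P := by
    intro α i t
    have h1 := hA α α.2 (b i)
    have h2 : (b i)⁻¹ * ((α : MulAut P) (b i) * (b i)⁻¹) * (b i)⁻¹⁻¹ ∈ frattini P :=
      (inferInstance : (frattini P).Normal).conj_mem _ h1 _
    have h3 : (b i)⁻¹ * (α : MulAut P) (b i * t) =
        ((b i)⁻¹ * ((α : MulAut P) (b i) * (b i)⁻¹) * (b i)⁻¹⁻¹) * (α : MulAut P) t := by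
      rw [map_mul]; group
    rw [h3]
    exact mul_mem h2 (hchar _ _ t.2)
  letI act : MulAction A (Fin r → frattini P) :=
    { smul := fun α t i => ⟨(b i)⁻¹ * (α : MulAut P) (b i * t i), hmem α i (t i)⟩
      one_smul := fun t => funext fun i => Subtype.ext (by
        show (b i)⁻¹ * ((1 : A) : MulAut P) (b i * t i) = t i
        simp)
      mul_smul := fun α β t => funext fun i => Subtype.ext (by
        show (b i)⁻¹ * ((α * β : A) : MulAut P) (b i * t i) =
          (b i)⁻¹ * (α : MulAut P) (b i * ((b i)⁻¹ * (β : MulAut P) (b i * t i)))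
        simp) }
  have hfree : ∀ t : Fin r → frattini P, MulAction.stabilizer A t = ⊥ := by
    intro t
    rw [eq_bot_iff]
    intro α hα
    rw [mem_bot]
    have hfix : ∀ i, (α : MulAut P) (b i * t i) = b i * t i := by
      intro i
      have h1 := congrArg (fun f : Fin r → frattini P => ((f i : frattini P) : P)) hα
      exact inv_mul_eq_iff_eq_mul.1 h1
    have htop : closure (Set.range fun i => b i * (t i : P)) = ⊤ := by
      refine frattini_nongenerating (eq_top_iff.2 ?_)
      rw [← Subgroup.comap_top (QuotientGroup.mk' (frattini P)), ← hgen]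
      refine le_trans (Subgroup.comap_mono (f := QuotientGroup.mk' (frattini P))
        (closure_le _ |>.2 ?_)) (le_of_eq (Subgroup.comap_map_eq _ _)) |>.trans (by
          rw [QuotientGroup.ker_mk'])
      intro s hs
      obtain ⟨i, hi⟩ := hb s hs
      refine ⟨b i * (t i : P), subset_closure ⟨i, rfl⟩, ?_⟩
      rw [QuotientGroup.mk'_apply, ← hi]
      exact QuotientGroup.eq.2 (by simpa using inv_mem (t i).2)
    refine Subtype.ext ?_
    have hext : ((α : MulAut P) : P →* P) = MonoidHom.id P :=
      MonoidHom.eq_of_eqOn_dense htop fun x ⟨i, hi⟩ => hi ▸ hfix i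
    exact MulEquiv.ext fun x => DFunLike.congr_fun hext x
  have := card_dvd_of_free hfree
  rwa [Nat.card_fun, hΦ, Nat.card_fin, ← pow_mul, mul_comm] at this

omit [Finite P] in
theorem card_linearEquiv (V : Type*) [AddCommGroup V] [Module (ZMod p) V] [Finite V]
    (hV : Nat.card V = p ^ r) :
    Nat.card (V ≃ₗ[ZMod p] V) = ∏ i ∈ Finset.range r, (p ^ r - p ^ i) := by
  classical
  haveI : Module.Finite (ZMod p) V := Module.Finite.of_finite
  have hfin : Module.finrank (ZMod p) V = r := by
    have h : p ^ Module.finrank (ZMod p) V = Nat.card V := FiniteField.pow_finrank_eq_natCard p V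
    rw [hV] at h
    exact Nat.pow_right_injective (Fact.out : p.Prime).two_le h
  let B : Module.Basis (Fin r) (ZMod p) V := Module.finBasisOfFinrankEq (ZMod p) V hfin
  have e2 : (V ≃ₗ[ZMod p] V) ≃ GL (Fin r) (ZMod p) :=
    (LinearMap.GeneralLinearGroup.generalLinearEquiv (ZMod p) V).symm.toEquiv.trans
      (Units.mapEquiv (LinearMap.toMatrixAlgEquiv B).toMulEquiv).toEquiv
  rw [Nat.card_congr e2, Matrix.card_GL_field, ZMod.card, ← Fin.prod_univ_eq_prod_range]

theorem card_mulAut_elementary {Q : Type*} [CommGroup Q] [Finite Q] (hQ : Nat.card Q = p ^ r)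
    (hexp : ∀ x : Q, x ^ p = 1) :
    Nat.card (MulAut Q) = ∏ i ∈ Finset.range r, (p ^ r - p ^ i) := by
  classical
  letI : Module (ZMod p) (Additive Q) :=
    AddCommGroup.zmodModule (fun x => Additive.toMul.injective (by simpa using hexp x.toMul))
  have e1 : MulAut Q ≃ (Additive Q ≃ₗ[ZMod p] Additive Q) :=
    { toFun := fun f =>
        { MulEquiv.toAdditive f with
          map_smul' := fun c x => ZMod.map_smul (MulEquiv.toAdditive f).toAddMonoidHom c x }
      invFun := fun f => MulEquiv.toAdditive.symm f.toAddEquiv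
      left_inv := fun f => rfl
      right_inv := fun f => rfl }
  rw [Nat.card_congr e1]
  exact card_linearEquiv (Additive Q) hQ

theorem card_mulAut_dvd (hP : Nat.card P = p ^ n) (hr : (frattini P).index = p ^ r) :
    Nat.card (MulAut P) ∣ p ^ (r * (n - r)) * ∏ i ∈ Finset.range r, (p ^ r - p ^ i) := by
  have hPp : IsPGroup p P := IsPGroup.of_card hP
  haveI := hPp.isNilpotent
  have hmap : ∀ α : MulAut P, (frattini P).map (α : P →* P) = frattini P := fun α =>
    (characteristic_iff_map_eq.1 (inferInstance : (frattini P).Characteristic)) α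
  let ρ : MulAut P →* MulAut (P ⧸ frattini P) :=
    { toFun := fun α => QuotientGroup.congr (frattini P) (frattini P) α (hmap α)
      map_one' := MulEquiv.ext fun x => by
        induction x using QuotientGroup.induction_on with
        | H x => rfl
      map_mul' := fun α β => MulEquiv.ext fun x => by
        induction x using QuotientGroup.induction_on with
        | H x => rfl }
  haveI hcomm : IsMulCommutative (P ⧸ frattini P) := by
    refine ⟨⟨fun a b => ?_⟩⟩
    induction a using QuotientGroup.induction_on with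
    | H a =>
      induction b using QuotientGroup.induction_on with
      | H b =>
        rw [← QuotientGroup.mk_mul, ← QuotientGroup.mk_mul, QuotientGroup.eq]
        refine Coprime.commutator_le_frattini P ?_
        have h := commutator_mem_commutator (mem_top b⁻¹) (mem_top a⁻¹)
        rw [commutatorElement_def] at h
        have he : (a * b)⁻¹ * (b * a) = b⁻¹ * a⁻¹ * b⁻¹⁻¹ * a⁻¹⁻¹ := by group
        rw [he]
        exact h
  letI : CommGroup (P ⧸ frattini P) :=
    { (inferInstance : Group (P ⧸ frattini P)) with mul_comm := hcomm.is_comm.comm }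
  have hexp : ∀ x : P ⧸ frattini P, x ^ p = 1 := fun x => by
    induction x using QuotientGroup.induction_on with
    | H x =>
      rw [← QuotientGroup.mk_pow]
      exact (QuotientGroup.eq_one_iff _).2 (pow_mem_frattini hPp x)
  have h1 : Nat.card ρ.ker ∣ p ^ (r * (n - r)) := by
    refine card_stab_dvd hP hr ρ.ker fun α hα x => ?_
    have h : (QuotientGroup.mk (α x) : P ⧸ frattini P) = QuotientGroup.mk x :=
      congrArg (fun f : MulAut (P ⧸ frattini P) => f (QuotientGroup.mk x)) (MonoidHom.mem_ker.1 hα)
    rw [QuotientGroup.eq] at h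
    have h2 := (inferInstance : (frattini P).Normal).conj_mem _ (inv_mem h) x
    have he : x * ((α x)⁻¹ * x)⁻¹ * x⁻¹ = α x * x⁻¹ := by group
    rwa [he] at h2
  have h2 : Nat.card ρ.range ∣ ∏ i ∈ Finset.range r, (p ^ r - p ^ i) := by
    rw [← card_mulAut_elementary (Q := P ⧸ frattini P) (by rw [← index_eq_card, hr]) hexp]
    exact card_subgroup_dvd_card _
  rw [← ρ.ker.card_mul_index, index_ker]
  exact Nat.mul_dvd_mul h1 h2

end Cfsg.Agent.GroupStructure3.FrattiniAut
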