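import Mathlib
import Cfsg.Prelude.Def_HallClasses
import Cfsg.Agent.Lib.Coprime.Sylow

/-! Pronormality of the overgroups of a Sylow subgroup in a group extension. -/

set_option autoImplicit false
set_option linter.style.haveILetI false
set_option linter.deprecated false

namespace Cfsg.Agent.GroupStructure3.PronormalOvergroup

open Subgroup Cfsg.Agent
open scoped Pointwise

/-- Every overgroup of a Sylow subgroup is pronormal. -/
def Pro (p : ℕ) (G : Type*) [Group G] : Prop :=
  ∀ K : Subgroup G, (∃ P : Sylow p G, (P : Subgroup G) ≤ K) → Cfsg.IsPronormal K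

variable {G : Type*} [Group G]

theorem smul_le_sup_of_le {H J : Subgroup G} {g : G} (hH : H ≤ J) (hg : g ∈ J) : MulAut.conj g • H ≤ J := by
  rintro _ ⟨h, hh, rfl⟩
  exact mul_mem (mul_mem hg (hH hh)) (inv_mem hg)

variable [Finite G] {p : ℕ} [hp : Fact p.Prime]

omit hp in
theorem isPronormal_iff {H : Subgroup G} :
    Cfsg.IsPronormal H ↔ ∀ g : G, ∃ x ∈ H ⊔ MulAut.conj g • H, MulAut.conj g • H = MulAut.conj x • H := Iff.rfl

omit hp in
theorem isPronormal_conj {H : Subgroup G} {c : G} (h : Cfsg.IsPronormal (MulAut.conj c • H)) : Cfsg.IsPronormal H := by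
  intro g
  obtain ⟨x, hx, e⟩ := h (c * g * c⁻¹)
  change MulAut.conj (c * g * c⁻¹) • MulAut.conj c • H = MulAut.conj x • MulAut.conj c • H at e
  change x ∈ MulAut.conj c • H ⊔ MulAut.conj (c * g * c⁻¹) • MulAut.conj c • H at hx
  rw [← Coprime.conj_smul_mul, show c * g * c⁻¹ * c = c * g by group] at hx e
  rw [← Coprime.conj_smul_mul] at e
  rw [Coprime.conj_smul_mul, ← Subgroup.smul_sup] at hx
  refine ⟨c⁻¹ * x * c, ?_, ?_⟩
  · have := Subgroup.mem_pointwise_smul_iff_inv_smul_mem.mp hx
    rw [MulAut.smul_def, MulAut.inv_apply, MulAut.conj_symm_apply] at this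
    exact this
  · show MulAut.conj g • H = MulAut.conj (c⁻¹ * x * c) • H
    rw [mul_assoc, Coprime.conj_smul_mul, ← e, ← Coprime.conj_smul_mul, inv_mul_cancel_left]

/-- Frattini argument inside the normalizer. -/
theorem exists_frattini {T K : Subgroup G} (P : Sylow p K) (hT : (P : Subgroup K).map K.subtype = T) {n : G}
    (hn : n ∈ normalizer (K : Set G)) : ∃ k ∈ K, k⁻¹ * n ∈ normalizer (T : Set G) := by
  have hTK : T ≤ K := hT ▸ map_subtype_le _
  have hle : MulAut.conj n • T ≤ K :=
    le_trans (Subgroup.pointwise_smul_le_pointwise_smul_iff.mpr hTK) (le_of_eq (Coprime.conj_smul_eq_self_iff.mpr hn))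
  obtain ⟨k, hk, e⟩ := Coprime.exists_conj_sylow_map hle P (by rw [Coprime.card_conj_smul, ← hT, Subgroup.card_subtype])
  rw [hT] at e
  refine ⟨k, hk, Coprime.conj_smul_eq_self_iff.mp ?_⟩
  rw [Coprime.conj_smul_mul, e, Coprime.conj_inv_smul_smul]

theorem sylow_inf_normal (P : Sylow p G) (A : Subgroup G) [A.Normal] :
    ∃ Q : Sylow p A, (Q : Subgroup A).map A.subtype = (P : Subgroup G) ⊓ A := by
  obtain ⟨R⟩ : Nonempty (Sylow p A) := inferInstance
  obtain ⟨S, hS⟩ := (R.2.map A.subtype).exists_le_sylow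
  obtain ⟨c, hc⟩ := MulAction.exists_smul_eq G S P
  let R' : Sylow p A :=
    { toSubgroup := ((P : Subgroup G) ⊓ A).subgroupOf A
      isPGroup' := (P.2.to_le inf_le_left).comap_subtype
      is_maximal' := fun {J} hJ hle => by
        refine (Subgroup.eq_of_le_of_card_ge hle ?_).symm
        have h1 : Nat.card J ≤ Nat.card R := by
          obtain ⟨R₂, hR₂⟩ := hJ.exists_le_sylow
          exact (Subgroup.card_le_of_le hR₂).trans (by rw [R₂.card_eq_multiplicity, R.card_eq_multiplicity])
        have h2 : Nat.card R ≤ Nat.card ((P : Subgroup G) ⊓ A : Subgroup G) := by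
          rw [← Subgroup.card_subtype]
          have hle2 : MulAut.conj c • (R : Subgroup A).map A.subtype ≤ (P : Subgroup G) ⊓ A := by
            refine le_inf ?_ ?_
            · rw [← hc, Sylow.coe_subgroup_smul]
              exact Subgroup.pointwise_smul_le_pointwise_smul_iff.mpr hS
            · exact le_trans (Subgroup.pointwise_smul_le_pointwise_smul_iff.mpr (map_subtype_le _))
                (le_of_eq (Coprime.conj_smul_eq_self_iff.mpr (normalizer_eq_top (H := A) ▸ mem_top c)))
          have := Subgroup.card_le_of_le hle2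
          rwa [Coprime.card_conj_smul] at this
        rw [Nat.card_congr (Subgroup.subgroupOfEquivOfLe (inf_le_right : (P : Subgroup G) ⊓ A ≤ A)).toEquiv]
        exact h1.trans h2 }
  exact ⟨R', Subgroup.map_subgroupOf_eq_of_le inf_le_right⟩

theorem le_normalizer_inf_normal (P : Sylow p G) (A : Subgroup G) [A.Normal] :
    (P : Subgroup G) ≤ normalizer (((P : Subgroup G) ⊓ A : Subgroup G) : Set G) :=
  (le_inf le_normalizer (normalizer_eq_top (H := A) ▸ le_top)).trans inf_normalizer_le_normalizer_inf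

/-- Every Sylow subgroup is conjugate to one meeting `A` in a given Sylow subgroup of `A`. -/
theorem exists_conj_inf (P : Sylow p G) (A : Subgroup G) [A.Normal] {T : Subgroup G} (Q : Sylow p A)
    (hT : (Q : Subgroup A).map A.subtype = T) : ∃ c : G, ((c • P : Sylow p G) : Subgroup G) ⊓ A = T := by
  obtain ⟨R, hR⟩ := sylow_inf_normal P A
  obtain ⟨a, ha⟩ := MulAction.exists_smul_eq A R Q
  refine ⟨a, ?_⟩
  rw [← hT, ← ha]
  show _ = ((MulAut.conj a • R : Sylow p A) : Subgroup A).map A.subtype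
  rw [Coprime.sylow_map_smul, hR, Sylow.coe_subgroup_smul, Subgroup.smul_inf,
    Coprime.conj_smul_eq_self_iff.mpr (le_normalizer a.2)]

/-- The normalizer condition follows from pronormality. -/
theorem map_normalizer_eq (A : Subgroup G) [A.Normal] {K : Subgroup G} (hK : Cfsg.IsPronormal K) :
    (normalizer (K : Set G)).map (QuotientGroup.mk' A) =
      normalizer ((K.map (QuotientGroup.mk' A) : Subgroup (G ⧸ A)) : Set (G ⧸ A)) := by
  set π := QuotientGroup.mk' A
  refine le_antisymm (le_normalizer_map π) fun y hy => ?_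
  obtain ⟨g, rfl⟩ := QuotientGroup.mk'_surjective A y
  obtain ⟨x, hx, e⟩ := hK g
  change MulAut.conj g • K = MulAut.conj x • K at e
  have hle : K ⊔ MulAut.conj g • K ≤ (K.map π).comap π := by
    refine sup_le (le_comap_map π K) ?_
    rintro _ ⟨k, hk, rfl⟩
    show π (g * k * g⁻¹) ∈ K.map π
    rw [map_mul, map_mul, map_inv]
    exact (mem_normalizer_iff.mp hy _).mp (Subgroup.mem_map_of_mem π hk)
  obtain ⟨k, hk, hkx⟩ := hle hx
  have hn : x⁻¹ * g ∈ normalizer (K : Set G) := by
    rw [← Coprime.conj_smul_eq_self_iff, Coprime.conj_smul_mul, e, Coprime.conj_inv_smul_smul]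
  exact ⟨k * (x⁻¹ * g), mul_mem (le_normalizer hk) hn, by rw [map_mul, map_mul, map_inv, hkx, mul_inv_cancel_left]⟩

omit [Finite G] hp in
theorem isPronormal_map {G' : Type*} [Group G'] (f : G →* G') (hf : Function.Surjective f) {K : Subgroup G}
    (h : Cfsg.IsPronormal K) : Cfsg.IsPronormal (K.map f) := by
  intro y
  obtain ⟨g, rfl⟩ := hf y
  obtain ⟨x, hx, e⟩ := h g
  have hc : ∀ z : G, (K.map f).map (MulAut.conj (f z)).toMonoidHom = (K.map (MulAut.conj z).toMonoidHom).map f := by
    intro z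
    rw [Subgroup.map_map, Subgroup.map_map]
    congr 1
    exact MonoidHom.ext fun w => by simp
  refine ⟨f x, ?_, by rw [hc, hc, e]⟩
  rw [hc, ← Subgroup.map_sup]
  exact Subgroup.mem_map_of_mem f hx

omit [Finite G] hp in
theorem isPronormal_subgroupOf {K N : Subgroup G} (hKN : K ≤ N) (h : Cfsg.IsPronormal K) :
    Cfsg.IsPronormal (K.subgroupOf N) := by
  intro g
  obtain ⟨x, hx, e⟩ := h g
  have hmap : ∀ a : N, ((K.subgroupOf N).map (MulAut.conj a).toMonoidHom).map N.subtype =
      K.map (MulAut.conj (a : G)).toMonoidHom := by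
    intro a
    conv_rhs => rw [← Subgroup.map_subgroupOf_eq_of_le hKN, Subgroup.map_map]
    rw [Subgroup.map_map]
    rfl
  have hx' : x ∈ (K.subgroupOf N ⊔ (K.subgroupOf N).map (MulAut.conj g).toMonoidHom).map N.subtype := by
    rw [Subgroup.map_sup, hmap, Subgroup.map_subgroupOf_eq_of_le hKN]; exact hx
  obtain ⟨y, hy, rfl⟩ := hx'
  exact ⟨y, hy, Subgroup.map_injective N.subtype_injective (by rw [hmap, hmap]; exact e)⟩

/-- The quotient of `N(T)` by `T` inherits the property. -/
theorem pro_normalizer_quotient (hG : Pro p G) (A : Subgroup G) [A.Normal] (T : Subgroup G)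
    (hT : ∃ P : Sylow p A, (P : Subgroup A).map A.subtype = T)
    [(T.subgroupOf (normalizer (T : Set G))).Normal] :
    Pro p (↥(normalizer (T : Set G)) ⧸ T.subgroupOf (normalizer (T : Set G))) := by
  set N := normalizer (T : Set G)
  rintro K ⟨R, hR⟩
  obtain ⟨Q, hQ⟩ := hT
  set π := QuotientGroup.mk' (T.subgroupOf N)
  obtain ⟨S₀, hS₀⟩ := Sylow.mapSurjective_surjective (QuotientGroup.mk'_surjective (T.subgroupOf N)) p R
  obtain ⟨P₀⟩ : Nonempty (Sylow p G) := inferInstance
  obtain ⟨c, hc⟩ := exists_conj_inf P₀ A Q hQ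
  set P := c • P₀
  have hPN : (P : Subgroup G) ≤ N := by
    have := le_normalizer_inf_normal P A
    rwa [hc] at this
  obtain ⟨n, hn⟩ := MulAction.exists_smul_eq N (P.subtype hPN) S₀
  have hle : (((n : G) • P : Sylow p G) : Subgroup G) ≤ (K.comap π).map N.subtype := by
    intro x hx
    have h1 : (S₀ : Subgroup N).map N.subtype = (((n : G) • P : Sylow p G) : Subgroup G) := by
      rw [← hn, Sylow.smul_def, Coprime.sylow_map_smul, Sylow.coe_subtype, Subgroup.map_subgroupOf_eq_of_le hPN]
      rfl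
    rw [← h1] at hx
    obtain ⟨y, hy, rfl⟩ := hx
    refine Subgroup.mem_map_of_mem _ (hR ?_)
    rw [← hS₀, Sylow.coe_mapSurjective]
    exact Subgroup.mem_map_of_mem π hy
  have h := isPronormal_subgroupOf (map_subtype_le (K.comap π)) (hG _ ⟨_, hle⟩)
  rw [show ((K.comap π).map N.subtype).subgroupOf N = K.comap π from
    Subgroup.comap_map_eq_self_of_injective N.subtype_injective _] at h
  have h' := isPronormal_map π (QuotientGroup.mk'_surjective _) h
  rwa [Subgroup.map_comap_eq_self_of_surjective (QuotientGroup.mk'_surjective _)] at h'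

/-- The criterion. -/
theorem pro_of_extension (A : Subgroup G) [A.Normal] (hA : Pro p A) (hQ : Pro p (G ⧸ A)) (T : Subgroup G)
    (hT : ∃ P : Sylow p A, (P : Subgroup A).map A.subtype = T)
    [(T.subgroupOf (normalizer (T : Set G))).Normal]
    (hN : Pro p (↥(normalizer (T : Set G)) ⧸ T.subgroupOf (normalizer (T : Set G))))
    (hii : ∀ K : Subgroup G, (∃ P : Sylow p G, (P : Subgroup G) ≤ K) →
      (normalizer (K : Set G)).map (QuotientGroup.mk' A) =
        normalizer ((K.map (QuotientGroup.mk' A) : Subgroup (G ⧸ A)) : Set (G ⧸ A))) : Pro p G := by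
  rintro H₀ ⟨P₀, hP₀⟩
  obtain ⟨Q, hQT⟩ := hT
  obtain ⟨c, hc⟩ := exists_conj_inf P₀ A Q hQT
  refine isPronormal_conj (c := c) ?_
  set H := MulAut.conj c • H₀
  set P := c • P₀
  have hPH : (P : Subgroup G) ≤ H := by
    simp only [P, Sylow.coe_subgroup_smul]
    exact Subgroup.pointwise_smul_le_pointwise_smul_iff.mpr hP₀
  set N := normalizer (T : Set G)
  set π := QuotientGroup.mk' A
  set K := H ⊓ A
  have hTA : T ≤ A := hQT ▸ map_subtype_le _
  have hTK : T ≤ K := le_inf ((hc ▸ inf_le_left).trans hPH) hTA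
  have hKH : H ≤ normalizer (K : Set G) := (le_inf le_normalizer (normalizer_eq_top (H := A) ▸ le_top)).trans inf_normalizer_le_normalizer_inf
  have hfr : ∀ m : G, m ∈ normalizer (K : Set G) → ∃ k ∈ K, k⁻¹ * m ∈ N := by
    intro m hm
    obtain ⟨QK, hQK⟩ : ∃ QK : Sylow p K, (QK : Subgroup K).map K.subtype = T := by
      refine ⟨Sylow.ofCard (T.subgroupOf K) ?_, Subgroup.map_subgroupOf_eq_of_le hTK⟩
      rw [Nat.card_congr (Subgroup.subgroupOfEquivOfLe hTK).toEquiv]
      obtain ⟨R⟩ : Nonempty (Sylow p K) := inferInstance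
      rw [← R.card_eq_multiplicity]
      refine le_antisymm ?_ ?_
      · obtain ⟨R', hR'⟩ := (show IsPGroup p (T.subgroupOf K) from ((hQT ▸ Q.2.map A.subtype : IsPGroup p T)).comap_subtype).exists_le_sylow
        calc Nat.card T = Nat.card (T.subgroupOf K) := (Nat.card_congr (Subgroup.subgroupOfEquivOfLe hTK).toEquiv).symm
          _ ≤ Nat.card R' := Subgroup.card_le_of_le hR'
          _ = Nat.card R := by rw [R'.card_eq_multiplicity, R.card_eq_multiplicity]
      · obtain ⟨R', hR'⟩ := (((R.2.map K.subtype).comap_subtype : IsPGroup p (((R : Subgroup K).map K.subtype).subgroupOf A))).exists_le_sylow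
        calc Nat.card R = Nat.card ((R : Subgroup K).map K.subtype) := (Subgroup.card_subtype K _).symm
          _ = Nat.card (((R : Subgroup K).map K.subtype).subgroupOf A) :=
            (Nat.card_congr (Subgroup.subgroupOfEquivOfLe ((map_subtype_le _).trans inf_le_right)).toEquiv).symm
          _ ≤ Nat.card R' := Subgroup.card_le_of_le hR'
          _ = Nat.card T := by rw [← hQT, Subgroup.card_subtype, R'.card_eq_multiplicity, Q.card_eq_multiplicity]
    exact exists_frattini QK hQK hm
  -- conjugates by `N_A(T) ⊓ N(K)`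
  have step3 : ∀ m ∈ N, m ∈ normalizer (K : Set G) → ∃ x ∈ H ⊔ MulAut.conj m • H, MulAut.conj m • H = MulAut.conj x • H := by
    intro m hmN hmK
    set HN := H ⊓ N
    have hPN : (P : Subgroup G) ≤ N := by
      have := le_normalizer_inf_normal P A
      rwa [hc] at this
    have hdec : H = K ⊔ HN := by
      refine le_antisymm (fun h hh => ?_) (sup_le inf_le_left inf_le_left)
      obtain ⟨k, hk, hkh⟩ := hfr h (hKH hh)
      rw [← mul_inv_cancel_left k h]
      exact mul_mem_sup hk (mem_inf.mpr ⟨mul_mem (inv_mem hk.1) hh, hkh⟩)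
    have hTHN : T ≤ HN := le_inf (hTK.trans inf_le_left) le_normalizer
    set ρ := QuotientGroup.mk' (T.subgroupOf N)
    have hsyl : ∃ R : Sylow p (↥N ⧸ T.subgroupOf N), (R : Subgroup (↥N ⧸ T.subgroupOf N)) ≤ (HN.subgroupOf N).map ρ := by
      refine ⟨(P.subtype hPN).mapSurjective (QuotientGroup.mk'_surjective _), ?_⟩
      rw [Sylow.coe_mapSurjective, Sylow.coe_subtype]
      exact Subgroup.map_mono (Subgroup.comap_mono (le_inf hPH hPN))
    obtain ⟨x, hx, e⟩ := hN _ hsyl (ρ ⟨m, hmN⟩)
    have hc' : ∀ z : N, ((HN.subgroupOf N).map ρ).map (MulAut.conj (ρ z)).toMonoidHom =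
        ((MulAut.conj (z : G) • HN).subgroupOf N).map ρ := by
      intro z
      have e1 : (MulAut.conj (z : G) • HN).subgroupOf N = (HN.subgroupOf N).map (MulAut.conj z).toMonoidHom := by
        apply Subgroup.map_injective N.subtype_injective
        rw [Subgroup.map_subgroupOf_eq_of_le (le_trans
          (Subgroup.pointwise_smul_le_pointwise_smul_iff.mpr inf_le_right) (le_of_eq (Coprime.conj_smul_eq_self_iff.mpr (le_normalizer z.2)))),
          ← Coprime.conj_smul_eq_map, Coprime.map_conj_smul, Subgroup.map_subgroupOf_eq_of_le (inf_le_right : HN ≤ N)]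
        rfl
      rw [e1, ← Coprime.conj_smul_eq_map, ← Coprime.conj_smul_eq_map, Coprime.map_conj_smul]
    rw [hc'] at hx
    rw [← Subgroup.map_sup] at hx
    obtain ⟨y, hy, rfl⟩ := hx
    rw [hc', hc'] at e
    have hker : ∀ z : N, T ≤ MulAut.conj (z : G) • HN := fun z => by
      conv_lhs => rw [← Coprime.conj_smul_eq_self_iff.mpr z.2]
      exact Subgroup.pointwise_smul_le_pointwise_smul_iff.mpr hTHN
    have hinN : ∀ z : N, MulAut.conj (z : G) • HN ≤ N := fun z => le_trans
      (Subgroup.pointwise_smul_le_pointwise_smul_iff.mpr inf_le_right) (le_of_eq (Coprime.conj_smul_eq_self_iff.mpr (le_normalizer z.2)))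
    have e' : MulAut.conj m • HN = MulAut.conj (y : G) • HN := by
      have h1 := congrArg (Subgroup.comap ρ) e
      have hs : ∀ z : N, (MulAut.conj (z : G) • HN).subgroupOf N ⊔ T.subgroupOf N = (MulAut.conj (z : G) • HN).subgroupOf N :=
        fun z => sup_eq_left.mpr (Subgroup.comap_mono (hker z))
      rw [Subgroup.comap_map_eq, Subgroup.comap_map_eq, QuotientGroup.ker_mk', hs ⟨m, hmN⟩, hs y] at h1
      have h2 := congrArg (Subgroup.map N.subtype) h1
      rwa [Subgroup.map_subgroupOf_eq_of_le (hinN ⟨m, hmN⟩), Subgroup.map_subgroupOf_eq_of_le (hinN y)] at h2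
    have hyJ : (y : G) ∈ HN ⊔ MulAut.conj m • HN := by
      have : HN.subgroupOf N ⊔ (MulAut.conj m • HN).subgroupOf N ≤ (HN ⊔ MulAut.conj m • HN).subgroupOf N :=
        sup_le (Subgroup.comap_mono le_sup_left) (Subgroup.comap_mono le_sup_right)
      exact this hy
    have hyK : (y : G) ∈ normalizer (K : Set G) := by
      refine (sup_le ?_ ?_ : HN ⊔ MulAut.conj m • HN ≤ normalizer (K : Set G)) hyJ
      · exact inf_le_left.trans hKH
      · exact smul_le_sup_of_le (inf_le_left.trans hKH) hmK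
    refine ⟨y, ?_, ?_⟩
    · exact (sup_le_sup inf_le_left (Subgroup.pointwise_smul_le_pointwise_smul_iff.mpr inf_le_left)) hyJ
    · conv_lhs => rw [hdec]
      conv_rhs => rw [hdec]
      rw [Subgroup.smul_sup, Subgroup.smul_sup, Coprime.conj_smul_eq_self_iff.mpr hmK,
        Coprime.conj_smul_eq_self_iff.mpr hyK, e']
  -- conjugates by `A`
  have step2 : ∀ b ∈ A, ∃ x ∈ H ⊔ MulAut.conj b • H, MulAut.conj b • H = MulAut.conj x • H := by
    intro b hb
    have hKsyl : ∃ R : Sylow p A, (R : Subgroup A) ≤ K.subgroupOf A := ⟨Q, fun z hz => hTK (hQT ▸ Subgroup.mem_map_of_mem _ hz)⟩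
    obtain ⟨w, hw, e⟩ := hA _ hKsyl ⟨b, hb⟩
    have hKc : ∀ z : A, ((K.subgroupOf A).map (MulAut.conj z).toMonoidHom).map A.subtype = MulAut.conj (z : G) • K := by
      intro z
      rw [← Coprime.conj_smul_eq_map, Coprime.map_conj_smul, Subgroup.map_subgroupOf_eq_of_le (inf_le_right : K ≤ A)]
      rfl
    have hwJ : (w : G) ∈ H ⊔ MulAut.conj b • H := by
      have h1 := Subgroup.mem_map_of_mem A.subtype hw
      rw [Subgroup.map_sup, hKc, Subgroup.map_subgroupOf_eq_of_le inf_le_right] at h1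
      exact (sup_le_sup inf_le_left (Subgroup.pointwise_smul_le_pointwise_smul_iff.mpr inf_le_left)) h1
    have e' : MulAut.conj b • K = MulAut.conj (w : G) • K := by rw [← hKc ⟨b, hb⟩, ← hKc w, e]
    have hd : (w : G)⁻¹ * b ∈ normalizer (K : Set G) := by
      rw [← Coprime.conj_smul_eq_self_iff, Coprime.conj_smul_mul, e', Coprime.conj_inv_smul_smul]
    obtain ⟨k, hk, hkN⟩ := hfr _ hd
    set m := k⁻¹ * ((w : G)⁻¹ * b)
    have hmK : m ∈ normalizer (K : Set G) := mul_mem (inv_mem (hKH hk.1)) hd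
    obtain ⟨x, hx, ex⟩ := step3 m hkN hmK
    set J := H ⊔ MulAut.conj b • H
    have hwk : (w : G) * k ∈ J := mul_mem hwJ (mem_sup_left hk.1)
    have hbm : b = (w : G) * k * m := by simp only [m]; group
    have hmJ : MulAut.conj m • H ≤ J := by
      have h1 : MulAut.conj b • H ≤ J := le_sup_right
      rw [show m = ((w : G) * k)⁻¹ * b by rw [hbm]; group, Coprime.conj_smul_mul]
      exact smul_le_sup_of_le h1 (inv_mem hwk)
    refine ⟨(w : G) * k * x, mul_mem hwk (sup_le le_sup_left hmJ hx), ?_⟩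
    rw [hbm, Coprime.conj_smul_mul _ m, ex, ← Coprime.conj_smul_mul]
  intro g
  show ∃ x ∈ H ⊔ MulAut.conj g • H, MulAut.conj g • H = MulAut.conj x • H
  obtain ⟨z, hz, e⟩ := hQ (H.map π) ⟨P.mapSurjective (QuotientGroup.mk'_surjective A),
    by rw [Sylow.coe_mapSurjective]; exact Subgroup.map_mono hPH⟩ (π g)
  have hconj : ∀ u : G, (H.map π).map (MulAut.conj (π u)).toMonoidHom = (MulAut.conj u • H).map π := by
    intro u
    exact (Coprime.map_conj_smul π u H).symm
  rw [hconj, ← Subgroup.map_sup] at hz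
  obtain ⟨x, hx, rfl⟩ := hz
  rw [hconj, hconj] at e
  have hy : π (x⁻¹ * g) ∈ (normalizer (H : Set G)).map π := by
    rw [hii H ⟨P, hPH⟩, ← Coprime.conj_smul_eq_self_iff, Subgroup.pointwise_smul_def]
    show (H.map π).map (MulAut.conj (π (x⁻¹ * g))).toMonoidHom = H.map π
    rw [hconj, Coprime.conj_smul_mul]
    have h2 := hconj x⁻¹
    have : (MulAut.conj x⁻¹ • MulAut.conj g • H).map π = ((MulAut.conj g • H).map π).map (MulAut.conj (π x⁻¹)).toMonoidHom := by
      rw [← Coprime.conj_smul_eq_map, Coprime.map_conj_smul]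
    rw [this, e, ← Coprime.conj_smul_eq_map, Coprime.map_conj_smul, map_inv, Coprime.conj_inv_smul_smul]
  obtain ⟨n, hn, hne⟩ := hy
  have hb : x⁻¹ * g * n⁻¹ ∈ A := by
    rw [← QuotientGroup.eq_one_iff]
    show π (x⁻¹ * g * n⁻¹) = 1
    rw [map_mul, map_inv, ← hne, mul_inv_cancel]
  set b := x⁻¹ * g * n⁻¹
  have hg : g = x * b * n := by simp only [b]; group
  set J := H ⊔ MulAut.conj g • H
  have hgb : MulAut.conj g • H = MulAut.conj x • MulAut.conj b • H := by
    rw [hg, Coprime.conj_smul_mul, Coprime.conj_smul_eq_self_iff.mpr hn, Coprime.conj_smul_mul]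
  obtain ⟨y, hy, ey⟩ := step2 b hb
  have hbJ : MulAut.conj b • H ≤ J := by
    have h1 : MulAut.conj g • H ≤ J := le_sup_right
    have h2 := smul_le_sup_of_le h1 (inv_mem hx)
    rwa [hgb, Coprime.conj_inv_smul_smul] at h2
  refine ⟨x * y, mul_mem hx (sup_le le_sup_left hbJ hy), ?_⟩
  rw [hgb, ey, Coprime.conj_smul_mul]

/-- A self-normalizing Sylow subgroup makes all overgroups pronormal. -/
theorem pro_of_self_normalizing (h : ∀ P : Sylow p G, normalizer ((P : Subgroup G) : Set G) = P) : Pro p G := by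
  rintro H ⟨P, hP⟩ g
  show ∃ x ∈ H ⊔ MulAut.conj g • H, MulAut.conj g • H = MulAut.conj x • H
  set J := H ⊔ MulAut.conj g • H
  have h1 : MulAut.conj g • (P : Subgroup G) ≤ J := le_trans (Subgroup.pointwise_smul_le_pointwise_smul_iff.mpr hP) le_sup_right
  obtain ⟨k, hk, e⟩ := Coprime.exists_conj_sylow_map h1 (P.subtype (hP.trans le_sup_left))
    (by rw [Coprime.card_conj_smul, Sylow.coe_subtype, Nat.card_congr (Subgroup.subgroupOfEquivOfLe (hP.trans le_sup_left)).toEquiv])
  rw [Sylow.coe_subtype, Subgroup.map_subgroupOf_eq_of_le (hP.trans le_sup_left)] at e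
  refine ⟨k, hk, ?_⟩
  have hn : k⁻¹ * g ∈ H := hP (h P ▸ Coprime.conj_smul_eq_self_iff.mp (by
    rw [Coprime.conj_smul_mul, e, Coprime.conj_inv_smul_smul]))
  conv_lhs => rw [show g = k * (k⁻¹ * g) by group]
  rw [Coprime.conj_smul_mul, Coprime.conj_smul_eq_self_iff.mpr (le_normalizer hn)]

/-- With self-normalizing Sylow subgroups in `G / A` the normalizer condition is automatic. -/
theorem map_normalizer_of_self_normalizing (A : Subgroup G) [A.Normal]
    (hQ : ∀ P : Sylow p (G ⧸ A), normalizer ((P : Subgroup (G ⧸ A)) : Set (G ⧸ A)) = P) {K : Subgroup G}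
    (hK : ∃ P : Sylow p G, (P : Subgroup G) ≤ K) :
    (normalizer (K : Set G)).map (QuotientGroup.mk' A) =
      normalizer ((K.map (QuotientGroup.mk' A) : Subgroup (G ⧸ A)) : Set (G ⧸ A)) := by
  refine le_antisymm (le_normalizer_map _) ?_
  obtain ⟨P, hP⟩ := hK
  set R := P.mapSurjective (QuotientGroup.mk'_surjective A)
  have hR : (R : Subgroup (G ⧸ A)) ≤ K.map (QuotientGroup.mk' A) := by
    rw [Sylow.coe_mapSurjective]; exact Subgroup.map_mono hP
  intro y hy
  obtain ⟨k, hk, hky⟩ := exists_frattini (R.subtype hR)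
    (by rw [Sylow.coe_subtype, Subgroup.map_subgroupOf_eq_of_le hR]) hy
  rw [hQ R] at hky
  have h : y ∈ K.map (QuotientGroup.mk' A) := by
    have := mul_mem hk (hR hky)
    rwa [mul_inv_cancel_left] at this
  exact Subgroup.map_mono le_normalizer h

end Cfsg.Agent.GroupStructure3.PronormalOvergroup
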