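import Mathlib

/-!
The automorphism group of the alternating group of degree six has at most 1440 elements.
-/

set_option autoImplicit false

namespace Cfsg.Agent.GroupStructure3.AutAltSix

/-- Composition of permutations given by their lists of images. -/
def mm (p q : List ℕ) : List ℕ := q.map fun i => p.getD i 0

/-- The images of a permutation. -/
def enc (g : Equiv.Perm (Fin 6)) : List ℕ := (List.finRange 6).map fun i => (g i).val

/-- All insertions of an element. -/
def ins (a : ℕ) : List ℕ → List (List ℕ)
  | [] => [[a]]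
  | b :: l => (a :: b :: l) :: (ins a l).map (b :: ·)

/-- All arrangements. -/
def arr : List ℕ → List (List ℕ)
  | [] => [[]]
  | a :: l => (arr l).flatMap (ins a)

/-- The number of inversions. -/
def invs : List ℕ → ℕ
  | [] => 0
  | a :: l => l.countP (fun b => decide (b < a)) + invs l

/-- The even permutations. -/
def evens : List (List ℕ) := (arr [0, 1, 2, 3, 4, 5]).filter fun p => invs p % 2 == 0

/-- The trivial permutation. -/
def one6 : List ℕ := [0, 1, 2, 3, 4, 5]

/-- The relation for the first generator. -/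
def isA (p : List ℕ) : Bool := mm p p == one6 && p != one6

/-- The relation for the second generator. -/
def isB (p : List ℕ) : Bool := let q := mm p p; mm q q == one6 && q != one6

/-- The relation for the product. -/
def isAB (p : List ℕ × List ℕ) : Bool :=
  let z := mm p.1 p.2
  mm z (mm z (mm z (mm z z))) == one6 && z != one6

/-- The possible images of the generators. -/
def imgs : List (List ℕ × List ℕ) :=
  ((evens.filter isA) ×ˢ (evens.filter isB)).filter isAB

theorem imgs_length : imgs.length = 1440 := by decide +kernel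

theorem enc_mem : ∀ g : Equiv.Perm (Fin 6), Equiv.Perm.sign g = 1 → enc g ∈ evens := by
  decide +kernel

theorem enc_injective : Function.Injective enc := by
  intro g h e
  ext i
  have := congrArg (fun l : List ℕ => l.getD i.val 0) e
  simpa [enc] using this

theorem enc_mul (g h : Equiv.Perm (Fin 6)) : enc (g * h) = mm (enc g) (enc h) := by
  simp only [enc, mm, List.map_map]
  refine List.map_congr_left fun i _ => ?_
  simp [Equiv.Perm.mul_apply]

theorem enc_one : enc 1 = one6 := by decide +kernel

/-- The first generator. -/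
def ga : alternatingGroup (Fin 6) :=
  ⟨Equiv.swap 0 1 * Equiv.swap 2 3, Equiv.Perm.mem_alternatingGroup.mpr (by decide)⟩

/-- The second generator. -/
def gb : alternatingGroup (Fin 6) :=
  ⟨(Equiv.swap 0 1 * Equiv.swap 1 2 * Equiv.swap 2 4) * Equiv.swap 3 5,
    Equiv.Perm.mem_alternatingGroup.mpr (by decide)⟩

theorem gens_rel : isA (enc ga) = true ∧ isB (enc gb) = true ∧ isAB (enc ga, enc gb) = true := by
  decide +kernel

/-- A three-cycle as a word in the generators. -/
def gc : alternatingGroup (Fin 6) :=
  ga * gb * gb * ga * gb * gb * gb * ga * gb * ga * gb * gb * ga * gb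

/-- A second three-cycle as a word in the generators. -/
def gd : alternatingGroup (Fin 6) := gb * gb * ga * gb * gb * gb * ga * gb * ga * gb * ga

theorem gcd_rel : gc ^ 3 = 1 ∧ gd ^ 3 = 1 ∧ gc * gd = gd * gc ∧ gd ≠ 1 ∧ gd ≠ gc ∧
    gd ≠ gc * gc ∧ gc ≠ 1 := by
  decide +kernel

attribute [local irreducible] ga gb gc gd

set_option maxRecDepth 4000 in
theorem gen_top : Subgroup.closure ({ga, gb} : Set (alternatingGroup (Fin 6))) = ⊤ := by
  set H := Subgroup.closure ({ga, gb} : Set (alternatingGroup (Fin 6)))
  have ha : ga ∈ H := Subgroup.subset_closure (Or.inl rfl)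
  have hb : gb ∈ H := Subgroup.subset_closure (Or.inr rfl)
  have hc : gc ∈ H := by
    unfold gc
    repeat (with_reducible first | exact ha | exact hb | apply mul_mem)
  have hd : gd ∈ H := by
    unfold gd
    repeat (with_reducible first | exact ha | exact hb | apply mul_mem)
  have h4 : 4 ∣ Nat.card H := by
    have h : orderOf gb = 4 := by
      haveI : Fact (Nat.Prime 2) := ⟨Nat.prime_two⟩
      exact orderOf_eq_prime_pow (p := 2) (n := 1) (by decide +kernel) (by decide +kernel)
    exact h ▸ Subgroup.orderOf_dvd_natCard H hb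
  have h5 : 5 ∣ Nat.card H := by
    have h : orderOf (ga * gb) = 5 := by
      haveI : Fact (Nat.Prime 5) := ⟨by norm_num⟩
      exact orderOf_eq_prime (by decide +kernel) (by decide +kernel)
    exact h ▸ Subgroup.orderOf_dvd_natCard H (mul_mem ha hb)
  have h9 : 9 ∣ Nat.card H := by
    haveI : Fact (Nat.Prime 3) := ⟨Nat.prime_three⟩
    obtain ⟨hc3, hd3, hcd, hd1, hdc, hdcc, hc1⟩ := gcd_rel
    let φ : Multiplicative (ZMod 3) × Multiplicative (ZMod 3) → H := fun x =>
      ⟨gc ^ x.1.toAdd.val * gd ^ x.2.toAdd.val, mul_mem (pow_mem hc _) (pow_mem hd _)⟩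
    let S : Subgroup (alternatingGroup (Fin 6)) := Subgroup.zpowers gc ⊔ Subgroup.zpowers gd
    have hS : S ≤ H := sup_le (Subgroup.zpowers_le.mpr hc) (Subgroup.zpowers_le.mpr hd)
    have hSc : IsMulCommutative (Subgroup.closure ({gc, gd} : Set (alternatingGroup (Fin 6)))) :=
      Subgroup.isMulCommutative_closure (by
        rintro a (rfl | rfl) b (rfl | rfl)
        exacts [rfl, hcd, hcd.symm, rfl])
    have hSe : S = Subgroup.closure ({gc, gd} : Set (alternatingGroup (Fin 6))) := by
      rw [Set.insert_eq, Subgroup.closure_union, ← Subgroup.zpowers_eq_closure,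
        ← Subgroup.zpowers_eq_closure]
    have hSp : IsPGroup 3 S := by
      rw [hSe]
      intro k
      refine ⟨1, ?_⟩
      obtain ⟨k, hk⟩ := k
      rw [pow_one]
      refine Subtype.ext (show k ^ 3 = 1 from ?_)
      induction hk using Subgroup.closure_induction with
      | mem z hz => rcases hz with rfl | rfl <;> assumption
      | one => exact one_pow 3
      | mul a b ha' hb' iha ihb =>
        rw [(show Commute a b from congrArg Subtype.val
          (hSc.is_comm.comm ⟨a, ha'⟩ ⟨b, hb'⟩)).mul_pow, iha, ihb, one_mul]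
      | inv a _ iha => rw [inv_pow, iha, inv_one]
    obtain ⟨k, hk⟩ := hSp.exists_card_eq
    refine dvd_trans ?_ (Subgroup.card_dvd_of_le hS)
    rw [hk]
    refine (pow_dvd_pow 3 (show 2 ≤ k from ?_))
    by_contra hlt
    have hzc : Nat.card (Subgroup.zpowers gc) = 3 := by
      rw [Nat.card_zpowers]
      exact orderOf_eq_prime hc3 hc1
    have heq : Subgroup.zpowers gc = S := Subgroup.eq_of_le_of_card_ge le_sup_left (by
      rw [hk, hzc]
      exact le_of_le_of_eq (Nat.pow_le_pow_right (by norm_num) (show k ≤ 1 by omega)) (pow_one 3))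
    have hmem : gd ∈ Subgroup.zpowers gc :=
      heq ▸ (le_sup_right : Subgroup.zpowers gd ≤ S) (Subgroup.mem_zpowers gd)
    rw [← mem_powers_iff_mem_zpowers] at hmem
    obtain ⟨i, hi⟩ := hmem
    have hi' : gd = gc ^ (i % 3) := by rw [← pow_eq_pow_mod i hc3]; exact hi.symm
    have hlt3 : i % 3 < 3 := Nat.mod_lt _ (by norm_num)
    interval_cases h : i % 3
    · exact hd1 (hi'.trans (pow_zero _))
    · exact hdc (hi'.trans (pow_one _))
    · exact hdcc (hi'.trans (pow_two _))
  have hA : Nat.card (alternatingGroup (Fin 6)) = 360 := by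
    rw [nat_card_alternatingGroup, Nat.card_fin]; rfl
  have h180 : 180 ∣ Nat.card H := Nat.Coprime.mul_dvd_of_dvd_of_dvd (m := 36) (n := 5)
    (by norm_num) (Nat.Coprime.mul_dvd_of_dvd_of_dvd (m := 4) (n := 9) (by norm_num) h4 h9) h5
  have hidx := H.card_mul_index
  obtain ⟨c, hcH⟩ := h180
  rw [hA, hcH] at hidx
  have h2 : c * H.index = 2 := by nlinarith
  have hle : H.index = 1 ∨ H.index = 2 :=
    (Nat.dvd_prime Nat.prime_two).mp ⟨c, by rw [mul_comm]; exact h2.symm⟩
  rcases hle with h | h
  · exact Subgroup.index_eq_one.mp h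
  · haveI := Subgroup.normal_of_index_eq_two h
    haveI : IsSimpleGroup (alternatingGroup (Fin 6)) := alternatingGroup.isSimpleGroup (by simp)
    rcases Subgroup.Normal.eq_bot_or_eq_top (inferInstance : H.Normal) with h' | h'
    · rw [h', Subgroup.index_bot, hA] at h
      omega
    · exact h'

theorem card_mulAut_le : Nat.card (MulAut (alternatingGroup (Fin 6))) ≤ 1440 := by
  classical
  have hmem : ∀ φ : MulAut (alternatingGroup (Fin 6)),
      (enc (φ ga), enc (φ gb)) ∈ imgs.toFinset := by
    intro φ
    have key : ∀ g : alternatingGroup (Fin 6), enc g = one6 ↔ g = 1 := fun g =>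
      ⟨fun h => Subtype.ext (enc_injective (h.trans enc_one.symm)), fun h => by rw [h]; exact enc_one⟩
    obtain ⟨hX, hY, hXY⟩ := gens_rel
    simp only [isA, isB, isAB, beq_iff_eq, bne_iff_ne, ne_eq, Bool.and_eq_true, ← enc_mul,
      ← Subgroup.coe_mul, key] at hX hY hXY
    simp only [List.mem_toFinset, imgs, List.mem_filter, List.mem_product, isA, isB, isAB,
      beq_iff_eq, bne_iff_ne, ne_eq, Bool.and_eq_true, ← enc_mul, ← Subgroup.coe_mul, key]
    refine ⟨⟨⟨enc_mem _ (Equiv.Perm.mem_alternatingGroup.mp (φ ga).2), ?_⟩,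
      enc_mem _ (Equiv.Perm.mem_alternatingGroup.mp (φ gb).2), ?_⟩, ?_⟩
    · simpa [← map_mul] using hX
    · simpa [← map_mul] using hY
    · simpa [← map_mul] using hXY
  haveI : Finite (MulAut (alternatingGroup (Fin 6))) :=
    Finite.of_injective (fun φ : MulAut (alternatingGroup (Fin 6)) => ⇑φ) DFunLike.coe_injective
  refine (Nat.card_le_card_of_injective
    (β := imgs.toFinset) (fun φ => ⟨_, hmem φ⟩) fun φ ψ e => ?_).trans ?_
  · have e' := congrArg Subtype.val e
    rw [Prod.mk.injEq] at e'
    refine MulEquiv.toMonoidHom_injective (MonoidHom.eq_of_eqOn_dense gen_top ?_)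
    rintro _ (rfl | rfl)
    exacts [Subtype.ext (enc_injective e'.1), Subtype.ext (enc_injective e'.2)]
  · rw [Nat.card_eq_finsetCard]
    exact imgs.toFinset_card_le.trans imgs_length.le

end Cfsg.Agent.GroupStructure3.AutAltSix
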