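import Mathlib

/-!
An odd-order automorphism of a doubly transitive group whose image of a point stabilizer leaves
invariant a set of size prime to the degree is induced by a permutation: the incidence matrix `A`
of the design satisfies `Aᵀ A = ν I + λ J` and `A ^ m = a I + b J` with `m` odd, so that `ν = s ^ 2`
and `k ≡ s` modulo the degree.
-/

set_option autoImplicit false

namespace Cfsg.Agent.GroupStructure3.DoublyTransitiveAut

open Matrix

/-- The arithmetic core. -/
theorem arith {n k lam a b ν : ℤ} {l : ℕ} (hn : 2 ≤ n) (hk0 : 0 < k) (hkn : k < n)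
    (hco : IsCoprime k n) (hν0 : 0 < ν) (hν : ν = k - lam) (hsq : k * k = ν + lam * n)
    (ha : a * a = ν ^ (2 * l + 1)) (hb : k ^ (2 * l + 1) = a + b * n) :
    k = 1 ∨ k = n - 1 := by
  have hdvd : ν ^ l ∣ a := by
    rw [← Int.pow_dvd_pow_iff (n := 2) two_ne_zero]
    exact ⟨ν, by rw [pow_two a, ha]; ring⟩
  obtain ⟨s, hs⟩ := hdvd
  have hs2 : s * s = ν := by
    refine mul_left_cancel₀ (pow_ne_zero (2 * l) hν0.ne') ?_
    calc ν ^ (2 * l) * (s * s) = a * a := by rw [hs]; ring
      _ = _ := by rw [ha, pow_succ]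
  have hs0 : s ≠ 0 := fun h => hν0.ne' (by rw [← hs2, h, mul_zero])
  have h1 : (k : ℤ) * k ≡ s * s [ZMOD n] := by
    rw [Int.modEq_iff_dvd]
    exact ⟨-lam, by rw [hs2, hsq]; ring⟩
  have h2 : k ^ (2 * l + 1) ≡ (s * s) ^ l * s [ZMOD n] := by
    rw [Int.modEq_iff_dvd]
    exact ⟨-b, by rw [hs2, ← hs, hb]; ring⟩
  have h3 : (k * k) ^ l * (k - s) ≡ 0 [ZMOD n] := by
    have h4 : (k * k) ^ l * s ≡ (s * s) ^ l * s [ZMOD n] := (h1.pow l).mul_right s
    have h5 := h2.sub h4
    rw [sub_self] at h5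
    rwa [show (k * k) ^ l * (k - s) = k ^ (2 * l + 1) - (k * k) ^ l * s by ring]
  have h6 : n ∣ k - s :=
    ((hco.symm.mul_right hco.symm).pow_right).dvd_of_dvd_mul_left (Int.modEq_zero_iff_dvd.mp h3)
  have hlam : lam * (n - 1) = k * (k - 1) := by rw [hν] at hsq; linarith
  have hle1 : ν ≤ k := by
    rw [hν]
    rcases le_or_gt 0 lam with h | h
    · linarith
    · exact absurd hlam (by nlinarith)
  have hle2 : ν ≤ n - k := by
    have : ν * (n - 1) ≤ (n - k) * (n - 1) := by rw [hν]; nlinarith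
    exact le_of_mul_le_mul_right this (by linarith)
  obtain ⟨c, hc⟩ := h6
  rcases lt_or_gt_of_ne hs0 with hneg | hpos
  · right
    have hc1 : c = 1 := by
      rcases lt_trichotomy c 1 with h | h | h
      · nlinarith
      · exact h
      · nlinarith
    subst hc1
    nlinarith
  · left
    have hc1 : c = 0 := by
      rcases lt_trichotomy c 0 with h | h | h
      · nlinarith
      · exact h
      · nlinarith
    subst hc1
    nlinarith

variable {Ω : Type*} [Fintype Ω] [DecidableEq Ω] {G : Subgroup (Equiv.Perm Ω)}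

omit [Fintype Ω] in
/-- Invariant matrices of a doubly transitive group. -/
theorem exists_eq_add (h2 : MulAction.IsMultiplyPretransitive G Ω 2) {u v : Ω} (huv : u ≠ v)
    (M : Matrix Ω Ω ℤ) (hM : ∀ (g : G) x y, M (g • x) (g • y) = M x y) :
    ∀ x y, M x y = (if x = y then M u u - M u v else 0) + M u v := by
  intro x y
  have htr : ∀ {a b c d : Ω}, a ≠ b → c ≠ d → ∃ g : G, g • a = c ∧ g • b = d :=
    MulAction.is_two_pretransitive_iff.mp h2
  by_cases hxy : x = y
  · subst hxy
    rw [if_pos rfl, sub_add_cancel]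
    rcases eq_or_ne x u with rfl | hxu
    · rfl
    obtain ⟨g, hg, -⟩ := htr huv hxu
    rw [← hg, hM]
  · rw [if_neg hxy, zero_add]
    obtain ⟨g, hg, hg'⟩ := htr huv hxy
    rw [← hg, ← hg', hM]

/-- The key combinatorial statement. -/
theorem card_eq_one_or (h2 : MulAction.IsMultiplyPretransitive G Ω 2) (o : Ω) (α : MulAut G)
    (hα : Odd (orderOf α)) (Δ : Finset Ω) (hΔ : ∀ g : G, g • o = o → ∀ x ∈ Δ, α g • x ∈ Δ)
    (hco : Nat.Coprime Δ.card (Fintype.card Ω)) (hn : 2 ≤ Fintype.card Ω) :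
    Δ.card = 1 ∨ Δ.card = Fintype.card Ω - 1 := by
  classical
  haveI := h2
  have htrans : MulAction.IsPretransitive G Ω :=
    MulAction.isPretransitive_of_is_two_pretransitive (G := G) (α := Ω)
  obtain ⟨v, hv⟩ : ∃ v, o ≠ v := by
    obtain ⟨v, hv⟩ := Fintype.exists_ne_of_one_lt_card hn o
    exact ⟨v, hv.symm⟩
  choose t ht using fun y => MulAction.exists_smul_eq G o y
  let A : Matrix Ω Ω ℤ := fun x y => if (α (t y))⁻¹ • x ∈ Δ then 1 else 0
  have hA : ∀ (g : G) x y, A (α g • x) (g • y) = A x y := by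
    intro g x y
    have hk : ((t y)⁻¹ * g⁻¹ * t (g • y)) • o = o := by
      rw [mul_smul, mul_smul, ht, inv_smul_smul]
      exact inv_smul_eq_iff.mpr (ht y).symm
    simp only [A]
    have hiff : (α (t (g • y)))⁻¹ • α g • x ∈ Δ ↔ (α (t y))⁻¹ • x ∈ Δ := by
      constructor
      · intro h
        have h1 := hΔ _ hk _ h
        rw [← mul_smul, ← mul_smul] at h1
        simpa [mul_assoc] using h1
      · intro h
        have h1 := hΔ _ (inv_smul_eq_iff.mpr hk.symm) _ h
        rw [← mul_smul] at h1 ⊢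
        simpa [mul_assoc] using h1
    simp only [hiff]
  set k : ℤ := (Δ.card : ℤ) with hk
  set n : ℤ := (Fintype.card Ω : ℤ) with hn'
  obtain ⟨J, hJ⟩ : ∃ J : Matrix Ω Ω ℤ, ∀ x y, J x y = 1 := ⟨Matrix.of fun _ _ => 1, fun _ _ => rfl⟩
  have hcol : ∀ y, ∑ x, A x y = k := by
    intro y
    simp only [A, Finset.sum_boole, hk]
    congr 1
    exact Finset.card_bij (fun x _ => (α (t y))⁻¹ • x) (fun x hx => (Finset.mem_filter.mp hx).2)
      (fun a _ b _ h => MulAction.injective _ h) (fun z hz => ⟨α (t y) • z, by simp [hz], by simp⟩)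
  have hrow : ∀ x, ∑ y, A x y = k := by
    intro x
    have hinv : ∀ (g : G) x, ∑ y, A (α g • x) y = ∑ y, A x y := fun g x =>
      (Fintype.sum_equiv (MulAction.toPerm g) _ _ (fun y => (hA g x y).symm)).symm
    have hconst : ∀ z, ∑ y, A z y = ∑ y, A x y := by
      intro z
      obtain ⟨g, hg⟩ := MulAction.exists_smul_eq G x z
      have := hinv (α.symm g) x
      rwa [MulEquiv.apply_symm_apply, hg] at this
    have h := Finset.sum_comm (s := Finset.univ) (t := Finset.univ) (f := fun a b => A a b)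
    rw [Finset.sum_congr rfl fun z _ => hconst z, Finset.sum_congr rfl fun z _ => hcol z,
      Finset.sum_const, Finset.sum_const, nsmul_eq_mul, nsmul_eq_mul, Finset.card_univ] at h
    exact mul_left_cancel₀ (by exact_mod_cast (show Fintype.card Ω ≠ 0 by omega)) h
  have hpow : ∀ (j : ℕ) (g : G) x y, (A ^ j) ((α ^ j) g • x) (g • y) = (A ^ j) x y := by
    intro j
    induction j with
    | zero =>
      intro g x y
      simp [Matrix.one_apply]
    | succ j ih =>
      intro g x y
      rw [pow_succ A, Matrix.mul_apply, Matrix.mul_apply]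
      refine (Fintype.sum_equiv (MulAction.toPerm (α g)) _ _ fun z => ?_).symm
      rw [MulAction.toPerm_apply, hA, pow_succ, MulAut.mul_apply, ih]
  have hAtA : ∀ (g : G) x y, (Aᵀ * A) (g • x) (g • y) = (Aᵀ * A) x y := by
    intro g x y
    rw [Matrix.mul_apply, Matrix.mul_apply]
    refine (Fintype.sum_equiv (MulAction.toPerm (α g)) _ _ fun z => ?_).symm
    rw [MulAction.toPerm_apply, Matrix.transpose_apply, Matrix.transpose_apply, hA, hA]
  set lam := (Aᵀ * A) o v with hlam
  set ν := k - lam with hν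
  have hdiag : (Aᵀ * A) o o = k := by
    rw [Matrix.mul_apply, ← hcol o]
    refine Finset.sum_congr rfl fun x _ => ?_
    rw [Matrix.transpose_apply]
    simp only [A]
    split_ifs <;> simp
  have hAA : Aᵀ * A = ν • (1 : Matrix Ω Ω ℤ) + lam • J := by
    ext x y
    rw [exists_eq_add h2 hv _ hAtA x y, hdiag, Matrix.add_apply, Matrix.smul_apply,
      Matrix.smul_apply, Matrix.one_apply, hJ, ← hlam, hν]
    split_ifs <;> simp
  have hAJ : Aᵀ * J * A = (k * k) • J := by
    ext x y
    rw [Matrix.mul_apply, Matrix.smul_apply, hJ]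
    simp only [Matrix.mul_apply, Matrix.transpose_apply, hJ, mul_one, hcol, ← Finset.mul_sum]
    rw [smul_eq_mul, mul_one]
  have hJA : J * A = k • J := by
    ext x y
    simp [Matrix.mul_apply, Matrix.smul_apply, hJ, hcol]
  have hJJ : J * J = n • J := by
    ext x y
    simp [Matrix.mul_apply, Matrix.smul_apply, hJ, hn']
  have hsq : k * k = ν + lam * n := by
    have h := congrArg (fun M : Matrix Ω Ω ℤ => ∑ y, M o y) hAA
    simp only [Matrix.mul_apply, Matrix.transpose_apply] at h
    rw [Finset.sum_comm] at h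
    simp only [← Finset.mul_sum, hrow, ← Finset.sum_mul, hcol] at h
    simp only [Matrix.add_apply, Matrix.smul_apply, Matrix.one_apply, hJ, smul_eq_mul, mul_ite,
      mul_one, mul_zero, Finset.sum_add_distrib, Finset.sum_ite_eq, Finset.mem_univ, if_true,
      Finset.sum_const, Finset.card_univ, nsmul_eq_mul] at h
    rw [hn']
    linarith
  have hgram : ∀ j : ℕ, ∃ c : ℤ, (Aᵀ) ^ j * A ^ j = ν ^ j • (1 : Matrix Ω Ω ℤ) + c • J := by
    intro j
    induction j with
    | zero => exact ⟨0, by simp⟩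
    | succ j ih =>
      obtain ⟨c, hc⟩ := ih
      refine ⟨ν ^ j * lam + c * (k * k), ?_⟩
      rw [pow_succ' (Aᵀ), pow_succ A, mul_assoc, ← mul_assoc ((Aᵀ) ^ j), hc, Matrix.add_mul,
        Matrix.mul_add, Matrix.smul_mul, Matrix.mul_smul, one_mul, hAA, Matrix.smul_mul,
        Matrix.mul_smul, ← mul_assoc, hAJ, pow_succ, smul_add, smul_smul, smul_smul, smul_smul,
        add_assoc, ← add_smul]
  obtain ⟨l, hl⟩ := hα
  set m := orderOf α with hm
  have hMinv : ∀ (g : G) x y, (A ^ m) (g • x) (g • y) = (A ^ m) x y := by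
    intro g x y
    have h := hpow m g x y
    rwa [pow_orderOf_eq_one, MulAut.one_apply] at h
  set a := (A ^ m) o o - (A ^ m) o v with ha
  set b := (A ^ m) o v with hb
  have hAm : A ^ m = a • (1 : Matrix Ω Ω ℤ) + b • J := by
    ext x y
    rw [exists_eq_add h2 hv _ hMinv x y]
    rw [Matrix.add_apply, Matrix.smul_apply, Matrix.smul_apply, Matrix.one_apply, hJ, ← hb, ← ha]
    split_ifs <;> simp
  obtain ⟨c, hc⟩ := hgram m
  rw [← Matrix.transpose_pow, hAm] at hc
  have hJT : Jᵀ = J := by ext x y; rw [Matrix.transpose_apply, hJ, hJ]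
  rw [Matrix.transpose_add, Matrix.transpose_smul, Matrix.transpose_smul, Matrix.transpose_one,
    hJT] at hc
  simp only [Matrix.add_mul, Matrix.mul_add, Matrix.smul_mul, Matrix.mul_smul, one_mul, mul_one,
    hJJ, smul_smul] at hc
  have e1 := congrFun (congrFun hc o) o
  have e2 := congrFun (congrFun hc o) v
  simp only [Matrix.add_apply, Matrix.smul_apply, Matrix.one_apply, hJ, hv, if_true, if_false,
    smul_eq_mul, mul_one, mul_zero, zero_add, add_zero] at e1 e2
  have hJm : ∀ j : ℕ, J * A ^ j = k ^ j • J := by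
    intro j
    induction j with
    | zero => simp
    | succ j ih => rw [pow_succ, ← mul_assoc, ih, Matrix.smul_mul, hJA, smul_smul, pow_succ]
  have e3 := congrFun (congrFun (hJm m) o) o
  rw [hAm] at e3
  simp only [Matrix.mul_add, Matrix.mul_smul, hJJ, mul_one, Matrix.add_apply, Matrix.smul_apply,
    hJ, smul_eq_mul] at e3
  have hkn : Δ.card < Fintype.card Ω := by
    refine lt_of_le_of_ne (Finset.card_le_univ Δ) fun h => ?_
    rw [h, Nat.coprime_self] at hco
    omega
  have hk0 : 0 < Δ.card := Nat.pos_of_ne_zero fun h => by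
    rw [h, Nat.coprime_zero_left] at hco
    omega
  have hν0 : 0 < ν := by
    have h1 : lam * (n - 1) = k * (k - 1) := by rw [hν] at hsq; linarith
    have h2' : (0 : ℤ) < k := by rw [hk]; exact_mod_cast hk0
    have h3 : k < n := by rw [hk, hn']; exact_mod_cast hkn
    have h4 : ν * (n - 1) = k * (n - k) := by rw [hν]; linarith
    rcases le_or_gt ν 0 with h | h
    · exfalso
      have : k * (n - k) ≤ 0 := h4 ▸ mul_nonpos_of_nonpos_of_nonneg h (by linarith)
      nlinarith
    · exact h
  rw [hl] at e1 e3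
  have hres := arith (n := n) (k := k) (lam := lam) (a := a) (b := b) (ν := ν) (l := l)
    (by rw [hn']; exact_mod_cast hn) (by rw [hk]; exact_mod_cast hk0)
    (by rw [hk, hn']; exact_mod_cast hkn) (by rw [hk, hn']; exact Nat.isCoprime_iff_coprime.mpr hco)
    hν0 hν hsq (by linarith) (by linarith)
  rcases hres with h | h
  · left; rw [hk] at h; exact_mod_cast h
  · right; rw [hk, hn'] at h; omega

omit [DecidableEq Ω] in
/-- The automorphism is induced by a permutation. -/
theorem induced_of_coprime (h2 : MulAction.IsMultiplyPretransitive G Ω 2) (o : Ω) (α : MulAut G)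
    (hα : Odd (orderOf α)) (ω : Ω)
    (hk : (Nat.card (MulAction.orbit ((MulAction.stabilizer G o).map α.toMonoidHom) ω)).Coprime
      (Fintype.card Ω)) :
    (∃ σ : Equiv.Perm Ω, σ ∈ Subgroup.normalizer (G : Set (Equiv.Perm Ω)) ∧
        ∀ g : G, ((α g : G) : Equiv.Perm Ω) = σ * (g : Equiv.Perm Ω) * σ⁻¹) ∧
      (Nat.card (MulAction.orbit ((MulAction.stabilizer G o).map α.toMonoidHom) ω) = 1 ∨
        Nat.card (MulAction.orbit ((MulAction.stabilizer G o).map α.toMonoidHom) ω) =
          Fintype.card Ω - 1) := by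
  classical
  set K := (MulAction.stabilizer G o).map α.toMonoidHom with hK
  haveI := h2
  have htrans : MulAction.IsPretransitive G Ω :=
    MulAction.isPretransitive_of_is_two_pretransitive (G := G) (α := Ω)
  have hcases : Nat.card (MulAction.orbit K ω) = 1 ∨
      Nat.card (MulAction.orbit K ω) = Fintype.card Ω - 1 := by
    rcases Nat.lt_or_ge (Fintype.card Ω) 2 with hn | hn
    · left
      haveI : Subsingleton Ω := Fintype.card_le_one_iff_subsingleton.mp (by omega)
      rw [Nat.card_eq_one_iff_unique]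
      exact ⟨inferInstance, ⟨⟨ω, MulAction.mem_orbit_self ω⟩⟩⟩
    have hΔ : ∀ g : G, g • o = o → ∀ x ∈ (MulAction.orbit K ω).toFinset,
        α g • x ∈ (MulAction.orbit K ω).toFinset := by
      intro g hg x hx
      rw [Set.mem_toFinset] at hx ⊢
      obtain ⟨k, rfl⟩ := hx
      exact ⟨⟨α g, Subgroup.mem_map_of_mem _ hg⟩ * k, mul_smul _ k ω⟩
    rw [Nat.card_eq_fintype_card, ← Set.toFinset_card] at hk ⊢
    exact card_eq_one_or h2 o α hα _ hΔ hk hn
  refine ⟨?_, hcases⟩
  obtain ⟨z, hz⟩ : ∃ z, ∀ k ∈ K, k • z = z := by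
    rcases hcases with h | h
    · refine ⟨ω, fun k hk' => ?_⟩
      have h1 := (Nat.card_eq_one_iff_unique.mp h).1
      exact congrArg Subtype.val (h1.elim ⟨k • ω, ⟨⟨k, hk'⟩, rfl⟩⟩ ⟨ω, MulAction.mem_orbit_self ω⟩)
    · have hc : ((MulAction.orbit K ω).toFinsetᶜ).card = 1 := by
        rw [Finset.card_compl, Set.toFinset_card]
        rw [Nat.card_eq_fintype_card] at h
        rw [h]
        have : 0 < Fintype.card Ω := Fintype.card_pos_iff.mpr ⟨o⟩
        omega
      obtain ⟨z, hz⟩ := Finset.card_eq_one.mp hc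
      refine ⟨z, fun k hk' => ?_⟩
      have h1 : k • z ∈ ((MulAction.orbit K ω).toFinsetᶜ) := by
        rw [Finset.mem_compl, Set.mem_toFinset]
        intro hmem
        have hzmem : z ∈ ((MulAction.orbit K ω).toFinsetᶜ) := hz ▸ Finset.mem_singleton_self z
        rw [Finset.mem_compl, Set.mem_toFinset] at hzmem
        obtain ⟨j, hj⟩ := hmem
        exact hzmem ⟨⟨k, hk'⟩⁻¹ * j, by
          change (k⁻¹ * (j : G)) • ω = z
          rw [mul_smul, show (j : G) • ω = k • z from hj, inv_smul_smul]⟩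
      rw [hz, Finset.mem_singleton] at h1
      exact h1
  have hKz : K = MulAction.stabilizer G z := by
    refine Subgroup.eq_of_le_of_card_ge (fun k hk' => hz k hk') (le_of_eq ?_)
    rw [hK, Subgroup.card_map_of_injective α.injective]
    obtain ⟨g, hg⟩ := MulAction.exists_smul_eq G o z
    rw [← hg]
    exact Nat.card_congr (MulAction.stabilizerEquivStabilizer (g := g) (b := g • o) rfl).symm.toEquiv
  choose t ht using fun y => MulAction.exists_smul_eq G o y
  let f : Ω → Ω := fun y => α (t y) • z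
  have hf : ∀ (g : G) y, f (g • y) = α g • f y := by
    intro g y
    have hk' : ((g * t y)⁻¹ * t (g • y)) ∈ MulAction.stabilizer G o := by
      rw [MulAction.mem_stabilizer_iff, mul_smul, ht, inv_smul_eq_iff, mul_smul, ht]
    have h1 := hz _ (Subgroup.mem_map_of_mem α.toMonoidHom hk')
    rw [MulEquiv.coe_toMonoidHom, map_mul, map_inv, mul_smul, inv_smul_eq_iff, map_mul, mul_smul]
      at h1
    exact h1
  have hfs : Function.Surjective f := by
    intro y
    obtain ⟨g, hg⟩ := MulAction.exists_smul_eq G (f o) y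
    exact ⟨α.symm g • o, by rw [hf, MulEquiv.apply_symm_apply, hg]⟩
  let σ : Equiv.Perm Ω := Equiv.ofBijective f (Finite.surjective_iff_bijective.mp hfs)
  have hσ : ∀ g : G, ((α g : G) : Equiv.Perm Ω) = σ * (g : Equiv.Perm Ω) * σ⁻¹ := by
    intro g
    rw [eq_mul_inv_iff_mul_eq]
    ext y
    exact (hf g y).symm
  refine ⟨σ, ?_, hσ⟩
  rw [Subgroup.mem_normalizer_iff]
  intro x
  constructor
  · intro hx
    exact hσ ⟨x, hx⟩ ▸ (α ⟨x, hx⟩).2
  · intro hx
    have h1 := hσ (α.symm ⟨_, hx⟩)
    rw [MulEquiv.apply_symm_apply] at h1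
    have h2' : x = ((α.symm ⟨_, hx⟩ : G) : Equiv.Perm Ω) :=
      mul_left_cancel (mul_right_cancel h1)
    exact h2' ▸ (α.symm ⟨_, hx⟩).2

end Cfsg.Agent.GroupStructure3.DoublyTransitiveAut
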