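import Cfsg.Agent.GroupStructure3.FrobRep
import Cfsg.Agent.S0042

/-!
Change of characteristic for fixed-point-free representations.
-/

set_option autoImplicit false

namespace Cfsg.Agent.GroupStructure3.FrobRep

open MonoidAlgebra

variable {H : Type*} [Group H]

/-- The norm element of the cyclic subgroup of `g`. -/
noncomputable def nrm (R : Type*) [Ring R] (g : H) : MonoidAlgebra R H :=
  ∑ i ∈ Finset.range (orderOf g), single (g ^ i)⁻¹ 1

theorem coeff_nrm_mul {R : Type*} [Ring R] (g : H) (a : MonoidAlgebra R H) (h : H) :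
    (nrm R g * a).coeff h = ∑ i ∈ Finset.range (orderOf g), a.coeff (g ^ i * h) := by
  rw [nrm, Finset.sum_mul, MonoidAlgebra.coeff_sum, Finset.sum_apply']
  refine Finset.sum_congr rfl fun i _ => ?_
  rw [coeff_single_mul_eq_mul_coeff (g ^ i * h) (fun m _ => inv_mul_eq_iff_eq_mul), one_mul]

theorem single_mul_nrm {R : Type*} [Ring R] (g : H) (i : ℕ) :
    single (g ^ i)⁻¹ 1 * nrm R g = nrm R g := by
  have h1 : single g⁻¹ 1 * nrm R g = nrm R g := by
    rw [nrm, Finset.mul_sum]
    have h2 := Finset.sum_range_succ (fun i => single (g ^ i)⁻¹ (1 : R)) (orderOf g)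
    rw [Finset.sum_range_succ' (fun i => single (g ^ i)⁻¹ (1 : R)) (orderOf g), pow_orderOf_eq_one,
      pow_zero] at h2
    refine Eq.trans ?_ (add_right_cancel h2)
    refine Finset.sum_congr rfl fun j _ => ?_
    rw [single_mul_single, one_mul, ← mul_inv_rev, ← pow_succ]
  induction i with
  | zero => rw [pow_zero, inv_one, ← one_def, one_mul]
  | succ i ih =>
    rw [pow_succ, mul_inv_rev, ← one_mul (1 : R), ← single_mul_single, mul_assoc, ih, h1]

theorem nrm_mul_self {R : Type*} [Ring R] (g : H) :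
    nrm R g * nrm R g = (orderOf g : MonoidAlgebra R H) * nrm R g := by
  conv_lhs => lhs; rw [nrm]
  rw [Finset.sum_mul, Finset.sum_congr rfl fun i _ => single_mul_nrm g i, Finset.sum_const,
    Finset.card_range, nsmul_eq_mul]

theorem isVec_iff {R : Type*} [Ring R] (a : MonoidAlgebra R H) :
    IsVec (fun h => a.coeff h) ↔ ∀ g : H, (orderOf g).Prime → nrm R g * a = 0 := by
  constructor
  · intro ha g hg
    ext h
    rw [coeff_nrm_mul, MonoidAlgebra.coeff_zero, Finsupp.zero_apply]
    exact ha g hg h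
  · intro ha g hg h
    rw [← coeff_nrm_mul, ha g hg, MonoidAlgebra.coeff_zero, Finsupp.zero_apply]

theorem isVec_mul_left [Finite H] {R : Type*} [Ring R] {a : MonoidAlgebra R H}
    (ha : ∀ g : H, (orderOf g).Prime → nrm R g * a = 0) (b : MonoidAlgebra R H) (g : H)
    (hg : (orderOf g).Prime) : nrm R g * (b * a) = 0 := by
  induction b using MonoidAlgebra.induction_linear with
  | zero => rw [zero_mul, mul_zero]
  | single m r =>
    ext h
    rw [coeff_nrm_mul, MonoidAlgebra.coeff_zero, Finsupp.zero_apply]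
    have hc : orderOf (MulAut.conj m⁻¹ g) = orderOf g := MulEquiv.orderOf_eq _ g
    have h1 := (isVec_iff a).2 ha (MulAut.conj m⁻¹ g) (by rw [hc]; exact hg) (m⁻¹ * h)
    rw [hc] at h1
    calc ∑ i ∈ Finset.range (orderOf g), (single m r * a).coeff (g ^ i * h)
        = ∑ i ∈ Finset.range (orderOf g),
            r * a.coeff ((MulAut.conj m⁻¹ g) ^ i * (m⁻¹ * h)) := by
          refine Finset.sum_congr rfl fun i _ => ?_
          rw [coeff_single_mul_eq_mul_coeff _ (fun m' _ => eq_inv_mul_iff_mul_eq.symm), ← map_pow,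
            MulAut.conj_apply, inv_inv]
          congr 2
          group
      _ = 0 := by rw [← Finset.mul_sum, h1, mul_zero]
  | add x y hx hy => rw [add_mul, mul_add, hx, hy, add_zero]

/-- Idempotent generator of the solutions modulo `p`. -/
theorem exists_idem [Finite H] {p : ℕ} [Fact p.Prime] (hH : ¬ p ∣ Nat.card H)
    {f : H → ZMod p} (hf : IsVec f) (hf0 : f ≠ 0) :
    ∃ e : MonoidAlgebra (ZMod p) H, e ≠ 0 ∧ e * e = e ∧
      ∀ g : H, (orderOf g).Prime → ∀ b, nrm (ZMod p) g * (b * e) = 0 := by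
  haveI : NeZero (Nat.card H : ZMod p) := ⟨fun h => hH ((ZMod.natCast_eq_zero_iff _ _).1 h)⟩
  let S : Ideal (MonoidAlgebra (ZMod p) H) :=
    { carrier := {a | ∀ g : H, (orderOf g).Prime → nrm (ZMod p) g * a = 0}
      add_mem' := fun {a b} ha hb g hg => by rw [mul_add, ha g hg, hb g hg, add_zero]
      zero_mem' := fun g hg => mul_zero _
      smul_mem' := fun b a ha g hg => isVec_mul_left ha b g hg }
  obtain ⟨e, he, hS⟩ := IsSemisimpleRing.ideal_eq_span_idempotent S
  refine ⟨e, fun h0 => hf0 ?_, he, fun g hg b => ?_⟩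
  · have hmem : MonoidAlgebra.ofCoeff (Finsupp.equivFunOnFinite.symm f) ∈ S := fun g hg => by
      refine (isVec_iff _).1 ?_ g hg
      simpa [Finsupp.coe_equivFunOnFinite_symm] using hf
    rw [hS, h0, Ideal.span_singleton_eq_bot.2 rfl, Ideal.mem_bot] at hmem
    funext h
    have := congrArg (fun a : MonoidAlgebra (ZMod p) H => a.coeff h) hmem
    simpa using this
  · exact isVec_mul_left (show e ∈ S by rw [hS]; exact Ideal.mem_span_singleton_self e) b g hg

theorem dvd_iff_map {p : ℕ} (a : MonoidAlgebra ℤ H) :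
    (p : MonoidAlgebra ℤ H) ∣ a ↔ mapRingHom H (Int.castRingHom (ZMod p)) a = 0 := by
  constructor
  · rintro ⟨b, rfl⟩
    rw [map_mul, map_natCast]
    have : ((p : ℕ) : MonoidAlgebra (ZMod p) H) = 0 := by
      rw [natCast_def, ZMod.natCast_self, single_zero]
    rw [this, zero_mul]
  · intro h
    have hd : ∀ x, (p : ℤ) ∣ a.coeff x := fun x => by
      have := congrArg (fun u : MonoidAlgebra (ZMod p) H => u.coeff x) h
      exact (ZMod.intCast_zmod_eq_zero_iff_dvd _ _).1 (by simpa using this)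
    refine ⟨MonoidAlgebra.ofCoeff (a.coeff.mapRange (· / (p : ℤ)) (Int.zero_ediv _)), ?_⟩
    ext x
    rw [natCast_def, coeff_single_one_mul, MonoidAlgebra.coeff_ofCoeff, Finsupp.mapRange_apply]
    exact (Int.mul_ediv_cancel' (hd x)).symm

/-- Lifted solutions modulo every power of `p`. -/
theorem exists_lift [Finite H] {p : ℕ} [Fact p.Prime] (hH : ¬ p ∣ Nat.card H)
    {f : H → ZMod p} (hf : IsVec f) (hf0 : f ≠ 0) (k : ℕ) :
    ∃ v : H → ℤ, (∃ h, ¬ (p : ℤ) ∣ v h) ∧ ∀ g : H, (orderOf g).Prime → ∀ h,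
      ((p : ℤ) ^ k) ∣ ∑ i ∈ Finset.range (orderOf g), v (g ^ i * h) := by
  obtain ⟨e, he0, hee, hNe⟩ := exists_idem hH hf hf0
  set π := mapRingHom H (Int.castRingHom (ZMod p)) with hπ
  -- idempotents modulo powers of `p`
  have hy : ∀ j : ℕ, ∃ y, π y = e ∧ (p : MonoidAlgebra ℤ H) ^ (j + 1) ∣ y * y - y := by
    intro j
    induction j with
    | zero =>
      refine ⟨MonoidAlgebra.ofCoeff (e.coeff.mapRange (fun u => (u.val : ℤ)) (by simp)), ?_, ?_⟩
      · ext x
        simp [hπ]
      · rw [pow_one, dvd_iff_map, ← hπ, map_sub, map_mul]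
        have : π (MonoidAlgebra.ofCoeff (e.coeff.mapRange (fun u => (u.val : ℤ)) (by simp))) = e := by
          ext x
          simp [hπ]
        rw [this, hee, sub_self]
    | succ j ih =>
      obtain ⟨y, hy1, d, hd⟩ := ih
      refine ⟨3 * (y * y) - 2 * (y * y * y), ?_, ?_⟩
      · simp only [map_sub, map_mul, map_ofNat, hy1, hee]
        noncomm_ring
      · have key : (3 * (y * y) - 2 * (y * y * y)) * (3 * (y * y) - 2 * (y * y * y)) -
            (3 * (y * y) - 2 * (y * y * y)) =
            (y * y - y) * (y * y - y) * (4 * (y * y - y) - 3) := by noncomm_ring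
        rw [key, hd]
        refine Dvd.dvd.mul_right ?_ _
        refine (pow_dvd_pow _ (by omega : j + 1 + 1 ≤ j + 1 + (j + 1))).trans ⟨d * d, ?_⟩
        have hc : Commute ((p : MonoidAlgebra ℤ H) ^ (j + 1)) d :=
          ((Nat.cast_commute p d).pow_left _)
        rw [pow_add _ (j + 1) (j + 1)]
        exact hc.symm.mul_mul_mul_comm _ _
  obtain ⟨y, hy1, hy2⟩ := hy k
  replace hy2 : (p : MonoidAlgebra ℤ H) ^ k ∣ y * y - y := (pow_dvd_pow _ (by omega)).trans hy2
  refine ⟨fun h => y.coeff h, ?_, fun g hg h => ?_⟩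
  · by_contra hall
    push Not at hall
    apply he0
    rw [← hy1]
    ext x
    simpa [hπ] using (ZMod.intCast_zmod_eq_zero_iff_dvd _ _).2 (hall x)
  · -- `|g| ^ j • (N y)` is divisible by `p ^ k`
    set N := nrm ℤ g with hN
    have hNy : ∀ a, (p : MonoidAlgebra ℤ H) ∣ N * a * y := by
      intro a
      rw [dvd_iff_map, ← hπ, map_mul, map_mul, hy1, mul_assoc]
      convert hNe g hg (π a) using 2
      rw [hN, hπ, nrm, nrm, map_sum]
      refine Finset.sum_congr rfl fun i _ => ?_
      ext x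
      simp
    have hpow : ∀ (j : ℕ) a, (p : MonoidAlgebra ℤ H) ^ j ∣ N ^ j * a * y ^ j := by
      intro j
      induction j with
      | zero => intro a; simp
      | succ j ih =>
        intro a
        obtain ⟨b, hb⟩ := hNy a
        obtain ⟨c, hc⟩ := ih b
        refine ⟨c, ?_⟩
        calc N ^ (j + 1) * a * y ^ (j + 1) = N ^ j * (N * a * y) * y ^ j := by
              rw [pow_succ N, pow_succ' y]; noncomm_ring
          _ = (p : MonoidAlgebra ℤ H) * (N ^ j * b * y ^ j) := by
              rw [hb, ← mul_assoc (N ^ j), (Nat.cast_commute p (N ^ j)).symm.eq]; noncomm_ring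
          _ = _ := by rw [hc, pow_succ', mul_assoc]
    have hyj : ∀ j : ℕ, (p : MonoidAlgebra ℤ H) ^ k ∣ y ^ (j + 1) - y := by
      intro j
      induction j with
      | zero => simp
      | succ j ih =>
        obtain ⟨b, hb⟩ := ih
        obtain ⟨c, hc⟩ := hy2
        refine ⟨b * y + c, ?_⟩
        calc y ^ (j + 1 + 1) - y = (y ^ (j + 1) - y) * y + (y * y - y) := by
              rw [pow_succ y (j + 1)]; noncomm_ring
          _ = _ := by rw [hb, hc]; noncomm_ring
    have hNj : ∀ j : ℕ, N ^ (j + 1) = (orderOf g : MonoidAlgebra ℤ H) ^ j * N := by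
      intro j
      induction j with
      | zero => simp
      | succ j ih => rw [pow_succ N (j + 1), ih, mul_assoc, nrm_mul_self, ← mul_assoc, ← pow_succ]
    rcases Nat.eq_zero_or_pos k with rfl | hk
    · simp
    obtain ⟨j, rfl⟩ : ∃ j, k = j + 1 := ⟨k - 1, by omega⟩
    obtain ⟨b, hb⟩ := hpow (j + 1) 1
    obtain ⟨c, hc⟩ := hyj j
    have hmain : (orderOf g : MonoidAlgebra ℤ H) ^ j * (N * y) =
        (p : MonoidAlgebra ℤ H) ^ (j + 1) * (b - N ^ (j + 1) * c) := by
      have h1 : y = y ^ (j + 1) - (p : MonoidAlgebra ℤ H) ^ (j + 1) * c := by rw [← hc]; abel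
      calc _ = N ^ (j + 1) * y := by rw [hNj, mul_assoc]
        _ = N ^ (j + 1) * y ^ (j + 1) - N ^ (j + 1) * ((p : MonoidAlgebra ℤ H) ^ (j + 1) * c) := by
            rw [← mul_sub, ← h1]
        _ = _ := by
            rw [mul_one] at hb
            rw [hb, ← mul_assoc, ((Nat.cast_commute p (N ^ (j + 1))).pow_left (j + 1)).symm.eq,
              mul_assoc, ← mul_sub]
    rw [← Nat.cast_pow, ← Nat.cast_pow] at hmain
    have hco := congrArg (fun u : MonoidAlgebra ℤ H => u.coeff h) hmain
    simp only [natCast_def, coeff_single_one_mul, hN, coeff_nrm_mul] at hco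
    have hcop : IsCoprime (((p ^ (j + 1) : ℕ)) : ℤ) (((orderOf g) ^ j : ℕ) : ℤ) := by
      rw [Int.isCoprime_iff_nat_coprime, Int.natAbs_natCast, Int.natAbs_natCast]
      refine Nat.Coprime.pow _ _ ((Nat.Prime.coprime_iff_not_dvd Fact.out).2 fun hd => hH ?_)
      exact hd.trans (orderOf_dvd_natCard g)
    have := hcop.dvd_of_dvd_mul_left ⟨_, hco⟩
    simpa using this

/-- Change of characteristic: a solution modulo `p ∤ |H|` gives an integral one. -/
theorem exists_vec_int_of_mod [Finite H] {p : ℕ} [Fact p.Prime] (hH : ¬ p ∣ Nat.card H)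
    {f : H → ZMod p} (hf : IsVec f) (hf0 : f ≠ 0) : ∃ u : H → ℤ, IsVec u ∧ u ≠ 0 := by
  classical
  haveI := Fintype.ofFinite H
  let M : Matrix ({g : H // (orderOf g).Prime} × H) H ℤ := fun r h' =>
    ∑ i ∈ Finset.range (orderOf r.1.1), if r.1.1 ^ i * r.2 = h' then 1 else 0
  have hM : ∀ (v : H → ℤ) (r : {g : H // (orderOf g).Prime} × H),
      M.mulVec v r = ∑ i ∈ Finset.range (orderOf r.1.1), v (r.1.1 ^ i * r.2) := by
    intro v r
    simp only [Matrix.mulVec, dotProduct, M, Finset.sum_mul]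
    rw [Finset.sum_comm]
    refine Finset.sum_congr rfl fun i _ => ?_
    simp
  by_cases hd : (M.transpose * M).det = 0
  · obtain ⟨v, hv0, hv⟩ := Matrix.exists_mulVec_eq_zero_iff.2 hd
    refine ⟨v, fun g hg h => ?_, hv0⟩
    have h1 : dotProduct (M.mulVec v) (M.mulVec v) = 0 := by
      rw [Matrix.dotProduct_mulVec, Matrix.vecMul_mulVec, ← Matrix.dotProduct_mulVec, hv,
        dotProduct_zero]
    have h2 := congrFun (dotProduct_self_eq_zero.1 h1) (⟨g, hg⟩, h)
    rw [hM, Pi.zero_apply] at h2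
    exact h2
  · exfalso
    set T := M.transpose * M with hT
    obtain ⟨v, ⟨h0, hh0⟩, hv⟩ := exists_lift hH hf hf0 (T.det.natAbs + 1)
    have hpd : ∀ h, (p : ℤ) ^ (T.det.natAbs + 1) ∣ T.mulVec v h := by
      intro h
      rw [hT, ← Matrix.mulVec_mulVec]
      refine Finset.dvd_sum fun r _ => Dvd.dvd.mul_left ?_ _
      rw [hM]
      exact hv r.1.1 r.1.2 r.2
    have h1 : (p : ℤ) ^ (T.det.natAbs + 1) ∣ T.det * v h0 := by
      have : (T.adjugate.mulVec (T.mulVec v)) h0 = T.det * v h0 := by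
        rw [Matrix.mulVec_mulVec, Matrix.adjugate_mul, Matrix.smul_mulVec, Matrix.one_mulVec]
        rfl
      rw [← this]
      exact Finset.dvd_sum fun r _ => Dvd.dvd.mul_left (hpd r) _
    have h2 := ((Nat.prime_iff_prime_int.1 Fact.out).coprime_iff_not_dvd.2 hh0).pow_left
      (m := T.det.natAbs + 1) |>.dvd_of_dvd_mul_right h1
    have h3 := Nat.le_of_dvd (Int.natAbs_pos.2 hd) (Int.natAbs_dvd_natAbs.2 h2)
    rw [Int.natAbs_pow, Int.natAbs_natCast] at h3
    have h4 := Nat.lt_pow_self (n := T.det.natAbs + 1) (Fact.out : p.Prime).one_lt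
    omega

/-- A Frobenius complement has a vanishing-sum function in some coprime characteristic. -/
theorem exists_vec_of_complement {L : Type*} [Group L] [Finite L] {C : Subgroup L}
    (hC : Cfsg.IsFrobeniusComplement C) (e : H ≃* C) : ∃ u : H → ℤ, IsVec u ∧ u ≠ 0 := by
  classical
  haveI : Finite H := Finite.of_equiv C e.symm.toEquiv
  obtain ⟨N, hNset, hNn, hc⟩ := Cfsg.Agent.Characters.frobenius_kernel_theorem hC
  obtain ⟨N', hN'set, -, hnil⟩ := S0042.result C hC
  obtain rfl : N' = N := SetLike.coe_injective (hN'set.trans hNset.symm)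
  haveI := hnil
  have hfpf := Cfsg.Agent.Solvable.Frobenius.fpf_of_kernel hC hc
  have hCN : C ≤ Subgroup.normalizer (N' : Set L) := Subgroup.le_normalizer_of_normal
  obtain ⟨V, hVN, hV0, hVab, hCV⟩ := Cfsg.Agent.Coprime.fpf_exists_abelian hCN hfpf
    (Or.inr inferInstance) (Cfsg.Agent.Solvable.Frobenius.kernel_ne_bot hC hc)
  have hfV := Cfsg.Agent.Coprime.fpf_mono hfpf le_rfl hVN
  obtain ⟨p, hp, hdvd⟩ := Nat.exists_prime_and_dvd (mt Subgroup.card_eq_one.mp hV0)
  haveI := Fact.mk hp
  letI : CommGroup V := { (inferInstance : Group V) with mul_comm := hVab.is_comm.comm }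
  let ρ : H →* MulAut V :=
    ((Subgroup.normalizerMonoidHom V).comp (Subgroup.inclusion hCV)).comp e.toMonoidHom
  letI : DistribMulAction H (Additive V) :=
    { smul := fun h x => Additive.ofMul (ρ h x.toMul)
      one_smul := fun x => by
        show Additive.ofMul (ρ 1 x.toMul) = x
        rw [map_one]; rfl
      mul_smul := fun a b x => by
        show Additive.ofMul (ρ (a * b) x.toMul) = Additive.ofMul (ρ a (ρ b x.toMul))
        rw [map_mul]; rfl
      smul_zero := fun a => congrArg Additive.ofMul (map_one (ρ a))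
      smul_add := fun a x y => congrArg Additive.ofMul (map_mul (ρ a) x.toMul y.toMul) }
  have hfix : ∀ h : H, h ≠ 1 → ∀ v : Additive V, h • v = v → v = 0 := by
    intro h hh v hv
    have h1 : ((e h : L)) * (v.toMul : L) * (e h : L)⁻¹ = v.toMul :=
      congrArg Subtype.val (congrArg Additive.toMul hv)
    have h2 := Cfsg.Agent.Coprime.fpf_eq_one hfV (e h).2
      (fun e1 => hh (e.injective (by rw [map_one]; exact Subtype.ext e1))) v.toMul.2
      (mul_inv_eq_iff_eq_mul.mp h1).symm
    exact congrArg Additive.ofMul (Subtype.ext h2 : v.toMul = 1)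
  obtain ⟨x, hx⟩ := exists_prime_orderOf_dvd_card' (G := V) p hdvd
  have hH : ¬ p ∣ Nat.card H := fun hd => by
    have hcop := Cfsg.Agent.Coprime.fpf_coprime hCV hfV
    rw [← Nat.card_congr e.toEquiv] at hcop
    exact hp.not_dvd_one (hcop ▸ Nat.dvd_gcd hd hdvd)
  obtain ⟨f, hf, hf0⟩ := exists_vec_mod_of_action (p := p) hfix (v := Additive.ofMul x)
    (fun h => by
      have : x = 1 := congrArg Additive.toMul h
      rw [this, orderOf_one] at hx
      exact hp.one_lt.ne hx)
    (by rw [← ofMul_pow, ← hx, pow_orderOf_eq_one, ofMul_one])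
  exact exists_vec_int_of_mod hH hf hf0

end Cfsg.Agent.GroupStructure3.FrobRep
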