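import Cfsg.Agent.Lib.Frobenius.Basic
import Mathlib

/-!
Frobenius complements from fixed-point-free actions on abelian groups, and the integral criterion.
-/

set_option autoImplicit false

namespace Cfsg.Agent.GroupStructure3.FrobRep

open scoped Pointwise

variable {H : Type*} [Group H]

/-- `H` is isomorphic to a Frobenius complement whose kernel has `m` elements. -/
def CompWith (H : Type*) [Group H] (m : ℕ) : Prop :=
  ∃ (L : Type) (_ : Group L) (_ : Finite L) (C : Subgroup L),
    Cfsg.IsFrobeniusComplement C ∧ Nonempty (H ≃* C) ∧ Nat.card (Cfsg.frobeniusKernel C) = m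

theorem CompWith.exists_complement {m : ℕ} (h : CompWith H m) :
    ∃ (L : Type) (_ : Group L) (_ : Finite L) (C : Subgroup L),
      Cfsg.IsFrobeniusComplement C ∧ Nonempty (H ≃* C) := by
  obtain ⟨L, i, j, C, h1, h2, -⟩ := h
  exact ⟨L, i, j, C, h1, h2⟩

/-- A group acting without fixed points on a finite abelian group is a Frobenius complement. -/
theorem compWith_of_action [Finite H] [Nontrivial H] {V : Type*} [AddCommGroup V] [Finite V]
    [Nontrivial V] [DistribMulAction H V] (hfix : ∀ h : H, h ≠ 1 → ∀ v : V, h • v = v → v = 0) :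
    CompWith H (Nat.card V) := by
  let φ : H →* MulAut (Multiplicative V) :=
    { toFun := fun h => AddEquiv.toMultiplicative (DistribMulAction.toAddEquiv V h)
      map_one' := MulEquiv.ext fun v => congrArg Multiplicative.ofAdd (one_smul H v.toAdd)
      map_mul' := fun a b => MulEquiv.ext fun v =>
        congrArg Multiplicative.ofAdd (mul_smul a b v.toAdd) }
  let L0 := Multiplicative V ⋊[φ] H
  haveI : Finite L0 := Finite.of_equiv _ SemidirectProduct.equivProd.symm
  haveI : Small.{0} L0 := inferInstance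
  let e : L0 ≃* Shrink.{0} L0 := (Shrink.mulEquiv).symm
  haveI : Finite (Shrink.{0} L0) := Finite.of_equiv _ e.toEquiv
  let ι : Multiplicative V →* Shrink.{0} L0 := e.toMonoidHom.comp SemidirectProduct.inl
  let κ : H →* Shrink.{0} L0 := e.toMonoidHom.comp SemidirectProduct.inr
  have hι : Function.Injective ι := e.injective.comp SemidirectProduct.inl_injective
  have hκ : Function.Injective κ := e.injective.comp SemidirectProduct.inr_injective
  have hnorm : ι.range.Normal := by
    have h1 : (SemidirectProduct.inl : Multiplicative V →* L0).range.Normal := by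
      rw [SemidirectProduct.range_inl_eq_ker_rightHom]; infer_instance
    rw [MonoidHom.range_comp]
    exact h1.map _ e.surjective
  obtain ⟨v, hv⟩ := exists_ne (0 : V)
  obtain ⟨h0, hh0⟩ := exists_ne (1 : H)
  have key := Cfsg.Agent.Frobenius.Basic.isFrobeniusComplement_of_fixedPointFree ι.range κ.range
    ?_ ?_ ?_ ?_ ?_
  · refine ⟨Shrink.{0} L0, inferInstance, inferInstance, κ.range, key.1,
      ⟨MonoidHom.ofInjective hκ⟩, ?_⟩
    rw [key.2]
    exact ((Nat.card_congr (MonoidHom.ofInjective hι).toEquiv).trans rfl).symm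
  · rw [Subgroup.eq_bot_iff_forall]
    rintro x ⟨⟨n, hn⟩, ⟨h, hh⟩⟩
    have hnh : (SemidirectProduct.inl n : L0) = SemidirectProduct.inr h :=
      e.injective (hn.trans hh.symm)
    have hn1 : n = 1 := by simpa using congrArg SemidirectProduct.left hnh
    rw [← hn, hn1, map_one]
  · rw [eq_top_iff]
    intro x _
    obtain ⟨y, rfl⟩ := e.surjective x
    rw [← SemidirectProduct.inl_left_mul_inr_right y, map_mul]
    exact mul_mem (Subgroup.mem_sup_left ⟨_, rfl⟩) (Subgroup.mem_sup_right ⟨_, rfl⟩)
  · intro h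
    have : ι (Multiplicative.ofAdd v) ∈ ι.range := ⟨_, rfl⟩
    rw [h, Subgroup.mem_bot, map_eq_one_iff ι hι] at this
    exact hv (by simpa using this)
  · intro h
    have : κ h0 ∈ κ.range := ⟨_, rfl⟩
    rw [h, Subgroup.mem_bot, map_eq_one_iff κ hκ] at this
    exact hh0 this
  · rintro _ ⟨h, rfl⟩ hh1 _ ⟨n, rfl⟩ hcomm
    have h' : (SemidirectProduct.inl n * SemidirectProduct.inr h : L0) =
        SemidirectProduct.inr h * SemidirectProduct.inl n := by
      refine e.injective ?_
      rw [map_mul, map_mul]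
      exact hcomm
    have h3 : φ h n = n := by
      have h2 := (congrArg SemidirectProduct.left h').symm
      rw [SemidirectProduct.mul_left, SemidirectProduct.mul_left] at h2
      simpa using h2
    have h4 := hfix h (fun e1 => hh1 (by rw [e1, map_one])) (Multiplicative.toAdd n)
      (congrArg Multiplicative.toAdd h3)
    have h5 : n = 1 := by
      apply Multiplicative.toAdd.injective
      simpa using h4
    rw [h5, map_one]

/-- A function on `H` whose sums along all cosets of the subgroups of prime order vanish. -/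
def IsVec {R : Type*} [AddCommMonoid R] (f : H → R) : Prop :=
  ∀ g : H, (orderOf g).Prime → ∀ h : H, ∑ i ∈ Finset.range (orderOf g), f (g ^ i * h) = 0

theorem exists_prime_orderOf_pow [Finite H] {g : H} (hg : g ≠ 1) :
    ∃ k : ℕ, (orderOf (g ^ k)).Prime := by
  obtain ⟨p, hp, hd⟩ := Nat.exists_prime_and_dvd (mt orderOf_eq_one_iff.1 hg)
  refine ⟨orderOf g / p, ?_⟩
  rw [orderOf_pow_orderOf_div (orderOf_pos g).ne' hd]
  exact hp

/-- A vanishing-sum function modulo a prime not dividing `|H|` gives a Frobenius complement. -/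
theorem exists_complement_of_vec [Finite H] [Nontrivial H] {l : ℕ} [hl : Fact l.Prime]
    (hH : ¬ l ∣ Nat.card H) {f : H → ZMod l} (hf : IsVec f) (hne : f ≠ 0) :
    ∃ (L : Type) (_ : Group L) (_ : Finite L) (C : Subgroup L),
      Cfsg.IsFrobeniusComplement C ∧ Nonempty (H ≃* C) := by
  let W : AddSubgroup (H → ZMod l) :=
    { carrier := {f | IsVec f}
      add_mem' := fun {a b} ha hb g hg h => by
        simp only [Pi.add_apply, Finset.sum_add_distrib, ha g hg h, hb g hg h, add_zero]
      zero_mem' := fun g hg h => by simp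
      neg_mem' := fun {a} ha g hg h => by
        simp only [Pi.neg_apply, Finset.sum_neg_distrib, ha g hg h, neg_zero] }
  have hshift : ∀ (a : H) (u : H → ZMod l), u ∈ W → (fun h => u (a⁻¹ * h)) ∈ W := by
    intro a u hu g hg h
    have hc : orderOf (MulAut.conj a⁻¹ g) = orderOf g := MulEquiv.orderOf_eq _ g
    have := hu (MulAut.conj a⁻¹ g) (by rw [hc]; exact hg) (a⁻¹ * h)
    rw [hc] at this
    refine (Finset.sum_congr rfl fun i _ => congrArg u ?_).trans this
    rw [← map_pow, MulAut.conj_apply, inv_inv]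
    group
  letI : DistribMulAction H W :=
    { smul := fun a u => ⟨fun h => u.1 (a⁻¹ * h), hshift a u.1 u.2⟩
      one_smul := fun u => Subtype.ext (funext fun h => by
        show u.1 (1⁻¹ * h) = u.1 h
        rw [inv_one, one_mul])
      mul_smul := fun a b u => Subtype.ext (funext fun h => by
        show u.1 ((a * b)⁻¹ * h) = u.1 (b⁻¹ * (a⁻¹ * h))
        rw [mul_inv_rev, mul_assoc])
      smul_zero := fun a => rfl
      smul_add := fun a u v => rfl }
  haveI : Nontrivial W :=
    nontrivial_of_ne ⟨f, hf⟩ 0 fun e => hne (congrArg Subtype.val e)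
  refine (compWith_of_action (V := W) fun a ha u hu => ?_).exists_complement
  obtain ⟨k, hk⟩ := exists_prime_orderOf_pow ha
  have hinv : ∀ h, u.1 (a * h) = u.1 h := fun h => by
    have h1 : u.1 (a⁻¹ * (a * h)) = u.1 (a * h) := congrFun (congrArg Subtype.val hu) (a * h)
    rw [inv_mul_cancel_left] at h1
    exact h1.symm
  have hpow : ∀ (n : ℕ) h, u.1 (a ^ n * h) = u.1 h := by
    intro n
    induction n with
    | zero => simp
    | succ n ih => intro h; rw [pow_succ', mul_assoc, hinv, ih]
  refine Subtype.ext (funext fun h => ?_)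
  have := u.2 (a ^ k) hk h
  simp only [← pow_mul, hpow, Finset.sum_const, Finset.card_range, nsmul_eq_mul] at this
  refine (mul_eq_zero.1 this).resolve_left fun h0 => hH ?_
  exact ((ZMod.natCast_eq_zero_iff _ _).1 h0).trans (orderOf_dvd_natCard _)

/-- An integral vanishing-sum function gives one modulo any prime. -/
theorem exists_vec_mod {f : H → ℤ} (hf : IsVec f) (hne : f ≠ 0) (l : ℕ) (hl : l.Prime) :
    ∃ u : H → ZMod l, IsVec u ∧ u ≠ 0 := by
  obtain ⟨h0, hh0⟩ := Function.ne_iff.1 hne
  suffices ∀ (n : ℕ) (f : H → ℤ), IsVec f → (f h0).natAbs = n → f h0 ≠ 0 →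
      ∃ u : H → ZMod l, IsVec u ∧ u ≠ 0 from this _ f hf rfl hh0
  intro n
  induction n using Nat.strong_induction_on with
  | _ n ih =>
    intro f hf hn h0ne
    by_cases hd : ∀ h, (l : ℤ) ∣ f h
    · choose g hg using hd
      refine ih (g h0).natAbs ?_ g (fun a ha h => ?_) rfl fun e => h0ne (by rw [hg, e, mul_zero])
      · rw [← hn, hg h0, Int.natAbs_mul, Int.natAbs_natCast]
        exact lt_mul_left (Int.natAbs_pos.2 fun e => h0ne (by rw [hg, e, mul_zero])) hl.one_lt
      · have := hf a ha h
        simp only [hg, ← Finset.mul_sum] at this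
        exact (mul_eq_zero.1 this).resolve_left (by exact_mod_cast hl.ne_zero)
    · obtain ⟨h, hh⟩ := not_forall.1 hd
      refine ⟨fun x => (f x : ZMod l), fun a ha x => ?_, fun e => hh ?_⟩
      · rw [← Int.cast_sum, hf a ha x, Int.cast_zero]
      · exact (ZMod.intCast_zmod_eq_zero_iff_dvd _ _).1 (congrFun e h)

theorem exists_complement_of_vec_int [Finite H] [Nontrivial H] {f : H → ℤ} (hf : IsVec f)
    (hne : f ≠ 0) :
    ∃ (L : Type) (_ : Group L) (_ : Finite L) (C : Subgroup L),
      Cfsg.IsFrobeniusComplement C ∧ Nonempty (H ≃* C) := by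
  obtain ⟨l, hl, hlp⟩ := Nat.exists_infinite_primes (Nat.card H + 1)
  haveI := Fact.mk hlp
  obtain ⟨u, hu, hu0⟩ := exists_vec_mod hf hne l hlp
  exact exists_complement_of_vec (fun h => by have := Nat.le_of_dvd Nat.card_pos h; omega) hu hu0

/-- A matrix coefficient of a fixed-point-free action is a vanishing-sum function. -/
theorem isVec_coeff {W : Type*} [AddCommGroup W] [DistribMulAction H W]
    (hfix : ∀ h : H, h ≠ 1 → ∀ v : W, h • v = v → v = 0) {R : Type*} [AddCommGroup R]
    (S : AddSubgroup W) (μ : S →+ R) (v : W) (hS : ∀ h : H, (h • v) ∈ S) :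
    IsVec fun h => μ ⟨(h • v), hS h⟩ := by
  intro g hg h
  have h0 : ∑ i ∈ Finset.range (orderOf g), ((g ^ i * h) • v) = 0 := by
    refine hfix g (fun e => ?_) _ ?_
    · rw [e, orderOf_one] at hg; exact Nat.not_prime_one hg
    · rw [Finset.smul_sum]
      have hA : ∀ i, g • ((g ^ i * h) • v) = ((g ^ (i + 1) * h) • v) := fun i => by
        rw [smul_smul, ← mul_assoc, ← pow_succ']
      simp only [hA]
      have h1 := Finset.sum_range_succ (fun i => ((g ^ i * h) • v)) (orderOf g)
      rw [Finset.sum_range_succ' (fun i => ((g ^ i * h) • v)) (orderOf g), pow_orderOf_eq_one,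
        pow_zero] at h1
      exact add_right_cancel h1
  rw [← map_sum]
  refine (congrArg μ (Subtype.ext ?_)).trans μ.map_zero
  rw [AddSubmonoidClass.coe_finsetSum]
  exact h0

/-- A group acting without fixed points on a torsion free group has an integral function. -/
theorem exists_vec_int [Finite H] {W : Type*} [AddCommGroup W] [IsAddTorsionFree W]
    [DistribMulAction H W] (hfix : ∀ h : H, h ≠ 1 → ∀ v : W, h • v = v → v = 0) {v : W} (hv : v ≠ 0) :
    ∃ f : H → ℤ, IsVec f ∧ f ≠ 0 := by
  let S : AddSubgroup W := AddSubgroup.closure (Set.range fun h : H => h • v)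
  have hS : ∀ h : H, (h • v) ∈ S := fun h => AddSubgroup.subset_closure ⟨h, rfl⟩
  haveI : AddGroup.FG S := AddGroup.closure_finite_fg _
  haveI : Module.Finite ℤ S := Module.Finite.iff_addGroup_fg.2 inferInstance
  haveI : Module.IsTorsionFree ℤ S := inferInstance
  haveI : Module.Free ℤ S := inferInstance
  have hv0 : (⟨(1 : H) • v, hS 1⟩ : S) ≠ 0 := fun e => hv (by
    simpa using congrArg Subtype.val e)
  obtain ⟨μ, hμ⟩ : ∃ μ : S →ₗ[ℤ] ℤ, μ ⟨(1 : H) • v, hS 1⟩ ≠ 0 := by
    by_contra hc
    push Not at hc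
    refine hv0 ((Module.Free.chooseBasis ℤ S).repr.injective ?_)
    ext i
    simpa using hc ((Module.Free.chooseBasis ℤ S).coord i)
  exact ⟨_, isVec_coeff hfix S μ.toAddMonoidHom v hS, fun e => hμ (congrFun e 1)⟩

theorem exists_hom_zmod {p : ℕ} [Fact p.Prime] {S : Type*} [AddCommGroup S] [Module (ZMod p) S]
    {x : S} (hx : x ≠ 0) : ∃ μ : S →+ ZMod p, μ x ≠ 0 := by
  obtain ⟨i, hi⟩ : ∃ i, (Module.Free.chooseBasis (ZMod p) S).repr x i ≠ 0 := by
    by_contra hc
    push Not at hc
    exact hx ((Module.Free.chooseBasis (ZMod p) S).repr.injective (by ext i; simpa using hc i))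
  exact ⟨((Module.Free.chooseBasis (ZMod p) S).coord i).toAddMonoidHom, hi⟩

/-- A group acting without fixed points on a group of prime exponent has a function modulo it. -/
theorem exists_vec_mod_of_action {W : Type*} [AddCommGroup W] {p : ℕ} [hp : Fact p.Prime]
    [DistribMulAction H W] (hfix : ∀ h : H, h ≠ 1 → ∀ v : W, h • v = v → v = 0) {v : W} (hv : v ≠ 0)
    (hpv : p • v = 0) : ∃ f : H → ZMod p, IsVec f ∧ f ≠ 0 := by
  let S : AddSubgroup W := (nsmulAddMonoidHom p).ker
  have hS : ∀ h : H, (h • v) ∈ S := fun h => by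
    show p • (h • v) = 0
    rw [smul_comm, hpv, smul_zero]
  have hkill : ∀ x : S, p • x = 0 := fun x => Subtype.ext x.2
  have hv0 : (⟨(1 : H) • v, hS 1⟩ : S) ≠ 0 := fun e => hv (by
    simpa using congrArg Subtype.val e)
  obtain ⟨μ, hμ⟩ := @exists_hom_zmod p _ ↥S _ (AddCommGroup.zmodModule hkill) _ hv0
  exact ⟨_, isVec_coeff hfix S μ v hS, fun e => hμ (congrFun e 1)⟩

/-- A finite group embedded in the units of a division ring is a Frobenius complement. -/
theorem exists_complement_of_hom [Finite H] [Nontrivial H] {D : Type*} [DivisionRing D]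
    (χ : H →* Dˣ) (hχ : Function.Injective χ) :
    ∃ (L : Type) (_ : Group L) (_ : Finite L) (C : Subgroup L),
      Cfsg.IsFrobeniusComplement C ∧ Nonempty (H ≃* C) := by
  letI : DistribMulAction H D := DistribMulAction.compHom D χ
  have hfix : ∀ h : H, h ≠ 1 → ∀ v : D, h • v = v → v = 0 := fun h hh v hv => by
    have h1 : ((χ h : D) - 1) * v = 0 := by
      rw [sub_mul, one_mul, sub_eq_zero]
      exact hv
    refine (mul_eq_zero.1 h1).resolve_left fun e => hh (hχ ?_)
    rw [map_one]
    exact Units.ext (sub_eq_zero.1 e)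
  obtain ⟨p, hp⟩ := CharP.exists D
  rcases CharP.char_is_prime_or_zero D p with hpp | rfl
  · haveI := Fact.mk hpp
    haveI : ExpChar D p := ExpChar.prime hpp
    have hH : ¬ p ∣ Nat.card H := fun hd => by
      obtain ⟨x, hx⟩ := exists_prime_orderOf_dvd_card' p hd
      have h1 : ((χ x : D) - 1) ^ p = 0 := by
        rw [sub_pow_expChar_of_commute p (Commute.one_right _), one_pow, ← Units.val_pow_eq_pow_val,
          ← map_pow, ← hx, pow_orderOf_eq_one, map_one, Units.val_one, sub_self]
      have h2 : χ x = 1 := Units.ext (sub_eq_zero.1 (pow_eq_zero_iff hpp.ne_zero |>.1 h1))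
      rw [← map_one χ] at h2
      rw [hχ h2, orderOf_one] at hx
      exact hpp.one_lt.ne hx
    obtain ⟨f, hf, hf0⟩ := exists_vec_mod_of_action (p := p) hfix (one_ne_zero (α := D)) (by
      rw [nsmul_eq_mul, CharP.cast_eq_zero, zero_mul])
    exact exists_complement_of_vec hH hf hf0
  · haveI : CharZero D := CharP.charP_to_charZero D
    obtain ⟨f, hf, hf0⟩ := exists_vec_int hfix (one_ne_zero (α := D))
    exact exists_complement_of_vec_int hf hf0

end Cfsg.Agent.GroupStructure3.FrobRep
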