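import Mathlib
import Cfsg.Agent.GroupStructure3.FrobRep
import Cfsg.Agent.GroupStructure3.FrobLift
import Cfsg.Agent.Lib.Perm.Fpf.Main

/-!
The properties of Frobenius complements used in the structure theorems.
-/

set_option autoImplicit false

namespace Cfsg.Agent.GroupStructure3.FrobStruct

open scoped MatrixGroups

universe u

/-- What is used about a Frobenius complement. -/
structure Props (G : Type u) [Group G] : Prop where
  cyclic : ∀ K : Subgroup G, IsMulCommutative K → IsCyclic K
  shape : ∀ (p : ℕ) [Fact p.Prime] (P : Subgroup G), IsPGroup p P →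
    IsCyclic P ∨ (p = 2 ∧ ∃ n : ℕ, Nonempty (P ≃* QuaternionGroup (2 ^ n)))
  inv : ∀ x y : G, orderOf x = 2 → orderOf y = 2 → x = y
  pq : ∀ b g : G, (orderOf b).Prime → (orderOf g).Prime → g * b * g⁻¹ ∈ Subgroup.zpowers b →
    Commute g b
  perfect : ∀ L : Subgroup G, Nontrivial L → commutator L = ⊤ → Nonempty (L ≃* SL(2, ZMod 5))

section Rep

variable {G : Type u} [Group G] [Finite G] {r : ℕ} [hr : Fact r.Prime] {V : Type u}
  [AddCommGroup V] [Module (ZMod r) V] [Finite V] [Nontrivial V]
variable (ρ : G →* Module.End (ZMod r) V) (hfix : ∀ g v, ρ g v = v → v ≠ 0 → g = 1)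

include hfix

theorem sum_orbit_eq_zero {x : G} (hx : x ≠ 1) (w : V) :
    ∑ i ∈ Finset.range (orderOf x), ρ (x ^ i) w = 0 := by
  by_contra hS
  refine hx (hfix x _ ?_ hS)
  rw [map_sum]
  have h1 := Finset.sum_range_succ' (fun i => ρ (x ^ i) w) (orderOf x)
  rw [Finset.sum_range_succ, pow_orderOf_eq_one] at h1
  simp only [pow_zero, pow_succ', map_mul, Module.End.mul_apply] at h1
  exact (add_right_cancel h1).symm

theorem commute_of_normalizes (hr' : ¬ r ∣ Nat.card G) (b g : G) (hb : (orderOf b).Prime)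
    (hg : (orderOf g).Prime) (hn : g * b * g⁻¹ ∈ Subgroup.zpowers b) : Commute g b := by
  by_contra hne
  haveI : Fact (orderOf g).Prime := ⟨hg⟩
  obtain ⟨v, hv⟩ := exists_ne (0 : V)
  set p := orderOf b with hp
  set q := orderOf g with hq
  have hnorm : ∀ c ∈ Subgroup.zpowers g, ∀ i : ℕ,
      b ^ i * c * (b ^ i)⁻¹ * c⁻¹ ∈ Subgroup.zpowers b := by
    intro c hc i
    have h1 : Subgroup.zpowers g ≤ Subgroup.normalizer (Subgroup.zpowers b : Set G) := by
      rw [Subgroup.zpowers_le, Subgroup.mem_normalizer_iff]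
      intro k
      have hsub : ∀ k ∈ Subgroup.zpowers b, g * k * g⁻¹ ∈ Subgroup.zpowers b := by
        rintro _ ⟨m, rfl⟩
        show g * b ^ m * g⁻¹ ∈ _
        rw [← conj_zpow]
        exact zpow_mem hn m
      refine ⟨hsub k, fun hk => ?_⟩
      have hinj : Function.Injective (fun k : Subgroup.zpowers b =>
          (⟨g * k * g⁻¹, hsub k k.2⟩ : Subgroup.zpowers b)) := fun a c e => Subtype.ext
        (mul_left_cancel (mul_right_cancel (congrArg Subtype.val e)))
      obtain ⟨k', hk'⟩ := (Finite.injective_iff_surjective.mp hinj) ⟨_, hk⟩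
      have := mul_left_cancel (mul_right_cancel (congrArg Subtype.val hk'))
      exact this ▸ k'.2
    rw [mul_assoc (b ^ i), mul_assoc (b ^ i)]
    exact mul_mem (Subgroup.npow_mem_zpowers b i)
      ((Subgroup.mem_normalizer_iff.mp (h1 hc) _).mp (inv_mem (Subgroup.npow_mem_zpowers b i)))
  have hrow : ∀ i : ℕ, ∑ j ∈ Finset.range q, ρ (b ^ i * g ^ j * (b ^ i)⁻¹) v = 0 := by
    intro i
    have h1 : orderOf (b ^ i * g * (b ^ i)⁻¹) = q := by
      rw [← MulAut.conj_apply, MulEquiv.orderOf_eq]
    have h2 := sum_orbit_eq_zero ρ hfix (x := b ^ i * g * (b ^ i)⁻¹) (fun e => by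
      rw [e, orderOf_one] at h1; exact hg.ne_one h1.symm) v
    rw [h1] at h2
    simpa only [conj_pow] using h2
  have hcol : ∀ j ∈ Finset.range q, j ≠ 0 →
      ∑ i ∈ Finset.range p, ρ (b ^ i * g ^ j * (b ^ i)⁻¹) v = 0 := by
    intro j hj hj0
    set c := g ^ j with hc
    have hcb : ¬ Commute c b := by
      intro h
      refine hne ?_
      have hco : j.Coprime (orderOf g) := ((hg.coprime_iff_not_dvd).mpr fun hd =>
        absurd (Nat.le_of_dvd (by omega) hd) (by rw [Finset.mem_range] at hj; omega)).symm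
      obtain ⟨m, hm⟩ := exists_pow_eq_self_of_coprime hco
      rw [← hm]
      exact h.pow_left m
    haveI : NeZero p := ⟨hb.ne_zero⟩
    let u : Fin p → Subgroup.zpowers b :=
      fun i => ⟨_, hnorm c (Subgroup.npow_mem_zpowers g j) i⟩
    have hu : Function.Injective u := by
      intro i k e
      have h1 : b ^ (i : ℕ) * c * (b ^ (i : ℕ))⁻¹ = b ^ (k : ℕ) * c * (b ^ (k : ℕ))⁻¹ :=
        mul_right_cancel (congrArg Subtype.val e)
      by_contra hik
      refine hcb ?_
      set s : G := (b ^ (k : ℕ))⁻¹ * b ^ (i : ℕ) with hs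
      have h2 : Commute c s := by
        show c * s = s * c
        calc c * s = (b ^ (k : ℕ))⁻¹ * (b ^ (k : ℕ) * c * (b ^ (k : ℕ))⁻¹) * b ^ (i : ℕ) := by
              rw [hs]; group
          _ = (b ^ (k : ℕ))⁻¹ * (b ^ (i : ℕ) * c * (b ^ (i : ℕ))⁻¹) * b ^ (i : ℕ) := by rw [h1]
          _ = s * c := by rw [hs]; group
      have hs1 : s ≠ 1 := fun e1 => hik (Fin.ext (pow_injOn_Iio_orderOf i.2 k.2
        (inv_mul_eq_one.mp e1).symm))
      have hsb : s ∈ Subgroup.zpowers b :=
        mul_mem (inv_mem (Subgroup.npow_mem_zpowers b _)) (Subgroup.npow_mem_zpowers b _)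
      haveI : Fact (Nat.card (Subgroup.zpowers b)).Prime := ⟨by rw [Nat.card_zpowers]; exact hb⟩
      obtain ⟨m, hm⟩ := Subgroup.mem_zpowers_iff.mp ((zpowers_eq_top_of_prime_card
        (g := (⟨s, hsb⟩ : Subgroup.zpowers b)) rfl (fun e1 => hs1 (congrArg Subtype.val e1))).symm ▸
          Subgroup.mem_top (⟨b, Subgroup.mem_zpowers b⟩ : Subgroup.zpowers b))
      have hm' : s ^ m = b := congrArg Subtype.val hm
      rw [← hm']
      exact h2.zpow_right m
    let u₀ : Fin p → Subgroup.zpowers b := finEquivZPowers (isOfFinOrder_of_finite b)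
    haveI := Fintype.ofFinite (Subgroup.zpowers b)
    have hbij : Function.Bijective u := (Nat.bijective_iff_injective_and_card u).mpr
      ⟨hu, by rw [Nat.card_fin, Nat.card_zpowers]⟩
    have h3 : ∑ i : Fin p, ρ ((u i : G)) (ρ c v) = 0 := by
      rw [Fintype.sum_bijective u hbij (fun i => ρ ((u i : G)) (ρ c v))
        (fun k => ρ (k : G) (ρ c v)) (fun i => rfl),
        ← Fintype.sum_bijective u₀ (finEquivZPowers (isOfFinOrder_of_finite b)).bijective
        (fun i => ρ (b ^ (i : ℕ)) (ρ c v)) (fun k => ρ (k : G) (ρ c v)) (fun i => rfl),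
        Fin.sum_univ_eq_sum_range (fun i => ρ (b ^ i) (ρ c v))]
      exact sum_orbit_eq_zero ρ hfix (fun e => by
        rw [hp, e, orderOf_one] at hb; exact Nat.not_prime_one hb) _
    rw [← Fin.sum_univ_eq_sum_range (fun i => ρ (b ^ i * c * (b ^ i)⁻¹) v), ← h3]
    refine Finset.sum_congr rfl fun i _ => ?_
    rw [← Module.End.mul_apply, ← map_mul]
    simp only [u, inv_mul_cancel_right]
  have htot : ∑ j ∈ Finset.range q, ∑ i ∈ Finset.range p, ρ (b ^ i * g ^ j * (b ^ i)⁻¹) v = 0 := by
    rw [Finset.sum_comm]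
    exact Finset.sum_eq_zero fun i _ => hrow i
  rw [Finset.sum_eq_single_of_mem 0 (Finset.mem_range.mpr hg.pos) hcol] at htot
  simp only [pow_zero, mul_one, mul_inv_cancel, map_one, Module.End.one_apply, Finset.sum_const,
    Finset.card_range] at htot
  rw [← Nat.cast_smul_eq_nsmul (ZMod r), smul_eq_zero, ZMod.natCast_eq_zero_iff] at htot
  exact hr' ((htot.resolve_right hv).trans (orderOf_dvd_natCard b))

theorem eq_of_involutions (x y : G) (hx : orderOf x = 2) (hy : orderOf y = 2) : x = y := by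
  obtain ⟨v, hv⟩ := exists_ne (0 : V)
  have hneg : ∀ z : G, orderOf z = 2 → ρ z v = -v := by
    intro z hz
    have h := sum_orbit_eq_zero ρ hfix (x := z) (fun e => by rw [e, orderOf_one] at hz; omega) v
    rw [hz] at h
    simp only [Finset.sum_range_succ, Finset.sum_range_zero, zero_add, pow_zero, map_one,
      Module.End.one_apply, pow_one] at h
    exact eq_neg_of_add_eq_zero_right h
  have hxy : ρ (x⁻¹ * y) v = v := by
    rw [map_mul, Module.End.mul_apply, hneg y hy, map_neg,
      hneg x⁻¹ (by rw [orderOf_inv, hx]), neg_neg]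
  exact inv_mul_eq_one.mp (hfix _ v hxy hv)

end Rep

/-- A Frobenius complement has the properties `Props`. -/
theorem props_of_complement {G : Type u} [Group G] [Finite G]
    (hFC : ∃ (L : Type) (_ : Group L) (_ : Finite L) (H : Subgroup L),
      Cfsg.IsFrobeniusComplement H ∧ Nonempty (G ≃* H)) : Props G := by
  classical
  obtain ⟨L, _, _, C, hC, ⟨e⟩⟩ := hFC
  obtain ⟨f, hf, hf0⟩ := FrobRep.exists_vec_of_complement hC e
  obtain ⟨l, hl1, hl⟩ := Nat.exists_infinite_primes (Nat.card G + 1)
  haveI : Fact l.Prime := ⟨hl⟩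
  have hG : ¬ l ∣ Nat.card G := fun h => absurd (Nat.le_of_dvd Nat.card_pos h) (by omega)
  obtain ⟨u, hu, hu0⟩ := FrobRep.exists_vec_mod hf hf0 l hl
  let W : Submodule (ZMod l) (G → ZMod l) :=
    { carrier := {f | FrobRep.IsVec f}
      add_mem' := fun {a b} ha hb g hg h => by
        simp only [Pi.add_apply, Finset.sum_add_distrib, ha g hg h, hb g hg h, add_zero]
      zero_mem' := fun g hg h => by simp
      smul_mem' := fun c {a} ha g hg h => by
        simp only [Pi.smul_apply, smul_eq_mul, ← Finset.mul_sum, ha g hg h, mul_zero] }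
  have hshift : ∀ (a : G), ∀ w ∈ W, LinearMap.funLeft (ZMod l) (ZMod l) (a⁻¹ * ·) w ∈ W := by
    intro a w hw g hg h
    have hc : orderOf (MulAut.conj a⁻¹ g) = orderOf g := MulEquiv.orderOf_eq _ g
    have := hw (MulAut.conj a⁻¹ g) (by rw [hc]; exact hg) (a⁻¹ * h)
    rw [hc] at this
    refine (Finset.sum_congr rfl fun i _ => ?_).trans this
    show w (a⁻¹ * (g ^ i * h)) = _
    refine congrArg w ?_
    rw [← map_pow, MulAut.conj_apply, inv_inv]
    group
  let ρ : G →* Module.End (ZMod l) W :=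
    { toFun := fun a => (LinearMap.funLeft (ZMod l) (ZMod l) (a⁻¹ * ·)).restrict (hshift a)
      map_one' := LinearMap.ext fun w => Subtype.ext (funext fun h => by
        show w.1 (1⁻¹ * h) = w.1 h
        rw [inv_one, one_mul])
      map_mul' := fun a b => LinearMap.ext fun w => Subtype.ext (funext fun h => by
        show w.1 ((a * b)⁻¹ * h) = w.1 (b⁻¹ * (a⁻¹ * h))
        rw [mul_inv_rev, mul_assoc]) }
  haveI : Nontrivial W := nontrivial_of_ne ⟨u, hu⟩ 0 fun h => hu0 (congrArg Subtype.val h)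
  haveI : Finite W := inferInstance
  have hfix : ∀ g w, ρ g w = w → w ≠ 0 → g = 1 := by
    intro a w hw hw0
    by_contra ha
    obtain ⟨k, hk⟩ := FrobRep.exists_prime_orderOf_pow ha
    have hinv : ∀ h, w.1 (a * h) = w.1 h := fun h => by
      have h1 : w.1 (a⁻¹ * (a * h)) = w.1 (a * h) := congrFun (congrArg Subtype.val hw) (a * h)
      rw [inv_mul_cancel_left] at h1
      exact h1.symm
    have hpow : ∀ (n : ℕ) h, w.1 (a ^ n * h) = w.1 h := by
      intro n
      induction n with
      | zero => simp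
      | succ n ih => intro h; rw [pow_succ', mul_assoc, hinv, ih]
    refine hw0 (Subtype.ext (funext fun h => ?_))
    have := w.2 (a ^ k) hk h
    simp only [← pow_mul, hpow, Finset.sum_const, Finset.card_range, nsmul_eq_mul] at this
    refine (mul_eq_zero.1 this).resolve_left fun h0 => hG ?_
    exact ((ZMod.natCast_eq_zero_iff _ _).1 h0).trans (orderOf_dvd_natCard _)
  exact
    { cyclic := fun K hK => Perm.Fpf.isCyclic_of_abelian ρ hfix K hK
      shape := fun p _ P hP => Perm.Fpf.pgroup_shape ρ hfix P hP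
      inv := eq_of_involutions ρ hfix
      pq := commute_of_normalizes ρ hfix hG
      perfect := fun L _ hL => Perm.Fpf.iso_sl25 (ρ.comp L.subtype)
        (fun g v h hv => Subtype.ext (hfix g v h hv)) hL }

end Cfsg.Agent.GroupStructure3.FrobStruct
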