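import Mathlib
import Cfsg.Agent.Lib.PGroups.UniqueSubgroup
import Cfsg.Agent.Lib.PLocal.Cores
import Cfsg.Agent.Lib.PLocal.PSolvable
import Cfsg.Agent.Lib.PLocal.SolvableSeparable
import Cfsg.Agent.Lib.Coprime.Commutator
import Cfsg.Agent.Lib.CharTheory.BrauerSuzuki.Complement

/-!
Solvable groups with a unique involution: the structure modulo the odd core.
-/

set_option autoImplicit false

namespace Cfsg.Agent.GroupStructure3.FrobSolvable

open scoped commutatorElement
open Cfsg Cfsg.Agent.PLocal.Cores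

/-- Two commuting involutions of a Z-group coincide. -/
theorem eq_of_zgroup {G : Type*} [Group G] [Finite G] [IsZGroup G] {x y : G} (hx : orderOf x = 2)
    (hy : orderOf y = 2) (hc : Commute x y) : x = y := by
  haveI : Fact (Nat.Prime 2) := ⟨Nat.prime_two⟩
  set K : Subgroup G := Subgroup.closure {x, y}
  haveI hKc : IsMulCommutative K := Subgroup.isMulCommutative_closure (by
    rintro a (rfl | rfl) b (rfl | rfl)
    exacts [rfl, hc, hc.symm, rfl])
  have hK : IsPGroup 2 K := by
    intro k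
    refine ⟨1, ?_⟩
    rw [pow_one]
    let T : Subgroup K :=
      { carrier := {k | k ^ 2 = 1}
        one_mem' := one_pow 2
        mul_mem' := fun {a b} ha hb => by
          show (a * b) ^ 2 = 1
          rw [(show Commute a b from hKc.is_comm.comm a b).mul_pow, ha, hb, one_mul]
        inv_mem' := fun {a} ha => by
          show a⁻¹ ^ 2 = 1
          rw [inv_pow, ha, inv_one] }
    have hk : k ∈ T := by
      obtain ⟨k, hk⟩ := k
      induction hk using Subgroup.closure_induction with
      | mem z hz =>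
        refine Subtype.ext (show z ^ 2 = 1 from ?_)
        rcases hz with rfl | rfl
        · rw [← hx, pow_orderOf_eq_one]
        · rw [← hy, pow_orderOf_eq_one]
      | one => exact one_mem _
      | mul a b ha hb iha ihb => exact T.mul_mem iha ihb
      | inv a ha iha => exact T.inv_mem iha
    exact hk
  haveI : IsZGroup K := IsZGroup.of_injective (f := K.subtype) K.subtype_injective
  haveI : IsCyclic K := hK.isCyclic_of_isZGroup
  have hxK : x ∈ K := Subgroup.subset_closure (Or.inl rfl)
  have hyK : y ∈ K := Subgroup.subset_closure (Or.inr rfl)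
  have h := Cfsg.Agent.CharTheory.BrauerSuzuki.subgroup_eq_of_card
    (Subgroup.zpowers (⟨x, hxK⟩ : K)) (Subgroup.zpowers (⟨y, hyK⟩ : K))
    (by simp only [Nat.card_zpowers, Subgroup.orderOf_mk, hx, hy])
  obtain ⟨m, hm⟩ := Subgroup.mem_zpowers_iff.mp
    (h ▸ Subgroup.mem_zpowers _ : (⟨y, hyK⟩ : K) ∈ Subgroup.zpowers (⟨x, hxK⟩ : K))
  have hy' : y = x ^ m := (congrArg Subtype.val hm).symm
  rcases Int.even_or_odd m with ⟨j, rfl⟩ | ⟨j, rfl⟩
  · exfalso
    rw [← two_mul, zpow_mul, show x ^ (2 : ℤ) = 1 by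
      rw [show (2 : ℤ) = ((2 : ℕ) : ℤ) from rfl, zpow_natCast, ← hx, pow_orderOf_eq_one],
      one_zpow] at hy'
    rw [hy', orderOf_one] at hy
    omega
  · rw [hy', zpow_add_one, zpow_mul, show x ^ (2 : ℤ) = 1 by
      rw [show (2 : ℤ) = ((2 : ℕ) : ℤ) from rfl, zpow_natCast, ← hx, pow_orderOf_eq_one],
      one_zpow, one_mul]

theorem exists_commutator_four : ∀ σ : Equiv.Perm (Fin 4), σ ≠ 1 → ∃ g : Equiv.Perm (Fin 4),
    Equiv.Perm.sign g = 1 ∧ σ * g * σ⁻¹ * g⁻¹ ≠ 1 ∧
      (σ * g * σ⁻¹ * g⁻¹) * (σ * g * σ⁻¹ * g⁻¹) = 1 := by decide +kernel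

theorem exists_conj_four : ∀ c : Equiv.Perm (Fin 4), c * c = 1 → c ≠ 1 → Equiv.Perm.sign c = 1 →
    ∃ h : Equiv.Perm (Fin 4),
      Equiv.Perm.sign h = 1 ∧ h * c * h⁻¹ ≠ c ∧ (h * c * h⁻¹) * c = c * (h * c * h⁻¹) := by
  decide +kernel

/-- A subgroup of `Perm (Fin 4)` over the alternating group has no non-trivial normal Z-subgroup. -/
theorem normal_zgroup_eq_bot {R K : Subgroup (Equiv.Perm (Fin 4))}
    (hR : alternatingGroup (Fin 4) ≤ R) (hK : ∀ g ∈ R, ∀ k ∈ K, g * k * g⁻¹ ∈ K) [IsZGroup K] :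
    K = ⊥ := by
  rw [Subgroup.eq_bot_iff_forall]
  intro σ hσ
  by_contra h1
  obtain ⟨g, hg, hc1, hc2⟩ := exists_commutator_four σ h1
  set c := σ * g * σ⁻¹ * g⁻¹ with hc
  have hcK : c ∈ K := by
    rw [hc, mul_assoc σ g, mul_assoc σ]
    exact K.mul_mem hσ (hK g (hR (Equiv.Perm.mem_alternatingGroup.mpr hg)) _ (K.inv_mem hσ))
  have hcs : Equiv.Perm.sign c = 1 := by
    rw [hc, map_mul, map_mul, map_mul, map_inv, map_inv, hg]
    simp
  obtain ⟨h, hh, hne, hcomm⟩ := exists_conj_four c hc2 hc1 hcs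
  have hdK : h * c * h⁻¹ ∈ K := hK h (hR (Equiv.Perm.mem_alternatingGroup.mpr hh)) _ hcK
  haveI : Fact (Nat.Prime 2) := ⟨Nat.prime_two⟩
  have ho : orderOf c = 2 := orderOf_eq_prime (by rw [pow_two, hc2]) hc1
  have ho' : orderOf (h * c * h⁻¹) = 2 := by
    rw [← MulAut.conj_apply, MulEquiv.orderOf_eq]; exact ho
  have := eq_of_zgroup (x := (⟨h * c * h⁻¹, hdK⟩ : K)) (y := ⟨c, hcK⟩)
    (by rw [Subgroup.orderOf_mk]; exact ho') (by rw [Subgroup.orderOf_mk]; exact ho)
    (Subtype.ext hcomm)
  exact hne (congrArg Subtype.val this)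

theorem quaternion_pow_four : ∀ q : QuaternionGroup 2, q ^ 4 = 1 := by decide +kernel

section Core

variable {X : Type*} [Group X] [Finite X]

theorem isPGroup_two_of_forall (h : ∀ x : X, (orderOf x).Coprime 2 → x = 1) : IsPGroup 2 X := by
  intro x
  haveI : Fact (Nat.Prime 2) := ⟨Nat.prime_two⟩
  obtain ⟨k, hk⟩ := Cfsg.Agent.Transfer.NormalPComplement.exists_pow_coprime (p := 2)
    (orderOf_pos x).ne'
  exact ⟨k, h _ hk⟩

theorem isPGroup_mulAut_cyclic {A : Type*} [Group A] [Finite A] [IsCyclic A] (hA : IsPGroup 2 A) :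
    IsPGroup 2 (MulAut A) := by
  haveI : Fact (Nat.Prime 2) := ⟨Nat.prime_two⟩
  obtain ⟨k, hk⟩ := hA.exists_card_eq
  rcases k with _ | k
  · refine IsPGroup.of_card (n := 0) ?_
    rw [IsCyclic.card_mulAut, hk, pow_zero, Nat.totient_one]
  · refine IsPGroup.of_card (n := k) ?_
    rw [IsCyclic.card_mulAut, hk, Nat.totient_prime_pow_succ Nat.prime_two]
    simp

theorem coprime_isPGroup_eq_one {A : Type*} [Group A] {p : ℕ} [Fact p.Prime] (hA : IsPGroup p A)
    {a : A} (ha : (orderOf a).Coprime p) : a = 1 := by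
  obtain ⟨k, hk⟩ := IsPGroup.iff_orderOf.mp hA a
  rw [hk] at ha
  rcases k with _ | k
  · rwa [pow_zero, orderOf_eq_one_iff] at hk
  · exact absurd ((Nat.coprime_pow_left_iff (Nat.succ_pos k) _ _).mp ha)
      (by rw [Nat.coprime_self]; exact (Fact.out : p.Prime).ne_one)

/-- The trichotomy, for trivial odd core. -/
theorem core_cases [Group.IsSolvable X] (hO : pPrimeCore 2 X = ⊥)
    (huniq : ∀ x y : X, orderOf x = 2 → orderOf y = 2 → x = y) :
    IsPGroup 2 X ∨ (∃ f : X →* Equiv.Perm (Fin 4),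
      Nat.card f.ker = 2 ∧ alternatingGroup (Fin 4) ≤ f.range) := by
  classical
  haveI hp2 : Fact (Nat.Prime 2) := ⟨Nat.prime_two⟩
  set F : Subgroup X := pCore 2 X with hF
  have hFp : IsPGroup 2 F := isPGroup_pCore
  haveI hFn : F.Normal := inferInstance
  haveI : Group.IsSolvable (Subgroup.centralizer (F : Set X)) :=
    Coprime.isSolvable_of_le le_top (by infer_instance)
  have hCF : Subgroup.centralizer (F : Set X) ≤ F :=
    PLocal.PSolvable.centralizer_pCore_le hO
      (PLocal.SolvableSeparable.isPSolvable_of_isSolvable 2 _)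
  have hodd : ∀ x : X, (orderOf x).Coprime 2 → x ∈ Subgroup.centralizer (F : Set X) → x = 1 := by
    intro x hx hc
    have h1 : (⟨x, hCF hc⟩ : F) = 1 :=
      coprime_isPGroup_eq_one hFp (by rwa [Subgroup.orderOf_mk])
    exact congrArg Subtype.val h1
  have hcent : ∀ (A : Subgroup X) [A.Normal] [IsCyclic A], IsPGroup 2 A →
      ∀ x : X, (orderOf x).Coprime 2 → x ∈ Subgroup.centralizer (A : Set X) := by
    intro A _ _ hA x hx
    have h1 : (MulAut.conjNormal x : MulAut A) = 1 := coprime_isPGroup_eq_one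
      (isPGroup_mulAut_cyclic hA) (Nat.Coprime.coprime_dvd_left (orderOf_map_dvd _ _) hx)
    intro a ha
    have h2 := congrArg Subtype.val (DFunLike.congr_fun h1 (⟨a, ha⟩ : A))
    rw [MulAut.conjNormal_apply] at h2
    exact (mul_inv_eq_iff_eq_mul.mp h2).symm
  have huS : ∀ H K : Subgroup F, Nat.card H = 2 → Nat.card K = 2 → H = K := by
    intro H K hH hK
    obtain ⟨h, hh⟩ := exists_prime_orderOf_dvd_card' (G := H) 2 (by rw [hH])
    obtain ⟨k, hk⟩ := exists_prime_orderOf_dvd_card' (G := K) 2 (by rw [hK])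
    have e : (h : F) = k := Subtype.ext (huniq _ _
      (by rw [Subgroup.orderOf_coe, Subgroup.orderOf_coe]; exact hh)
      (by rw [Subgroup.orderOf_coe, Subgroup.orderOf_coe]; exact hk))
    have hHz : Subgroup.zpowers (h : F) = H := Subgroup.eq_of_le_of_card_ge
      (Subgroup.zpowers_le.mpr h.2) (by rw [hH, Nat.card_zpowers, Subgroup.orderOf_coe, hh])
    have hKz : Subgroup.zpowers (k : F) = K := Subgroup.eq_of_le_of_card_ge
      (Subgroup.zpowers_le.mpr k.2) (by rw [hK, Nat.card_zpowers, Subgroup.orderOf_coe, hk])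
    rw [← hHz, ← hKz, e]
  rcases PGroups.UniqueSubgroup.isCyclic_or_quaternion hFp huS with hcyc | ⟨-, n, ⟨e⟩⟩
  · left
    haveI := hcyc
    exact isPGroup_two_of_forall fun x hx => hodd x hx (hcent F hFp x hx)
  rcases n with _ | n
  · -- the degenerate quaternion group is cyclic
    left
    haveI : IsCyclic F := by
      refine isCyclic_of_orderOf_eq_card (e.symm (QuaternionGroup.xa 0)) ?_
      rw [MulEquiv.orderOf_eq, QuaternionGroup.orderOf_xa, Nat.card_congr e.toEquiv,
        Nat.card_eq_fintype_card, QuaternionGroup.card, pow_zero, mul_one]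
    exact isPGroup_two_of_forall fun x hx => hodd x hx (hcent F hFp x hx)
  haveI : NeZero (2 ^ (n + 1)) := ⟨pow_ne_zero _ two_ne_zero⟩
  have hFcard : Nat.card F = 4 * 2 ^ (n + 1) := by
    rw [Nat.card_congr e.toEquiv, Nat.card_eq_fintype_card, QuaternionGroup.card]
  rcases n with _ | n
  swap
  · -- a characteristic cyclic subgroup of index two
    left
    set a := e.symm (QuaternionGroup.a 1) with ha
    have hao : orderOf a = 2 * 2 ^ (n + 1 + 1) := by
      rw [ha, MulEquiv.orderOf_eq, QuaternionGroup.orderOf_a_one]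
    let S : Set X := {u | ∃ h : u ∈ F, orderOf (⟨u, h⟩ : F) ≠ 4}
    set A := Subgroup.closure S with hA
    have hAeq : A = (Subgroup.zpowers a).map F.subtype := by
      refine le_antisymm ?_ ?_
      · rw [hA, Subgroup.closure_le]
        rintro u ⟨hu, ho⟩
        refine ⟨⟨u, hu⟩, ?_, rfl⟩
        rcases hx : e ⟨u, hu⟩ with i | i
        · refine Subgroup.mem_zpowers_iff.mpr ⟨(i.val : ℤ), ?_⟩
          apply e.injective
          rw [map_zpow, ha, MulEquiv.apply_symm_apply, zpow_natCast, QuaternionGroup.a_one_pow,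
            ZMod.natCast_val, ZMod.cast_id, hx]
        · exfalso
          refine ho ?_
          rw [← MulEquiv.orderOf_eq e, hx, QuaternionGroup.orderOf_xa]
      · rw [Subgroup.map_le_iff_le_comap, Subgroup.zpowers_le, Subgroup.mem_comap]
        refine Subgroup.subset_closure ⟨a.2, ?_⟩
        show orderOf a ≠ 4
        rw [hao, pow_succ]
        have : 2 ≤ 2 ^ (n + 1) := Nat.le_self_pow (Nat.succ_ne_zero n) 2
        omega
    haveI hAn : A.Normal := by
      refine Subgroup.Normal.mk fun u hu g => ?_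
      have hmap : A.map (MulAut.conj g).toMonoidHom ≤ A := by
        rw [hA, MonoidHom.map_closure, Subgroup.closure_le]
        rintro _ ⟨w, ⟨hw, ho⟩, rfl⟩
        refine Subgroup.subset_closure ⟨hFn.conj_mem w hw g, ?_⟩
        rw [← Subgroup.orderOf_coe] at ho ⊢
        change orderOf (MulAut.conj g w) ≠ 4
        rwa [MulEquiv.orderOf_eq]
      exact hmap ⟨u, hu, rfl⟩
    have hAF : A ≤ F := hAeq ▸ Subgroup.map_subtype_le _
    haveI : IsCyclic A := by
      rw [hAeq]
      exact isCyclic_of_surjective _ (Subgroup.equivMapOfInjective _ F.subtype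
        F.subtype_injective).surjective
    have hAp : IsPGroup 2 A := hFp.to_le hAF
    have hAi : A.relIndex F = 2 := by
      have h1 := Subgroup.relIndex_mul_relIndex (⊥ : Subgroup X) A F bot_le hAF
      rw [Subgroup.relIndex_bot_left, Subgroup.relIndex_bot_left, hFcard] at h1
      have h2 : Nat.card A = 2 * 2 ^ (n + 1 + 1) := by
        rw [hAeq, Subgroup.card_map_of_injective F.subtype_injective, Nat.card_zpowers, hao]
      rw [h2] at h1
      refine Nat.eq_of_mul_eq_mul_left (show 0 < 2 * 2 ^ (n + 1 + 1) by positivity) ?_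
      rw [h1]; ring
    refine isPGroup_two_of_forall fun x hx => hodd x hx ?_
    have hxA := hcent A hAp x hx
    refine Coprime.le_centralizer_of_series (A := Subgroup.zpowers x) (K := F) (N := A)
      Subgroup.le_normalizer_of_normal ?_ (Or.inl inferInstance) (Subgroup.zpowers_le.mpr hxA) ?_
      (Subgroup.mem_zpowers x)
    · obtain ⟨k, hk⟩ := hFp.exists_card_eq
      rw [Nat.card_zpowers, hk]
      exact Nat.Coprime.pow_right _ hx
    · rw [Subgroup.commutator_le]
      intro u hu y hy
      by_cases huA : u ∈ A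
      · rw [commutatorElement_def, mul_assoc u y, mul_assoc u]
        exact mul_mem huA (hAn.conj_mem _ (inv_mem huA) y)
      · have h1 : y * u⁻¹ * y⁻¹ ∉ A := fun h => huA (by
          have := hAn.conj_mem _ h y⁻¹
          simpa [mul_assoc] using this)
        have h2 : (A.subgroupOf F).index = 2 := hAi
        have h3 := (Subgroup.mul_mem_iff_of_index_two h2 (a := (⟨u, hu⟩ : F))
          (b := ⟨y * u⁻¹ * y⁻¹, hFn.conj_mem _ (inv_mem hu) y⟩)).mpr
          ⟨fun h => absurd h huA, fun h => absurd h h1⟩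
        rw [Subgroup.mem_subgroupOf] at h3
        rw [commutatorElement_def, mul_assoc u y, mul_assoc u]
        exact h3
  -- the quaternion group of order eight
  rw [pow_one] at hFcard
  have hz0 : ∃ z : F, orderOf z = 2 := exists_prime_orderOf_dvd_card' 2 (by rw [hFcard]; norm_num)
  obtain ⟨⟨z, hzF⟩, hzo⟩ := hz0
  rw [Subgroup.orderOf_mk] at hzo
  have hzc : z ∈ Subgroup.center X := by
    rw [Subgroup.mem_center_iff]
    intro g
    have h1 : g * z * g⁻¹ = z := huniq _ _
      (by rw [← MulAut.conj_apply, MulEquiv.orderOf_eq]; exact hzo) hzo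
    exact mul_inv_eq_iff_eq_mul.mp h1
  set Z := Subgroup.zpowers z with hZ
  haveI hZn : Z.Normal := ⟨fun n hn g => by
    rwa [Subgroup.mem_center_iff.mp (Subgroup.zpowers_le.mpr hzc hn) g, mul_inv_cancel_right]⟩
  have hsq : ∀ u ∈ F, u ^ 2 ∈ Z := by
    intro u hu
    by_cases h1 : u ^ 2 = 1
    · rw [h1]; exact one_mem _
    have h4 : u ^ 4 = 1 := by
      have h5 : (⟨u, hu⟩ : F) ^ 4 = 1 :=
        e.injective (by rw [map_pow, map_one]; exact quaternion_pow_four _)
      exact congrArg Subtype.val h5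
    rw [huniq (u ^ 2) z (orderOf_eq_prime (by rw [← pow_mul]; exact h4) h1) hzo]
    exact Subgroup.mem_zpowers z
  set π : X →* X ⧸ Z := QuotientGroup.mk' Z with hπ
  set V := F.map π with hV
  haveI hVn : V.Normal := hFn.map π (QuotientGroup.mk'_surjective Z)
  have hVcard : Nat.card V = 4 := by
    have h1 := card_eq_card_inf_ker_mul_card_map F π
    rw [hπ, QuotientGroup.ker_mk', inf_of_le_right (Subgroup.zpowers_le.mpr hzF : Z ≤ F),
      Nat.card_zpowers, hzo, hFcard] at h1
    rw [hV, hπ]; omega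
  have hVexp : ∀ v ∈ V, v * v = 1 := by
    rintro _ ⟨u, hu, rfl⟩
    rw [← map_mul, ← pow_two]
    exact (QuotientGroup.eq_one_iff _).mpr (hsq u hu)
  have hVcomm : ∀ a ∈ V, ∀ b ∈ V, Commute a b := by
    intro a ha b hb
    have hinv : ∀ v ∈ V, v⁻¹ = v := fun v hv => inv_eq_of_mul_eq_one_right (hVexp v hv)
    show a * b = b * a
    rw [← hinv _ (mul_mem ha hb), mul_inv_rev, hinv a ha, hinv b hb]
  -- the centralizer of `V`
  set W := (Subgroup.centralizer (V : Set (X ⧸ Z))).comap π with hW
  haveI : (Subgroup.centralizer (V : Set (X ⧸ Z))).Normal := inferInstance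
  haveI hWn : W.Normal := Subgroup.Normal.comap inferInstance π
  have hWp : IsPGroup 2 W := by
    refine isPGroup_two_of_forall fun w hw => ?_
    have hwo : (orderOf (w : X)).Coprime 2 := by rwa [Subgroup.orderOf_coe]
    refine Subtype.ext (hodd _ hwo ?_)
    refine Coprime.le_centralizer_of_series (A := Subgroup.zpowers (w : X)) (K := F) (N := Z)
      Subgroup.le_normalizer_of_normal ?_ (Or.inl inferInstance) ?_ ?_
      (Subgroup.mem_zpowers (w : X))
    · rw [Nat.card_zpowers, hFcard]
      exact (hwo.pow_right 3 : (orderOf (w : X)).Coprime (2 ^ 3))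
    · intro a _
      exact fun b hb => (Subgroup.mem_center_iff.mp (Subgroup.zpowers_le.mpr hzc hb) a).symm
    · rw [Subgroup.commutator_le]
      intro u hu y hy
      obtain ⟨i, rfl⟩ := Subgroup.mem_zpowers_iff.mp hy
      refine (QuotientGroup.eq_one_iff _).mp ?_
      change π ⁅u, (w : X) ^ i⁆ = 1
      rw [map_commutatorElement, commutatorElement_eq_one_iff_commute, map_zpow]
      exact Commute.zpow_right (w.2 (π u) ⟨u, hu, rfl⟩) i
  have hCV : Subgroup.centralizer (V : Set (X ⧸ Z)) = V := by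
    refine le_antisymm ?_ (fun v hv b hb => hVcomm b hb v hv)
    intro y hy
    obtain ⟨x, rfl⟩ := QuotientGroup.mk'_surjective Z y
    exact ⟨x, le_pCore hWp hy, rfl⟩
  -- the action on the three involutions of `V`
  set Y := X ⧸ Z with hY
  let ψ : Y →* MulAut V := MulAut.conjNormal
  have hψker : ψ.ker = V := by
    refine le_antisymm (fun y hy => hCV.le fun v hv => ?_) (fun y hy => MulEquiv.ext fun v => ?_)
    · have h2 := congrArg Subtype.val (DFunLike.congr_fun hy (⟨v, hv⟩ : V))
      rw [MulAut.conjNormal_apply] at h2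
      exact (mul_inv_eq_iff_eq_mul.mp h2).symm
    · refine Subtype.ext ?_
      rw [MulAut.conjNormal_apply, (hVcomm y hy v v.2).eq, mul_inv_cancel_right]
      rfl
  have hAut : Nat.card (MulAut V) ∣ 6 := by
    let T := {v : V // v ≠ 1}
    let j : MulAut V →* Equiv.Perm T :=
      { toFun := fun φ => φ.toEquiv.subtypeEquiv fun v => (not_congr φ.map_eq_one_iff).symm
        map_one' := rfl
        map_mul' := fun _ _ => rfl }
    have hj : Function.Injective j := by
      intro φ φ' h
      ext v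
      by_cases hv : v = 1
      · rw [hv, map_one, map_one]
      · exact congrArg Subtype.val (congrArg Subtype.val (DFunLike.congr_fun h (⟨v, hv⟩ : T)))
    have hT : Nat.card T = 3 := by
      have h1 : Nat.card (Option T) = Nat.card V := Nat.card_congr (Equiv.optionSubtypeNe (1 : V))
      rw [Finite.card_option, hVcard] at h1
      omega
    have h1 := Subgroup.card_dvd_of_injective j hj
    rwa [Nat.card_perm, hT] at h1
  have hYcard : ∃ r, r ∣ 6 ∧ Nat.card Y = 4 * r := by
    refine ⟨Nat.card ψ.range, (Subgroup.card_subgroup_dvd_card _).trans hAut, ?_⟩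
    rw [← Subgroup.index_ker, hψker, ← hVcard, Subgroup.card_mul_index]
  have hXcard : Nat.card X = 2 * Nat.card Y := by
    rw [Subgroup.card_eq_card_quotient_mul_card_subgroup Z, hZ, Nat.card_zpowers, hzo, mul_comm]
  obtain ⟨r, hr6, hr⟩ := hYcard
  by_cases h3 : 3 ∣ r
  swap
  · left
    have hr2 : r = 1 ∨ r = 2 := by
      have := Nat.le_of_dvd (by norm_num) hr6
      interval_cases r <;> omega
    rcases hr2 with rfl | rfl
    · exact IsPGroup.of_card (n := 3) (by rw [hXcard, hr]; rfl)
    · exact IsPGroup.of_card (n := 4) (by rw [hXcard, hr]; rfl)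
  right
  haveI : Fact (Nat.Prime 3) := ⟨Nat.prime_three⟩
  have hY3 : 3 ∣ Nat.card Y := hr ▸ h3.mul_left 4
  -- an element of order three fixes only the identity of `V`
  have hfpf : ∀ y : Y, orderOf y = 3 → ∀ v ∈ V, Commute y v → v = 1 := by
    intro y hy v hv hc
    by_contra hv1
    obtain ⟨w, hw, hw1, hwv⟩ : ∃ w ∈ V, w ≠ 1 ∧ w ≠ v := by
      by_contra hcon
      push Not at hcon
      have h1 : (V : Set Y) ⊆ {1, v} := fun w hw => by
        by_cases h : w = 1
        · exact Or.inl h
        · exact Or.inr (hcon w hw h)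
      have h2 := Set.ncard_le_ncard h1 (Set.toFinite _)
      rw [← Nat.card_coe_set_eq, show Nat.card (V : Set Y) = 4 from hVcard,
        Set.ncard_pair (Ne.symm hv1)] at h2
      omega
    have hall : ∀ u ∈ V, u = 1 ∨ u = v ∨ u = w ∨ u = v * w := by
      have h1 : ({1, v, w, v * w} : Set Y) ⊆ V := by
        rintro u (rfl | rfl | rfl | rfl)
        exacts [one_mem _, hv, hw, mul_mem hv hw]
      have hvw1 : v * w ≠ 1 := fun h => hwv
        (((inv_eq_of_mul_eq_one_right h).symm.trans (inv_eq_of_mul_eq_one_right (hVexp v hv))))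
      have h2 : ({1, v, w, v * w} : Set Y).ncard = 4 := by
        rw [Set.ncard_insert_of_notMem (by simp [Ne.symm hv1, Ne.symm hw1, Ne.symm hvw1]),
          Set.ncard_insert_of_notMem (by simp [Ne.symm hwv, hw1]),
          Set.ncard_pair (by simp [hv1])]
      have h3 := Set.eq_of_subset_of_ncard_le h1 (by
        rw [h2, ← Nat.card_coe_set_eq]; exact hVcard.le) (Set.toFinite _)
      intro u hu
      rw [← SetLike.mem_coe, ← h3] at hu
      simpa using hu
    have hmove : y * w * y⁻¹ = w := by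
      have hyv : y * v * y⁻¹ = v := by rw [hc.eq, mul_inv_cancel_right]
      rcases hall _ (hVn.conj_mem w hw y) with h | h | h | h
      · exact absurd (conj_eq_one_iff.mp h) hw1
      · exact absurd (mul_left_cancel (mul_right_cancel (h.trans hyv.symm))) hwv
      · exact h
      · exfalso
        have h2 : y ^ 2 * w * (y ^ 2)⁻¹ = w := by
          calc y ^ 2 * w * (y ^ 2)⁻¹ = y * (y * w * y⁻¹) * y⁻¹ := by rw [pow_two]; group
            _ = y * (v * w) * y⁻¹ := by rw [h]
            _ = (y * v * y⁻¹) * (y * w * y⁻¹) := by group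
            _ = w := by rw [hyv, h, ← mul_assoc, hVexp v hv, one_mul]
        have h3 : y = y ^ 2 * y ^ 2 := by
          rw [← pow_add]
          conv_lhs => rw [← pow_one y]
          rw [pow_eq_pow_iff_modEq, hy]
          rfl
        refine hv1 ?_
        have h4 : y * w * y⁻¹ = w := by
          rw [h3]
          calc y ^ 2 * y ^ 2 * w * (y ^ 2 * y ^ 2)⁻¹ = y ^ 2 * (y ^ 2 * w * (y ^ 2)⁻¹) * (y ^ 2)⁻¹ := by
                group
            _ = w := by rw [h2, h2]
        exact mul_eq_right.mp (h.symm.trans h4)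
    have hyV : y ∈ V := hCV.le fun u hu => by
      have hyv : y * v = v * y := hc.eq
      have hyw : y * w = w * y := mul_inv_eq_iff_eq_mul.mp hmove
      rcases hall u hu with rfl | rfl | rfl | rfl
      · simp
      · exact hyv.symm
      · exact hyw.symm
      · rw [mul_assoc, ← hyw, ← mul_assoc, ← hyv, mul_assoc]
    have h5 := orderOf_dvd_of_pow_eq_one (show y ^ 2 = 1 by rw [pow_two]; exact hVexp y hyV)
    rw [hy] at h5
    omega
  obtain ⟨P⟩ := (inferInstance : Nonempty (Sylow 3 Y))
  have hsyl : Nat.card (Sylow 3 Y) = 4 := by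
    have h1 := card_sylow_modEq_one 3 Y
    have h2 := P.card_dvd_index
    have h3' : ¬ 3 ∣ (P : Subgroup Y).index := P.not_dvd_index
    have h4 : Nat.card (Sylow 3 Y) ∣ 3 * 8 := h2.trans ((P : Subgroup Y).index_dvd_card.trans (by
      rw [hr, show 3 * 8 = 4 * 6 from rfl]; exact mul_dvd_mul_left 4 hr6))
    have h5 : Nat.card (Sylow 3 Y) ≠ 1 := by
      intro hone
      haveI : Subsingleton (Sylow 3 Y) := (Nat.card_eq_one_iff_unique.mp hone).1
      haveI hPn : (P : Subgroup Y).Normal := Sylow.normal_of_subsingleton P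
      obtain ⟨y, hy⟩ := exists_prime_orderOf_dvd_card' (G := (P : Subgroup Y)) 3
        (P.dvd_card_of_dvd_card hY3)
      obtain ⟨v, hv, hv1⟩ : ∃ v ∈ V, v ≠ 1 := by
        by_contra hcon
        push Not at hcon
        have : V = ⊥ := Subgroup.eq_bot_iff_forall _ |>.mpr hcon
        rw [this, Subgroup.card_bot] at hVcard
        omega
      refine hv1 (hfpf y (by rw [Subgroup.orderOf_coe]; exact hy) v hv ?_)
      refine Subgroup.commute_of_normal_of_disjoint _ _ hPn hVn ?_ _ _ y.2 hv
      refine Subgroup.disjoint_of_coprime_natCard ?_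
      obtain ⟨k, hk⟩ := P.2.exists_card_eq
      rw [hk, hVcard]
      exact Nat.Coprime.pow_left k (by norm_num)
    have h6 : (Nat.card (Sylow 3 Y)).Coprime 3 :=
      ((Nat.prime_three.coprime_iff_not_dvd).mpr fun h => h3' (h.trans h2)).symm
    have h7 := h6.dvd_of_dvd_mul_left h4
    have h8 : Nat.card (Sylow 3 Y) % 3 = 1 := h1
    have := Nat.le_of_dvd (by norm_num) h7
    interval_cases hn : Nat.card (Sylow 3 Y) <;> omega
  let e4 : Sylow 3 Y ≃ Fin 4 := (Finite.equivFin _).trans (finCongr hsyl)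
  let f₀ : Y →* Equiv.Perm (Fin 4) :=
    e4.permCongrHom.toMonoidHom.comp (MulAction.toPermHom Y (Sylow 3 Y))
  have hf₀ : Function.Injective f₀ := by
    rw [injective_iff_map_eq_one]
    intro k hk
    have hk' : MulAction.toPermHom Y (Sylow 3 Y) k = 1 :=
      e4.permCongrHom.injective (hk.trans (map_one _).symm)
    set K := (MulAction.toPermHom Y (Sylow 3 Y)).ker with hK
    have hKn : ∀ (Q : Sylow 3 Y) (g : Y), g ∈ K → g ∈ Subgroup.normalizer ((Q : Subgroup Y) : Set Y) :=
      fun Q g hg => Sylow.smul_eq_iff_mem_normalizer.mp (DFunLike.congr_fun hg Q)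
    have hKV : ∀ v ∈ V, v ∈ K → v = 1 := by
      intro v hv hvK
      obtain ⟨y, hy⟩ := exists_prime_orderOf_dvd_card' (G := (P : Subgroup Y)) 3
        (P.dvd_card_of_dvd_card hY3)
      refine hfpf y (by rw [Subgroup.orderOf_coe]; exact hy) v hv ?_
      have hm : v * y * v⁻¹ * (y : Y)⁻¹ ∈ (P : Subgroup Y) ⊓ V := by
        refine ⟨(P : Subgroup Y).mul_mem ((Subgroup.mem_normalizer_iff.mp (hKn P v hvK) y).mp y.2)
          ((P : Subgroup Y).inv_mem y.2), ?_⟩
        rw [mul_assoc v, mul_assoc v]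
        exact mul_mem hv (hVn.conj_mem _ (inv_mem hv) y)
      have hb : (P : Subgroup Y) ⊓ V = ⊥ := disjoint_iff.mp (Subgroup.disjoint_of_coprime_natCard (by
        obtain ⟨k, hk⟩ := P.2.exists_card_eq
        rw [hk, hVcard]
        exact Nat.Coprime.pow_left k (by norm_num)))
      rw [hb, Subgroup.mem_bot, mul_inv_eq_one, mul_inv_eq_iff_eq_mul] at hm
      exact hm.symm
    have hkV : k ∈ V := hCV.le fun v hv => by
      have hm : v * k * v⁻¹ * k⁻¹ = 1 := hKV _ (by
        rw [mul_assoc v, mul_assoc v]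
        exact mul_mem hv (hVn.conj_mem _ (inv_mem hv) k))
        (K.mul_mem ((inferInstance : K.Normal).conj_mem k hk' v) (K.inv_mem hk'))
      rw [mul_inv_eq_one, mul_inv_eq_iff_eq_mul] at hm
      exact hm
    exact hKV k hkV hk'
  refine ⟨f₀.comp π, ?_, ?_⟩
  · have : (f₀.comp π).ker = Z := by
      rw [← MonoidHom.comap_ker, (MonoidHom.ker_eq_bot_iff f₀).mpr hf₀, MonoidHom.comap_bot]
      exact QuotientGroup.ker_mk' Z
    rw [this, hZ, Nat.card_zpowers, hzo]
  · have hrange : Nat.card (f₀.comp π).range = 4 * r := by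
      rw [MonoidHom.range_comp, MonoidHom.range_eq_top.mpr (QuotientGroup.mk'_surjective Z),
        ← MonoidHom.range_eq_map,
        ← Nat.card_congr (MonoidHom.ofInjective hf₀).toEquiv, hr]
    refine Equiv.Perm.alternatingGroup_le_of_index_le_two ?_
    have h1 := (f₀.comp π).range.index_mul_card
    rw [hrange, Nat.card_perm, Nat.card_eq_fintype_card, Fintype.card_fin,
      show Nat.factorial 4 = 24 from rfl] at h1
    have h2 : 3 ≤ r := Nat.le_of_dvd (Nat.pos_of_dvd_of_pos hr6 (by norm_num)) h3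
    nlinarith

end Core

end Cfsg.Agent.GroupStructure3.FrobSolvable
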