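import Mathlib
import Cfsg.Agent.GroupStructure3.FrobBase
import Cfsg.Agent.GroupStructure3.FrobSolvable

/-!
The structure of solvable Frobenius complements.
-/

set_option autoImplicit false

namespace Cfsg.Agent.GroupStructure3.FrobStruct

open Cfsg Cfsg.Agent.PLocal.Cores
open scoped MatrixGroups

universe u

variable {G : Type u} [Group G]

/-- The candidates in the structure theorem. -/
abbrev Cand (N : Subgroup G) : Prop :=
  N.Normal ∧ (∀ (p : ℕ) [Fact p.Prime] (P : Sylow p N), IsCyclic P) ∧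
    (N = ⊤ ∨
      (∃ f : G →* DihedralGroup 2, Function.Surjective f ∧ f.ker = N) ∨
      (∃ f : G →* alternatingGroup (Fin 4), Function.Surjective f ∧ f.ker = N) ∨
      (∃ f : G →* Equiv.Perm (Fin 4), Function.Surjective f ∧ f.ker = N) ∨
      (∃ f : G →* alternatingGroup (Fin 5), Function.Surjective f ∧ f.ker = N) ∨
      (∃ f : G →* Equiv.Perm (Fin 5), Function.Surjective f ∧ f.ker = N))

theorem sylow_cyclic_of_isZGroup {N : Subgroup G} (h : IsZGroup N) :
    ∀ (p : ℕ) [Fact p.Prime] (P : Sylow p N), IsCyclic P :=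
  fun p hp P => h.isZGroup p hp.out P

theorem isZGroup_of_sylow_cyclic {N : Subgroup G}
    (h : ∀ (p : ℕ) [Fact p.Prime] (P : Sylow p N), IsCyclic P) : IsZGroup N :=
  ⟨fun p hp P => @h p ⟨hp⟩ P⟩

theorem isZGroup_of_two (hP : Props G) (N : Subgroup G)
    (h : ∀ Q : Subgroup G, Q ≤ N → IsPGroup 2 Q → IsCyclic Q) : IsZGroup N := by
  refine ⟨fun p hp P => ?_⟩
  haveI : Fact p.Prime := ⟨hp⟩
  set Q := (P : Subgroup N).map N.subtype
  have hQ : IsPGroup p Q := P.2.map N.subtype
  haveI : IsCyclic Q := by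
    rcases hP.shape p Q hQ with hc | ⟨rfl, -⟩
    · exact hc
    · exact h Q (Subgroup.map_subtype_le _) hQ
  exact isCyclic_of_injective
    ((P : Subgroup N).equivMapOfInjective N.subtype N.subtype_injective).toMonoidHom
    (MulEquiv.injective _)

/-- Pulling back along a map with odd kernel. -/
theorem isZGroup_comap [Finite G] (hP : Props G) {Y : Type*} [Group Y] (f : G →* Y)
    (hker : (Nat.card f.ker).Coprime 2) (M : Subgroup Y)
    (hM : ∀ Q : Subgroup Y, Q ≤ M → IsPGroup 2 Q → IsCyclic Q) : IsZGroup (M.comap f) := by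
  refine isZGroup_of_two hP _ fun Q hQ h2 => ?_
  haveI : Fact (Nat.Prime 2) := ⟨Nat.prime_two⟩
  haveI := hM (Q.map f) (Subgroup.map_le_iff_le_comap.mpr hQ) (h2.map f)
  refine isCyclic_of_injective (f.subgroupMap Q) ((injective_iff_map_eq_one _).mpr fun x hx => ?_)
  have hxk : (x : G) ∈ Q ⊓ f.ker := ⟨x.2, congrArg Subtype.val hx⟩
  have hbot : Q ⊓ f.ker = ⊥ := disjoint_iff.mp (Subgroup.disjoint_of_coprime_natCard (by
    obtain ⟨k, hk⟩ := h2.exists_card_eq
    rw [hk]
    exact (hker.symm).pow_left k))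
  rw [hbot, Subgroup.mem_bot] at hxk
  exact Subtype.ext hxk

theorem isZGroup_ker_le [Finite G] {Y : Type*} [Group Y] {N : Subgroup G} [IsZGroup N]
    (f : G →* Y) : IsZGroup (N.map f) :=
  IsZGroup.of_surjective (f.subgroupMap_surjective N)

theorem not_isZGroup_of_pair {Y : Type*} [Group Y] [Finite Y] (c d : Y) (hc : c * c = 1)
    (hd : d * d = 1) (hc1 : c ≠ 1) (hd1 : d ≠ 1) (hcd : c ≠ d) (hcomm : c * d = d * c) :
    ¬ IsZGroup Y := by
  intro h
  haveI : Fact (Nat.Prime 2) := ⟨Nat.prime_two⟩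
  exact hcd (FrobSolvable.eq_of_zgroup (orderOf_eq_prime (by rw [pow_two, hc]) hc1)
    (orderOf_eq_prime (by rw [pow_two, hd]) hd1) hcomm)

theorem not_isSolvable_alt_five : ¬ Group.IsSolvable (alternatingGroup (Fin 5)) := by
  intro h
  haveI := h
  haveI : Nontrivial (alternatingGroup (Fin 5)) :=
    nontrivial_of_ne ⟨Equiv.swap 0 1 * Equiv.swap 1 2, Equiv.Perm.mem_alternatingGroup.mpr (by decide)⟩ 1 (by decide)
  have h1 := IsSimpleGroup.comm_iff_isSolvable (G := alternatingGroup (Fin 5))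
  exact absurd (h1.mpr h ⟨Equiv.swap 0 1 * Equiv.swap 1 2, Equiv.Perm.mem_alternatingGroup.mpr (by decide)⟩
    ⟨Equiv.swap 1 2 * Equiv.swap 2 3, Equiv.Perm.mem_alternatingGroup.mpr (by decide)⟩) (by decide)

/-- Klein quotients of a quaternion group. -/
def quatToDihedral {m : ℕ} (hm : 2 ∣ m) : QuaternionGroup m →* DihedralGroup 2 where
  toFun
    | .a i => .r (ZMod.castHom (dvd_mul_right 2 m) (ZMod 2) i)
    | .xa i => .sr (ZMod.castHom (dvd_mul_right 2 m) (ZMod 2) i)
  map_one' := by
    show DihedralGroup.r (ZMod.castHom (dvd_mul_right 2 m) (ZMod 2) 0) = _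
    rw [map_zero, DihedralGroup.r_zero]
  map_mul' := by
    have hm0 : (m : ZMod 2) = 0 := (ZMod.natCast_eq_zero_iff m 2).mpr hm
    rintro (i | i) (j | j) <;>
      simp only [QuaternionGroup.a_mul_a, QuaternionGroup.a_mul_xa, QuaternionGroup.xa_mul_a,
        QuaternionGroup.xa_mul_xa, DihedralGroup.r_mul_r, DihedralGroup.r_mul_sr,
        DihedralGroup.sr_mul_r, DihedralGroup.sr_mul_sr, map_add, map_sub, map_natCast, hm0,
        zero_add]

theorem quatToDihedral_surjective {m : ℕ} (hm : 2 ∣ m) :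
    Function.Surjective (quatToDihedral hm) := by
  rintro (i | i)
  · obtain ⟨j, hj⟩ := ZMod.castHom_surjective (dvd_mul_right 2 m) i
    exact ⟨.a j, congrArg DihedralGroup.r hj⟩
  · obtain ⟨j, hj⟩ := ZMod.castHom_surjective (dvd_mul_right 2 m) i
    exact ⟨.xa j, congrArg DihedralGroup.sr hj⟩

theorem quatToDihedral_ker_le {m : ℕ} [NeZero m] (hm : 2 ∣ m) :
    (quatToDihedral hm).ker ≤ Subgroup.zpowers ((QuaternionGroup.a 1 : QuaternionGroup m) ^ 2) := by
  rintro (i | i) hq
  · rw [MonoidHom.mem_ker] at hq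
    change DihedralGroup.r (ZMod.castHom (dvd_mul_right 2 m) (ZMod 2) i) = DihedralGroup.r 0 at hq
    have h := DihedralGroup.r.inj hq
    rw [← ZMod.natCast_rightInverse i, map_natCast, ZMod.natCast_eq_zero_iff] at h
    obtain ⟨k, hk⟩ := h
    refine Subgroup.mem_zpowers_iff.mpr ⟨k, ?_⟩
    rw [zpow_natCast, ← pow_mul, ← hk, QuaternionGroup.a_one_pow, ZMod.natCast_val, ZMod.cast_id]
  · rw [MonoidHom.mem_ker] at hq
    change DihedralGroup.sr _ = DihedralGroup.r 0 at hq
    cases hq

variable [Finite G]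

theorem unique_involution_quotient (hP : Props G) (x y : G ⧸ pPrimeCore 2 G) (hx : orderOf x = 2)
    (hy : orderOf y = 2) : x = y := by
  have key : ∀ x : G ⧸ pPrimeCore 2 G, orderOf x = 2 →
      ∃ g : G, orderOf g = 2 ∧ QuotientGroup.mk' (pPrimeCore 2 G) g = x := by
    intro x hx
    obtain ⟨g, hg⟩ := QuotientGroup.mk'_surjective (pPrimeCore 2 G) x
    obtain ⟨a, m, hm, ho⟩ := Nat.exists_eq_two_pow_mul_odd (orderOf_pos g).ne'
    have hx2 : x ^ 2 = 1 := orderOf_dvd_iff_pow_eq_one.mp hx.dvd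
    have h1 : QuotientGroup.mk' (pPrimeCore 2 G) (g ^ m) = x := by
      obtain ⟨j, rfl⟩ := hm
      rw [map_pow, hg, pow_succ, pow_mul, hx2, one_pow, one_mul]
    haveI : Fact (Nat.Prime 2) := ⟨Nat.prime_two⟩
    refine ⟨g ^ m, orderOf_eq_prime ?_ (fun e => ?_), h1⟩
    · have hmem : (g ^ m) ^ 2 ∈ pPrimeCore 2 G := by
        rw [← QuotientGroup.ker_mk' (pPrimeCore 2 G), MonoidHom.mem_ker, map_pow, h1, hx2]
      have hd1 : orderOf ((g ^ m) ^ 2) ∣ 2 ^ a := orderOf_dvd_of_pow_eq_one (by
        rw [← pow_mul, ← pow_mul, show m * (2 * 2 ^ a) = orderOf g * 2 by rw [ho]; ring, pow_mul,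
          pow_orderOf_eq_one, one_pow])
      have hd2 := Subgroup.orderOf_dvd_natCard _ hmem
      exact orderOf_eq_one_iff.mp (Nat.eq_one_of_dvd_coprimes
        (coprime_card_pPrimeCore.pow_right a) hd2 hd1)
    · rw [e, map_one] at h1
      rw [← h1, orderOf_one] at hx
      omega
  obtain ⟨g, hg, rfl⟩ := key x hx
  obtain ⟨h, hh, rfl⟩ := key y hy
  rw [hP.inv g h hg hh]

theorem card_mk'_ker : (Nat.card (QuotientGroup.mk' (pPrimeCore 2 G)).ker).Coprime 2 := by
  rw [QuotientGroup.ker_mk']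
  exact coprime_card_pPrimeCore

theorem isZGroup_pPrimeCore (hP : Props G) : IsZGroup (pPrimeCore 2 G) := by
  refine isZGroup_of_two hP _ fun Q hQ h2 => ?_
  haveI : Fact (Nat.Prime 2) := ⟨Nat.prime_two⟩
  have : Q = ⊥ := by
    have h := disjoint_iff.mp (Subgroup.disjoint_of_coprime_natCard (H := Q) (K := pPrimeCore 2 G)
      (by
        obtain ⟨k, hk⟩ := h2.exists_card_eq
        rw [hk]
        exact coprime_card_pPrimeCore.symm.pow_left k))
    rwa [inf_of_le_left hQ] at h
  subst this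
  exact isCyclic_of_subsingleton

theorem core_le_of_four (hP : Props G) {f : G →* Equiv.Perm (Fin 4)}
    (hf : alternatingGroup (Fin 4) ≤ f.range) : pPrimeCore 2 G ≤ f.ker := by
  haveI := isZGroup_pPrimeCore hP
  haveI : IsZGroup ((pPrimeCore 2 G).map f) := isZGroup_ker_le f
  have h := FrobSolvable.normal_zgroup_eq_bot hf (K := (pPrimeCore 2 G).map f) (by
    rintro _ ⟨g, rfl⟩ _ ⟨k, hk, rfl⟩
    exact ⟨g * k * g⁻¹, (inferInstance : (pPrimeCore 2 G).Normal).conj_mem k hk g, by
      simp only [map_mul, map_inv]⟩)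
  exact (Subgroup.map_eq_bot_iff _).mp h

theorem core_le_of_dihedral {f : G →* DihedralGroup 2} : pPrimeCore 2 G ≤ f.ker := by
  refine (Subgroup.map_eq_bot_iff _).mp (Subgroup.card_eq_one.mp ?_)
  have h1 : Nat.card ((pPrimeCore 2 G).map f) ∣ Nat.card (pPrimeCore 2 G) :=
    Subgroup.card_map_dvd _ f
  have h2 : Nat.card ((pPrimeCore 2 G).map f) ∣ 2 ^ 2 := by
    have := Subgroup.card_subgroup_dvd_card ((pPrimeCore 2 G).map f)
    rwa [DihedralGroup.nat_card] at this
  exact Nat.eq_one_of_dvd_coprimes (coprime_card_pPrimeCore.pow_right 2) h1 h2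

/-- The three possible kinds of candidates in a solvable group. -/
theorem cand_cases [Group.IsSolvable G] {N : Subgroup G} (hN : Cand N) :
    N = ⊤ ∨ (∃ f : G →* DihedralGroup 2, Function.Surjective f ∧ f.ker = N) ∨
      (∃ f : G →* Equiv.Perm (Fin 4), alternatingGroup (Fin 4) ≤ f.range ∧ f.ker = N) := by
  obtain ⟨-, -, h | h | ⟨f, hf, hk⟩ | ⟨f, hf, hk⟩ | ⟨f, hf, -⟩ | ⟨f, hf, -⟩⟩ := hN
  · exact Or.inl h
  · exact Or.inr (Or.inl h)
  · refine Or.inr (Or.inr ⟨(alternatingGroup (Fin 4)).subtype.comp f, fun x hx => ?_, ?_⟩)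
    · obtain ⟨g, hg⟩ := hf ⟨x, hx⟩
      exact ⟨g, congrArg Subtype.val hg⟩
    · rw [MonoidHom.ker_comp_of_injective f _ (Subgroup.subtype_injective _), hk]
  · exact Or.inr (Or.inr ⟨f, by rw [MonoidHom.range_eq_top.mpr hf]; exact le_top, hk⟩)
  · exact absurd (solvable_of_surjective hf) not_isSolvable_alt_five
  · exact absurd (solvable_of_surjective hf) Equiv.Perm.fin_5_not_solvable

theorem top_case (hZ : IsZGroup G) {N : Subgroup G} (hN : Cand N) : N = ⊤ := by
  obtain ⟨-, -, h | ⟨f, hf, -⟩ | ⟨f, hf, -⟩ | ⟨f, hf, -⟩ | ⟨f, hf, -⟩ | ⟨f, hf, -⟩⟩ := hN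
  · exact h
  all_goals have hzy := IsZGroup.of_surjective hf
  · exact absurd hzy (not_isZGroup_of_pair (DihedralGroup.sr 0) (DihedralGroup.r 1) (by decide)
      (by decide) (by decide) (by decide) (by decide) (by decide))
  · exact absurd hzy (not_isZGroup_of_pair (⟨Equiv.swap 0 1 * Equiv.swap 2 3, Equiv.Perm.mem_alternatingGroup.mpr (by decide)⟩ :
        alternatingGroup (Fin 4)) ⟨Equiv.swap 0 2 * Equiv.swap 1 3, Equiv.Perm.mem_alternatingGroup.mpr (by decide)⟩ (by decide)
      (by decide) (by decide) (by decide) (by decide) (by decide))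
  · exact absurd hzy (not_isZGroup_of_pair (Equiv.swap (0 : Fin 4) 1 * Equiv.swap 2 3)
      (Equiv.swap 0 2 * Equiv.swap 1 3) (by decide)
      (by decide) (by decide) (by decide) (by decide) (by decide))
  · exact absurd hzy (not_isZGroup_of_pair (⟨Equiv.swap 0 1 * Equiv.swap 2 3, Equiv.Perm.mem_alternatingGroup.mpr (by decide)⟩ :
        alternatingGroup (Fin 5)) ⟨Equiv.swap 0 2 * Equiv.swap 1 3, Equiv.Perm.mem_alternatingGroup.mpr (by decide)⟩ (by decide)
      (by decide) (by decide) (by decide) (by decide) (by decide))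
  · exact absurd hzy (not_isZGroup_of_pair (Equiv.swap (0 : Fin 5) 1 * Equiv.swap 2 3)
      (Equiv.swap 0 2 * Equiv.swap 1 3) (by decide)
      (by decide) (by decide) (by decide) (by decide) (by decide))

theorem solvable_main [Group.IsSolvable G] (hP : Props G) :
    ∃ N : Subgroup G, Cand N ∧ (∃ f : G →* Equiv.Perm (Fin 4), f.ker = N) ∧
      ∀ N', Cand N' → N' = N := by
  classical
  haveI hp2 : Fact (Nat.Prime 2) := ⟨Nat.prime_two⟩
  by_cases hZ : IsZGroup G
  · refine ⟨⊤, ⟨inferInstance, sylow_cyclic_of_isZGroup (IsZGroup.of_injective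
      (f := (⊤ : Subgroup G).subtype) (Subgroup.subtype_injective _)), Or.inl rfl⟩,
      ⟨1, MonoidHom.ker_one⟩, fun N' hN' => top_case hZ hN'⟩
  have hne : ∀ N' : Subgroup G, Cand N' → N' ≠ ⊤ := by
    rintro N' ⟨-, h, -⟩ rfl
    haveI := isZGroup_of_sylow_cyclic h
    exact hZ (IsZGroup.of_injective (G' := (⊤ : Subgroup G)) (f := Subgroup.topEquiv.symm.toMonoidHom)
      (MulEquiv.injective _))
  set O := pPrimeCore 2 G with hO
  haveI hOn : O.Normal := inferInstance
  set π : G →* G ⧸ O := QuotientGroup.mk' O with hπ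
  have hπs : Function.Surjective π := QuotientGroup.mk'_surjective O
  have hπk : π.ker = O := QuotientGroup.ker_mk' O
  have huX := unique_involution_quotient hP
  rcases FrobSolvable.core_cases (X := G ⧸ O) pPrimeCore_quotient_pPrimeCore huX with
    hX | ⟨f, hf2, hfA⟩
  · have hS : ∀ H K : Subgroup (G ⧸ O), Nat.card H = 2 → Nat.card K = 2 → H = K := by
      intro H K hH hK
      obtain ⟨h, hh⟩ := exists_prime_orderOf_dvd_card' (G := H) 2 (by rw [hH])
      obtain ⟨k, hk⟩ := exists_prime_orderOf_dvd_card' (G := K) 2 (by rw [hK])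
      have e : (h : G ⧸ O) = k :=
        huX _ _ (by rwa [Subgroup.orderOf_coe]) (by rwa [Subgroup.orderOf_coe])
      have hHz : Subgroup.zpowers (h : G ⧸ O) = H := Subgroup.eq_of_le_of_card_ge
        (Subgroup.zpowers_le.mpr h.2) (by rw [hH, Nat.card_zpowers, Subgroup.orderOf_coe, hh])
      have hKz : Subgroup.zpowers (k : G ⧸ O) = K := Subgroup.eq_of_le_of_card_ge
        (Subgroup.zpowers_le.mpr k.2) (by rw [hK, Nat.card_zpowers, Subgroup.orderOf_coe, hk])
      rw [← hHz, ← hKz, e]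
    have hnc : ¬ IsCyclic (G ⧸ O) := by
      intro hc
      refine hZ ?_
      haveI := isZGroup_comap hP π card_mk'_ker ⊤ fun Q _ _ => inferInstance
      exact IsZGroup.of_injective (G' := (⊤ : Subgroup (G ⧸ O)).comap π)
        (f := (MonoidHom.id G).codRestrict _ fun g => trivial) (fun a b e => congrArg Subtype.val e)
    obtain ⟨-, n, ⟨e⟩⟩ :=
      (PGroups.UniqueSubgroup.isCyclic_or_quaternion hX hS).resolve_left hnc
    rcases n with _ | n
    · refine absurd ?_ hnc
      refine isCyclic_of_orderOf_eq_card (e.symm (QuaternionGroup.xa 0)) ?_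
      rw [MulEquiv.orderOf_eq, QuaternionGroup.orderOf_xa, Nat.card_congr e.toEquiv,
        Nat.card_eq_fintype_card, QuaternionGroup.card, pow_zero, mul_one]
    haveI : NeZero (2 ^ (n + 1)) := ⟨pow_ne_zero _ two_ne_zero⟩
    have h2n : 2 ∣ 2 ^ (n + 1) := dvd_pow_self 2 (Nat.succ_ne_zero n)
    set φ := quatToDihedral h2n with hφ
    set F : G →* DihedralGroup 2 := φ.comp (e.toMonoidHom.comp π) with hF
    have hFs : Function.Surjective F :=
      (quatToDihedral_surjective h2n).comp (e.surjective.comp hπs)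
    have hcyc : ∀ Q : Subgroup (G ⧸ O), Q ≤ (φ.comp e.toMonoidHom).ker → IsCyclic Q := by
      intro Q hQ
      let j : Q →* Subgroup.zpowers ((QuaternionGroup.a 1 : QuaternionGroup (2 ^ (n + 1))) ^ 2) :=
        (e.toMonoidHom.comp Q.subtype).codRestrict _ fun q =>
          quatToDihedral_ker_le h2n (hQ q.2)
      exact isCyclic_of_injective j fun a b hab =>
        Subtype.ext (e.injective (congrArg Subtype.val hab))
    have hNZ : IsZGroup F.ker := by
      have := isZGroup_comap hP π card_mk'_ker (φ.comp e.toMonoidHom).ker fun Q hQ _ => hcyc Q hQ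
      rwa [MonoidHom.comap_ker, MonoidHom.comp_assoc] at this
    refine ⟨F.ker, ⟨inferInstance, sylow_cyclic_of_isZGroup hNZ,
      Or.inr (Or.inl ⟨F, hFs, rfl⟩)⟩, ?_, ?_⟩
    · let c : DihedralGroup 2 ≃ Fin 4 :=
        (Finite.equivFin _).trans (finCongr (by rw [DihedralGroup.nat_card]))
      refine ⟨(c.permCongrHom.toMonoidHom.comp (MulAction.toPermHom (DihedralGroup 2)
        (DihedralGroup 2))).comp F, ?_⟩
      exact MonoidHom.ker_comp_of_injective F _
        (c.permCongrHom.injective.comp MulAction.toPerm_injective)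
    intro N' hN'
    rcases cand_cases hN' with h | ⟨f', hf's, rfl⟩ | ⟨g, hg, rfl⟩
    · exact absurd h (hne N' hN')
    · refine (Subgroup.eq_of_le_of_card_ge (fun x hx => ?_) (le_of_eq ?_)).symm
      · obtain ⟨k, hk⟩ := Subgroup.mem_zpowers_iff.mp
          (quatToDihedral_ker_le h2n (show e (π x) ∈ φ.ker from hx))
        obtain ⟨h, hh⟩ := hπs (e.symm (QuaternionGroup.a 1))
        have hx' : x * ((h ^ 2) ^ k)⁻¹ ∈ O := by
          rw [← hπk, MonoidHom.mem_ker, map_mul, map_inv, map_zpow, map_pow, hh, mul_inv_eq_one]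
          apply e.injective
          rw [map_zpow, map_pow, MulEquiv.apply_symm_apply, hk]
        have hD : ∀ t : DihedralGroup 2, t ^ 2 = 1 := by decide
        have h1 : (h ^ 2) ^ k ∈ f'.ker := zpow_mem (by rw [MonoidHom.mem_ker, map_pow, hD]) k
        have h2 := mul_mem (core_le_of_dihedral (f := f') hx') h1
        rwa [inv_mul_cancel_right] at h2
      · have h1 := f'.ker.card_mul_index
        have h2 := F.ker.card_mul_index
        rw [Subgroup.index_ker, MonoidHom.range_eq_top.mpr hf's, Subgroup.card_top,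
          DihedralGroup.nat_card] at h1
        rw [Subgroup.index_ker, MonoidHom.range_eq_top.mpr hFs, Subgroup.card_top,
          DihedralGroup.nat_card] at h2
        omega
    · exfalso
      set c : Equiv.Perm (Fin 4) := Equiv.swap 0 1 * Equiv.swap 1 2 with hc
      obtain ⟨x, hx⟩ := hg (show c ∈ alternatingGroup (Fin 4) from Equiv.Perm.mem_alternatingGroup.mpr (by rw [hc]; decide))
      obtain ⟨k, hk⟩ := hX (π x)
      rw [← map_pow, ← MonoidHom.mem_ker, hπk] at hk
      have h1 := MonoidHom.mem_ker.mp (core_le_of_four hP hg hk)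
      rw [map_pow, hx] at h1
      haveI : Fact (Nat.Prime 3) := ⟨Nat.prime_three⟩
      have h3 : orderOf c = 3 := orderOf_eq_prime (by rw [hc]; decide) (by rw [hc]; decide)
      have h4 := orderOf_dvd_of_pow_eq_one h1
      rw [h3] at h4
      exact absurd (Nat.prime_three.dvd_of_dvd_pow h4) (by decide)
  · set F : G →* Equiv.Perm (Fin 4) := f.comp π with hF
    have hFA : alternatingGroup (Fin 4) ≤ F.range := by
      rwa [hF, MonoidHom.range_comp, MonoidHom.range_eq_top.mpr hπs, ← MonoidHom.range_eq_map]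
    have hNZ : IsZGroup F.ker := by
      have := isZGroup_comap hP π card_mk'_ker f.ker fun Q hQ _ => by
        have h := Subgroup.card_dvd_of_le hQ
        rw [hf2] at h
        rcases (Nat.dvd_prime Nat.prime_two).mp h with h1 | h1
        · haveI := (Nat.card_eq_one_iff_unique.mp h1).1
          exact isCyclic_of_subsingleton
        · exact isCyclic_of_prime_card h1
      rwa [MonoidHom.comap_ker] at this
    refine ⟨F.ker, ⟨inferInstance, sylow_cyclic_of_isZGroup hNZ, Or.inr (Or.inr ?_)⟩,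
      ⟨F, rfl⟩, ?_⟩
    · have h1 := Subgroup.relIndex_mul_index hFA
      rw [alternatingGroup.index_eq_two] at h1
      have h2 : F.range.index = 1 ∨ F.range.index = 2 :=
        (Nat.dvd_prime Nat.prime_two).mp ⟨_, by rw [mul_comm]; exact h1.symm⟩
      rcases h2 with h2 | h2
      · exact Or.inr (Or.inl ⟨F, MonoidHom.range_eq_top.mp (Subgroup.index_eq_one.mp h2), rfl⟩)
      · have he := Equiv.Perm.eq_alternatingGroup_of_index_eq_two h2
        refine Or.inl ⟨F.codRestrict _ fun x => he ▸ ⟨x, rfl⟩, ?_, MonoidHom.ker_codRestrict _ _ _⟩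
        rintro ⟨y, hy⟩
        rw [← he] at hy
        obtain ⟨x, rfl⟩ := hy
        exact ⟨x, rfl⟩
    intro N' hN'
    haveI := hN'.1
    haveI hZ' := isZGroup_of_sylow_cyclic hN'.2.1
    haveI : IsZGroup (N'.map F) := isZGroup_ker_le F
    have hle : N' ≤ F.ker := by
      refine (Subgroup.map_eq_bot_iff _).mp (FrobSolvable.normal_zgroup_eq_bot hFA ?_)
      rintro _ ⟨g, rfl⟩ _ ⟨k, hk, rfl⟩
      exact ⟨g * k * g⁻¹, hN'.1.conj_mem k hk g, by simp only [map_mul, map_inv]⟩
    rcases cand_cases hN' with h | ⟨f', hf's, rfl⟩ | ⟨g, hg, rfl⟩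
    · exact absurd h (hne N' hN')
    · exfalso
      have h1 := Subgroup.index_dvd_of_le hle
      rw [Subgroup.index_ker, Subgroup.index_ker, MonoidHom.range_eq_top.mpr hf's,
        Subgroup.card_top, DihedralGroup.nat_card] at h1
      have h2 := Subgroup.card_dvd_of_le hFA
      haveI : Nontrivial (Fin 4) := Fin.nontrivial_iff_two_le.mpr (by omega)
      have h3 : 2 * Nat.card (alternatingGroup (Fin 4)) = 24 := by
        rw [two_mul_nat_card_alternatingGroup, Nat.card_eq_fintype_card, Fintype.card_perm,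
          Fintype.card_fin]
        rfl
      rw [show Nat.card (alternatingGroup (Fin 4)) = 12 by omega] at h2
      have := Nat.le_of_dvd (by norm_num) (h2.trans h1)
      omega
    · refine le_antisymm hle fun x hx => ?_
      have hO' : O ≤ g.ker := core_le_of_four hP hg
      have hmap : g.ker.map π = f.ker := by
        have h1 : g.ker.map π ≤ f.ker := by
          rintro _ ⟨y, hy, rfl⟩
          exact hle hy
        refine Subgroup.eq_of_le_of_card_ge h1 ?_
        rw [hf2]
        by_contra hlt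
        have h2 : g.ker.map π = ⊥ := Subgroup.card_eq_one.mp (by
          have : 0 < Nat.card (g.ker.map π) := Nat.card_pos
          omega)
        rw [Subgroup.map_eq_bot_iff, hπk] at h2
        set c : Equiv.Perm (Fin 4) := Equiv.swap 0 1 * Equiv.swap 2 3 with hc
        set d : Equiv.Perm (Fin 4) := Equiv.swap 0 2 * Equiv.swap 1 3 with hd
        have hinv : ∀ t : Equiv.Perm (Fin 4), t * t = 1 → t ≠ 1 →
            t ∈ alternatingGroup (Fin 4) → ∃ y, g y = t ∧ orderOf (π y) = 2 := by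
          intro t ht ht1 htA
          obtain ⟨y, hy⟩ := hg htA
          refine ⟨y, hy, orderOf_eq_prime ?_ fun e => ht1 ?_⟩
          · rw [← map_pow, ← MonoidHom.mem_ker, hπk]
            exact h2 (by rw [MonoidHom.mem_ker, pow_two, map_mul, hy, ht])
          · rw [← hy]
            exact hO' (hπk ▸ MonoidHom.mem_ker.mpr e)
        obtain ⟨y, hy, hyo⟩ := hinv c (by rw [hc]; decide) (by rw [hc]; decide)
          (Equiv.Perm.mem_alternatingGroup.mpr (by rw [hc]; decide))
        obtain ⟨z, hz, hzo⟩ := hinv d (by rw [hd]; decide) (by rw [hd]; decide)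
          (Equiv.Perm.mem_alternatingGroup.mpr (by rw [hd]; decide))
        have h3 : y⁻¹ * z ∈ g.ker := hO' (hπk ▸ MonoidHom.mem_ker.mpr (by
          rw [map_mul, map_inv, huX _ _ hyo hzo, inv_mul_cancel]))
        rw [MonoidHom.mem_ker, map_mul, map_inv, hy, hz, inv_mul_eq_one, hc, hd] at h3
        exact absurd h3 (by decide)
      have h4 : π x ∈ g.ker.map π := hmap.ge hx
      obtain ⟨y, hy, hyx⟩ := h4
      have h5 : y⁻¹ * x ∈ g.ker := hO' (hπk ▸ MonoidHom.mem_ker.mpr (by
        rw [map_mul, map_inv, hyx, inv_mul_cancel]))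
      simpa using mul_mem hy h5

end Cfsg.Agent.GroupStructure3.FrobStruct
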