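import Mathlib
import Cfsg.Agent.GroupStructure3.FrobBase
import Cfsg.Agent.GroupStructure3.FrobStructure
import Cfsg.Agent.Lib.Perm.NonsolvableRegular

/-!
The structure of non-solvable Frobenius complements.
-/

set_option autoImplicit false

namespace Cfsg.Agent.GroupStructure3.FrobStruct

open Cfsg
open scoped MatrixGroups
open Cfsg.Agent.Perm

universe u

/-- The quaternion matrices. -/
def q8 : Fin 8 → Perm.Fpf.Ico.M4 :=
  ![(1, 0, 0, 1), (-1, 0, 0, -1), (2, 0, 0, 3), (3, 0, 0, 2), (0, -1, 1, 0), (0, 1, -1, 0),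
    (0, 3, 3, 0), (0, 2, 2, 0)]

theorem q8_mul : ∀ i j : Fin 8, ∃ k : Fin 8, Perm.Fpf.Ico.mm (q8 i) (q8 j) = q8 k := by
  decide +kernel

theorem q8_inv : ∀ i : Fin 8, ∃ j : Fin 8, Perm.Fpf.Ico.mm (q8 i) (q8 j) = (1, 0, 0, 1) := by
  decide +kernel

theorem q8_conj : ∀ i : Fin 8, ∃ j : Fin 8,
    Perm.Fpf.Ico.mm (3, 1, 2, 1) (Perm.Fpf.Ico.mm (q8 i) (1, -1, -2, 3)) = q8 j := by
  decide +kernel

theorem q8_inj : Function.Injective q8 := by
  unfold Function.Injective
  decide +kernel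

theorem q8_det : ∀ i : Fin 8, (q8 i).1 * (q8 i).2.2.2 - (q8 i).2.1 * (q8 i).2.2.1 = 1 := by
  decide +kernel

/-- A quaternion subgroup of `SL(2, 5)` with an element of order three normalizing it. -/
theorem exists_q8 : ∃ (Q : Subgroup SL(2, ZMod 5)) (g : SL(2, ZMod 5)), Nat.card Q = 8 ∧
    orderOf g = 3 ∧ ∀ x ∈ Q, g * x * g⁻¹ ∈ Q := by
  haveI := Perm.Fpf.finite_sl25
  let mk : Fin 8 → SL(2, ZMod 5) := fun i => ⟨Fpf.toMat (q8 i), by
    rw [Fpf.toMat, Matrix.det_fin_two_of]; exact q8_det i⟩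
  have hmk : ∀ i, Fpf.quad (mk i) = q8 i := fun i => Fpf.toMat_inj (Perm.Fpf.toMat_quad (mk i))
  let g : SL(2, ZMod 5) := ⟨Fpf.toMat (3, 1, 2, 1), by
    rw [Fpf.toMat, Matrix.det_fin_two_of]; decide⟩
  let g' : SL(2, ZMod 5) := ⟨Fpf.toMat (1, -1, -2, 3), by
    rw [Fpf.toMat, Matrix.det_fin_two_of]; decide⟩
  have hg : Fpf.quad g = (3, 1, 2, 1) := Fpf.toMat_inj (Perm.Fpf.toMat_quad g)
  have hg' : Fpf.quad g' = (1, -1, -2, 3) := Fpf.toMat_inj (Perm.Fpf.toMat_quad g')
  have hginv : g⁻¹ = g' := inv_eq_of_mul_eq_one_right (Fpf.quad_inj (by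
    rw [Fpf.quad_mul, hg, hg', Fpf.quad_one]; decide +kernel))
  let Q : Subgroup SL(2, ZMod 5) :=
    { carrier := Set.range mk
      one_mem' := ⟨0, Fpf.quad_inj (by rw [hmk, Fpf.quad_one]; rfl)⟩
      mul_mem' := by
        rintro _ _ ⟨i, rfl⟩ ⟨j, rfl⟩
        obtain ⟨k, hk⟩ := q8_mul i j
        exact ⟨k, Fpf.quad_inj (by rw [hmk, Fpf.quad_mul, hmk, hmk, hk])⟩
      inv_mem' := by
        rintro _ ⟨i, rfl⟩
        obtain ⟨j, hj⟩ := q8_inv i
        exact ⟨j, (inv_eq_of_mul_eq_one_right (Fpf.quad_inj (by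
          rw [Fpf.quad_mul, hmk, hmk, hj, Fpf.quad_one]))).symm⟩ }
  refine ⟨Q, g, ?_, ?_, ?_⟩
  · show Nat.card (Set.range mk) = 8
    rw [Nat.card_range_of_injective fun i j e => q8_inj (by rw [← hmk, ← hmk, e]), Nat.card_fin]
  · haveI : Fact (Nat.Prime 3) := ⟨Nat.prime_three⟩
    refine orderOf_eq_prime (Fpf.quad_inj ?_) fun e => ?_
    · rw [pow_succ, pow_two, Fpf.quad_mul, Fpf.quad_mul, hg, Fpf.quad_one]; decide +kernel
    · rw [e, Fpf.quad_one] at hg
      exact absurd hg (by decide)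
  · rintro _ ⟨i, rfl⟩
    obtain ⟨j, hj⟩ := q8_conj i
    exact ⟨j, Fpf.quad_inj (by rw [hmk, hginv, mul_assoc, Fpf.quad_mul, Fpf.quad_mul, hg, hg', hmk, hj])⟩

theorem isSolvable_small {R : Type*} [Group R] [Finite R] (h : Squarefree (Nat.card R) ∨
    Nat.card R = 20 ∨ Nat.card R = 40) : Group.IsSolvable R := by
  rcases h with h | h
  · haveI := IsZGroup.of_squarefree h
    infer_instance
  haveI : Fact (Nat.Prime 5) := ⟨by norm_num⟩
  obtain ⟨P⟩ := (inferInstance : Nonempty (Sylow 5 R))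
  have h5 : 5 ∣ Nat.card R := by rcases h with h | h <;> rw [h] <;> norm_num
  have h40 : Nat.card R ∣ 5 * 8 := by rcases h with h | h <;> rw [h] <;> norm_num
  have hd : Nat.card (Sylow 5 R) ∣ 5 * 8 :=
    P.card_dvd_index.trans ((P : Subgroup R).index_dvd_card.trans h40)
  have hmod : Nat.card (Sylow 5 R) % 5 = 1 := card_sylow_modEq_one 5 R
  have hco : (Nat.card (Sylow 5 R)).Coprime 5 := by
    refine ((Nat.Prime.coprime_iff_not_dvd (by norm_num)).mpr fun h' => ?_).symm
    omega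
  have h8 := Nat.le_of_dvd (by norm_num) (hco.dvd_of_dvd_mul_left hd)
  have hone : Nat.card (Sylow 5 R) = 1 := by
    have := hco.dvd_of_dvd_mul_left hd
    interval_cases hn : Nat.card (Sylow 5 R) <;> omega
  haveI : Subsingleton (Sylow 5 R) := (Nat.card_eq_one_iff_unique.mp hone).1
  haveI : (P : Subgroup R).Normal := Sylow.normal_of_subsingleton P
  haveI : Group.IsNilpotent (P : Subgroup R) := P.2.isNilpotent
  have hQ : IsPGroup 2 (R ⧸ (P : Subgroup R)) := by
    have h1 : 5 ∣ Nat.card (P : Subgroup R) := P.dvd_card_of_dvd_card h5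
    obtain ⟨c, hc⟩ := h1
    have h2 := (P : Subgroup R).card_mul_index
    rw [Subgroup.index, hc] at h2
    have h3 : Nat.card (R ⧸ (P : Subgroup R)) ∣ 2 ^ 3 := by
      refine Nat.dvd_of_mul_dvd_mul_left (show 0 < 5 by norm_num) (dvd_trans ?_ h40)
      exact ⟨c, by rw [← h2]; ring⟩
    obtain ⟨k, -, hk⟩ := (Nat.dvd_prime_pow Nat.prime_two).mp h3
    exact IsPGroup.of_card hk
  haveI : Fact (Nat.Prime 2) := ⟨Nat.prime_two⟩
  haveI : Group.IsNilpotent (R ⧸ (P : Subgroup R)) := hQ.isNilpotent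
  exact Group.isSolvable_of_ker_le_range (P : Subgroup R).subtype (QuotientGroup.mk' (P : Subgroup R))
    (by rw [QuotientGroup.ker_mk', Subgroup.range_subtype])

theorem centralizer_alt_five : ∀ σ : Equiv.Perm (Fin 5),
    σ * (Equiv.swap 0 1 * Equiv.swap 1 2) = (Equiv.swap 0 1 * Equiv.swap 1 2) * σ →
    σ * (Equiv.swap 2 3 * Equiv.swap 3 4) = (Equiv.swap 2 3 * Equiv.swap 3 4) * σ → σ = 1 := by
  decide +kernel

/-- A normal Z-subgroup dies in a map onto a group over the alternating group of degree five. -/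
theorem five_kill {G : Type u} [Group G] [Finite G] (h : G →* Equiv.Perm (Fin 5))
    (hh : alternatingGroup (Fin 5) ≤ h.range) (N : Subgroup G) [N.Normal] [IsZGroup N] :
    N ≤ h.ker := by
  refine (Subgroup.map_eq_bot_iff _).mp ?_
  set K := N.map h
  haveI : IsZGroup K := isZGroup_ker_le h
  have hK : ∀ a ∈ alternatingGroup (Fin 5), ∀ k ∈ K, a * k * a⁻¹ ∈ K := by
    intro a ha
    obtain ⟨g, rfl⟩ := hh ha
    rintro _ ⟨n, hn, rfl⟩
    exact ⟨g * n * g⁻¹, (inferInstance : N.Normal).conj_mem n hn g, by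
      simp only [map_mul, map_inv]⟩
  haveI : (K.subgroupOf (alternatingGroup (Fin 5))).Normal :=
    ⟨fun k hk a => hK a a.2 k hk⟩
  have hbot : K ⊓ alternatingGroup (Fin 5) = ⊥ := by
    rcases Subgroup.Normal.eq_bot_or_eq_top
      (inferInstance : (K.subgroupOf (alternatingGroup (Fin 5))).Normal) with hb | ht
    · rw [Subgroup.subgroupOf_eq_bot, disjoint_iff] at hb
      exact hb
    · exfalso
      rw [Subgroup.subgroupOf_eq_top] at ht
      haveI : IsZGroup (alternatingGroup (Fin 5)) :=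
        IsZGroup.of_injective (f := Subgroup.inclusion ht) (Subgroup.inclusion_injective _)
      exact not_isSolvable_alt_five inferInstance
  have hc : ∀ a ∈ alternatingGroup (Fin 5), ∀ k ∈ K, k * a = a * k := by
    intro a ha k hk
    have h1 : k * a * k⁻¹ * a⁻¹ ∈ K ⊓ alternatingGroup (Fin 5) := by
      refine ⟨?_, (alternatingGroup (Fin 5)).mul_mem
        ((inferInstance : (alternatingGroup (Fin 5)).Normal).conj_mem a ha k)
        ((alternatingGroup (Fin 5)).inv_mem ha)⟩
      rw [mul_assoc k, mul_assoc k]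
      exact K.mul_mem hk (hK a ha _ (K.inv_mem hk))
    rw [hbot, Subgroup.mem_bot, mul_inv_eq_one, mul_inv_eq_iff_eq_mul] at h1
    exact h1
  rw [Subgroup.eq_bot_iff_forall]
  exact fun k hk => centralizer_alt_five k
    (hc _ (Equiv.Perm.mem_alternatingGroup.mpr (by decide)) k hk)
    (hc _ (Equiv.Perm.mem_alternatingGroup.mpr (by decide)) k hk)

/-- The structure of a non-solvable Frobenius complement. -/
theorem nonsolvable_main {G : Type u} [Group G] [Finite G] (hP : Props G)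
    (hns : ¬ Group.IsSolvable G) :
    ∃ (L M : Subgroup G) (f : G →* Equiv.Perm (Fin 5)), Nonempty (L ≃* SL(2, ZMod 5)) ∧
      alternatingGroup (Fin 5) ≤ f.range ∧ L.map f = alternatingGroup (Fin 5) ∧
      IsZGroup f.ker ∧ M ≤ f.ker ∧ f.ker ≤ L ⊔ M ∧ L ⊓ M = ⊥ ∧
      (∀ s ∈ L, ∀ x ∈ M, s * x = x * s) ∧ (Nat.card M).Coprime 30 := by
  classical
  haveI hp2 : Fact (Nat.Prime 2) := ⟨Nat.prime_two⟩
  obtain ⟨L, hLn, hLnt, hperf⟩ := Perm.NearField.exists_perfect_normal hns
  haveI := hLn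
  haveI := hLnt
  obtain ⟨e⟩ := hP.perfect L hLnt hperf
  haveI := Perm.Fpf.finite_sl25
  have hcardL : Nat.card L = 120 := by rw [Nat.card_congr e.toEquiv, Perm.Fpf.card_sl25]
  have hnsol : ∀ {R : Type u} [Group R] [Nontrivial R] (φ : L →* R), Function.Surjective φ →
      ¬ Group.IsSolvable R := by
    intro R _ _ φ hφ hR
    refine Perm.Fpf.not_perfect_of_solvable (G := R) (top_le_iff.mp ?_)
    have h1 := Subgroup.map_commutator (⊤ : Subgroup L) ⊤ φ
    rw [Subgroup.map_top_of_surjective φ hφ] at h1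
    rw [commutator_def, ← h1, ← commutator_def, hperf, Subgroup.map_top_of_surjective φ hφ]
  set z : L := e.symm (-1) with hz
  have hzo : orderOf z = 2 := by rw [hz, MulEquiv.orderOf_eq, Perm.NearField.orderOf_neg_one]
  have hzG : orderOf (z : G) = 2 := by rw [Subgroup.orderOf_coe, hzo]
  have hzc : ∀ g : G, Commute g (z : G) := fun g => mul_inv_eq_iff_eq_mul.mp (hP.inv (g * z * g⁻¹) z
    (by rw [← MulAut.conj_apply, MulEquiv.orderOf_eq]; exact hzG) hzG)
  set C := Subgroup.centralizer (L : Set G) with hC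
  haveI hCn : C.Normal := inferInstance
  have hzC : (z : G) ∈ C := fun l _ => (hzc l).eq
  have hinter : ∀ l : L, (l : G) ∈ C → l = 1 ∨ l = z := by
    intro l hl
    have hcom : ∀ g : SL(2, ZMod 5), e l * g = g * e l := fun g => by
      obtain ⟨m, rfl⟩ := e.surjective g
      rw [← map_mul, ← map_mul]
      exact congrArg e (Subtype.ext (Subgroup.mem_centralizer_iff.1 hl m m.2).symm)
    rcases Perm.NearField.sl25_central (e l) (hcom _) (hcom _) with h | h
    · exact Or.inl (e.map_eq_one_iff.1 h)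
    · exact Or.inr (by rw [hz, ← h, MulEquiv.symm_apply_apply])
  -- elements of order 3, 4, 5 avoid the centralizer
  have hmiss : ∀ j, 2 < j → ∀ y : L, orderOf y = j → ∀ x ∈ C, orderOf x ≠ j := by
    intro j hj y hy x hxC hx
    set K : Subgroup G := Subgroup.closure {x, (y : G)}
    have hcom : x * y = y * x := (Subgroup.mem_centralizer_iff.1 hxC (y : G) y.2).symm
    have hKc : IsMulCommutative K := Subgroup.isMulCommutative_closure (by
      rintro a (rfl | rfl) b (rfl | rfl)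
      exacts [rfl, hcom, hcom.symm, rfl])
    haveI : IsCyclic K := hP.cyclic K hKc
    have hxK : x ∈ K := Subgroup.subset_closure (Or.inl rfl)
    have hyK : (y : G) ∈ K := Subgroup.subset_closure (Or.inr rfl)
    have h := Cfsg.Agent.CharTheory.BrauerSuzuki.subgroup_eq_of_card
      (Subgroup.zpowers (⟨x, hxK⟩ : K)) (Subgroup.zpowers (⟨y, hyK⟩ : K)) (by
        simp only [Nat.card_zpowers, Subgroup.orderOf_mk, Subgroup.orderOf_coe, hx, hy])
    obtain ⟨i, hi⟩ := (h ▸ Subgroup.mem_zpowers _ :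
      (⟨x, hxK⟩ : K) ∈ Subgroup.zpowers (⟨y, hyK⟩ : K))
    have hxy : x = ((y ^ i : L) : G) := by
      rw [SubgroupClass.coe_zpow]; exact (congrArg Subtype.val hi).symm
    have hle : orderOf (y ^ i) ≤ 2 := by
      rcases hinter (y ^ i) (hxy ▸ hxC) with e' | e' <;> rw [e']
      · rw [orderOf_one]; omega
      · exact hzo.le
    rw [← Subgroup.orderOf_coe, ← hxy, hx] at hle
    omega
  have h35 : ∀ q : ℕ, q.Prime → (q = 3 ∨ q = 5) → ∀ x ∈ C, orderOf x ≠ q := by
    intro q hq hq'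
    haveI : Fact q.Prime := ⟨hq⟩
    obtain ⟨y, hy⟩ := exists_prime_orderOf_dvd_card' (G := L) q
      (by rw [hcardL]; rcases hq' with rfl | rfl <;> norm_num)
    exact hmiss q (by omega) y hy
  have h4 : ∀ x ∈ C, orderOf x ≠ 4 :=
    hmiss 4 (by omega) (e.symm Perm.Fpf.genX) (by rw [MulEquiv.orderOf_eq, Perm.NearField.orderOf_genX])
  have hC2 : ∀ Q : Subgroup G, Q ≤ C → IsPGroup 2 Q → Q ≤ Subgroup.zpowers (z : G) := by
    intro Q hQ h2 x hx
    obtain ⟨k, hk⟩ := IsPGroup.iff_orderOf.mp h2 ⟨x, hx⟩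
    rw [Subgroup.orderOf_mk] at hk
    rcases k with _ | _ | k
    · rw [pow_zero, orderOf_eq_one_iff] at hk
      rw [hk]; exact one_mem _
    · rw [pow_one] at hk
      rw [hP.inv x z hk hzG]; exact Subgroup.mem_zpowers _
    · exfalso
      refine h4 (x ^ (2 ^ k)) (C.pow_mem (hQ hx) _) ?_
      rw [orderOf_pow' x (pow_ne_zero k two_ne_zero), hk,
        Nat.gcd_eq_right (pow_dvd_pow 2 (by omega)), Nat.pow_div (by omega) (by norm_num),
        show k + 1 + 1 - k = 2 by omega]
  have hCZ : IsZGroup C := isZGroup_of_two hP C fun Q hQ h2 => by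
    exact isCyclic_of_injective (Subgroup.inclusion (hC2 Q hQ h2)) (Subgroup.inclusion_injective _)
  -- five Sylow 2-subgroups
  obtain ⟨Q₀, g₀, hQ₀, hg₀, hgQ₀⟩ := exists_q8
  set Q : Subgroup L := Q₀.map e.symm.toMonoidHom with hQdef
  have hQc : Nat.card Q = 2 ^ 3 := by
    rw [hQdef, Subgroup.card_map_of_injective e.symm.injective, hQ₀]; rfl
  obtain ⟨P, hQP⟩ := (IsPGroup.of_card hQc).exists_le_sylow
  have hPQ : (P : Subgroup L) = Q := by
    refine (Subgroup.eq_of_le_of_card_ge hQP ?_).symm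
    obtain ⟨k, hk⟩ := P.2.exists_card_eq
    have h1 := Subgroup.card_subgroup_dvd_card (P : Subgroup L)
    rw [hk, hcardL] at h1
    rw [hk, hQc]
    refine Nat.pow_le_pow_right (by norm_num) ?_
    by_contra h
    have h2 : 2 ^ 4 ∣ 120 := (pow_dvd_pow 2 (by omega)).trans h1
    norm_num at h2
  set N := Subgroup.normalizer ((P : Subgroup L) : Set L) with hN
  have h8 : 8 ∣ Nat.card N := by
    have := Subgroup.card_dvd_of_le (Subgroup.le_normalizer : (P : Subgroup L) ≤ _)
    rw [hPQ, hQc] at this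
    rw [hN, hPQ]; exact this
  have h3 : 3 ∣ Nat.card N := by
    have hg : e.symm g₀ ∈ N := by
      rw [hN, hPQ]
      have hfw : ∀ x ∈ Q, e.symm g₀ * x * (e.symm g₀)⁻¹ ∈ Q := by
        rintro _ ⟨x, hx, rfl⟩
        exact ⟨g₀ * x * g₀⁻¹, hgQ₀ x hx, by simp only [MulEquiv.coe_toMonoidHom, map_mul, map_inv]⟩
      have hmap : Q.map (MulAut.conj (e.symm g₀)).toMonoidHom = Q :=
        Subgroup.eq_of_le_of_card_ge (by rintro _ ⟨x, hx, rfl⟩; exact hfw x hx)
          (le_of_eq (Subgroup.card_map_of_injective (MulEquiv.injective _)).symm)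
      rw [Subgroup.mem_normalizer_iff]
      intro x
      refine ⟨hfw x, fun hx => ?_⟩
      obtain ⟨x', hx', he⟩ := hmap.ge hx
      exact (MulAut.conj (e.symm g₀)).injective he ▸ hx'
    have := Subgroup.orderOf_dvd_natCard N hg
    rwa [MulEquiv.orderOf_eq, hg₀] at this
  have hN24 : Nat.card N = 24 := by
    have h24 : 24 ∣ Nat.card N := Nat.Coprime.mul_dvd_of_dvd_of_dvd (by norm_num : Nat.Coprime 8 3) h8 h3
    have h120 := Subgroup.card_subgroup_dvd_card N
    rw [hcardL] at h120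
    obtain ⟨c, hc⟩ := h24
    rw [hc] at h120
    have hc5 : c ∣ 5 := Nat.dvd_of_mul_dvd_mul_left (show 0 < 24 by norm_num) h120
    rcases (Nat.dvd_prime (by norm_num)).mp hc5 with rfl | rfl
    · exact hc
    exfalso
    have htop : N = ⊤ := Subgroup.eq_top_of_card_eq _ (by rw [hc, hcardL])
    haveI : (P : Subgroup L).Normal := Subgroup.normalizer_eq_top_iff.mp htop
    have h15 : Nat.card (L ⧸ (P : Subgroup L)) = 15 := by
      have h1 := (P : Subgroup L).card_mul_index
      rw [Subgroup.index, hcardL, hPQ, hQc] at h1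
      rw [hPQ]; omega
    haveI : Nontrivial (L ⧸ (P : Subgroup L)) := Finite.one_lt_card_iff_nontrivial.mp (by omega)
    refine hnsol (QuotientGroup.mk' (P : Subgroup L)) (QuotientGroup.mk'_surjective (P : Subgroup L))
      (isSolvable_small (Or.inl ?_))
    rw [h15]; decide +kernel
  have hsyl : Nat.card (Sylow 2 L) = 5 := by
    rw [P.card_eq_index_normalizer]
    show N.index = 5
    have h1 := N.card_mul_index
    rw [hN24, hcardL] at h1
    omega
  -- the action
  let f₀ : G →* Equiv.Perm (Sylow 2 L) :=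
    (MulAction.toPermHom (MulAut L) (Sylow 2 L)).comp MulAut.conjNormal
  let c5 : Sylow 2 L ≃ Fin 5 := (Finite.equivFin _).trans (finCongr hsyl)
  let f : G →* Equiv.Perm (Fin 5) := c5.permCongrHom.toMonoidHom.comp f₀
  have hfk : f.ker = f₀.ker := MonoidHom.ker_comp_of_injective f₀ _ c5.permCongrHom.injective
  have hCk : C ≤ f.ker := by
    intro x hx
    rw [hfk, MonoidHom.mem_ker]
    have h1 : (MulAut.conjNormal x : MulAut L) = 1 := MulEquiv.ext fun l => Subtype.ext (by
      rw [MulAut.conjNormal_apply, ← Subgroup.mem_centralizer_iff.1 hx (l : G) l.2,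
        mul_inv_cancel_right]
      rfl)
    show MulAction.toPermHom (MulAut L) (Sylow 2 L) (MulAut.conjNormal x) = 1
    rw [h1, map_one]
  set φ : L →* Equiv.Perm (Fin 5) := f.comp L.subtype with hφ
  have hφN : φ.ker ≤ N := by
    intro l hl
    have h1 : (l : G) ∈ f₀.ker := hfk ▸ hl
    refine Sylow.smul_eq_iff_mem_normalizer.mp ?_
    have h2 : (MulAut.conjNormal (l : G) : MulAut L) = MulAut.conj l := by
      ext m
      simp
    have h3 := DFunLike.congr_fun h1 P
    change (MulAut.conjNormal (l : G) : MulAut L) • P = P at h3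
    rwa [h2] at h3
  have hzk : z ∈ φ.ker := hCk hzC
  have hM2 : Nat.card φ.ker = 2 := by
    have h1 : Nat.card φ.ker ∣ 24 := hN24 ▸ Subgroup.card_dvd_of_le hφN
    have h2 : 2 ∣ Nat.card φ.ker := hzo ▸ Subgroup.orderOf_dvd_natCard _ hzk
    by_contra hne
    have h3 := φ.ker.card_mul_index
    rw [Subgroup.index_ker, hcardL] at h3
    have hle := Nat.le_of_dvd (by norm_num) h1
    have hR : Nat.card φ.range = 30 ∨ Nat.card φ.range = 20 ∨ Nat.card φ.range = 15 ∨
        Nat.card φ.range = 10 ∨ Nat.card φ.range = 5 := by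
      interval_cases hm : Nat.card φ.ker <;> omega
    haveI : Nontrivial φ.range := Finite.one_lt_card_iff_nontrivial.mp (by omega)
    let ψ : L →* (ULift.{u} φ.range) :=
      (MulEquiv.ulift : ULift.{u} φ.range ≃* φ.range).symm.toMonoidHom.comp φ.rangeRestrict
    refine hnsol ψ ((MulEquiv.ulift : ULift.{u} φ.range ≃* φ.range).symm.surjective.comp
      φ.rangeRestrict_surjective) ?_
    haveI : Group.IsSolvable φ.range := by
      refine isSolvable_small ?_
      rcases hR with h | h | h | h | h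
      · exact Or.inl (by rw [h]; decide +kernel)
      · exact Or.inr (Or.inl h)
      all_goals exact Or.inl (by rw [h]; decide +kernel)
    exact solvable_of_surjective
      (f := (MulEquiv.ulift : ULift.{u} φ.range ≃* φ.range).symm.toMonoidHom) (MulEquiv.surjective _)
  have hφk : φ.ker = Subgroup.zpowers z := (Subgroup.eq_of_le_of_card_ge
    (Subgroup.zpowers_le.mpr hzk) (by rw [hM2, Nat.card_zpowers, hzo])).symm
  have hkC : f.ker = C := by
    refine le_antisymm (fun k hk => ?_) hCk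
    have hmem : ∀ l : L, k * l * k⁻¹ * (l : G)⁻¹ ∈ Subgroup.zpowers (z : G) := by
      intro l
      have hL : k * l * k⁻¹ * (l : G)⁻¹ ∈ L := mul_mem (hLn.conj_mem _ l.2 k) (inv_mem l.2)
      have h1 : (⟨_, hL⟩ : L) ∈ φ.ker := by
        show f (k * l * k⁻¹ * (l : G)⁻¹) = 1
        rw [map_mul, map_mul, map_mul, map_inv, map_inv, MonoidHom.mem_ker.mp hk]
        group
      rw [hφk] at h1
      obtain ⟨i, hi⟩ := Subgroup.mem_zpowers_iff.mp h1
      exact Subgroup.mem_zpowers_iff.mpr ⟨i, by simpa using congrArg Subtype.val hi⟩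
    let χ : L →* Subgroup.zpowers (z : G) :=
      { toFun := fun l => ⟨_, hmem l⟩
        map_one' := Subtype.ext (by simp)
        map_mul' := fun a b => Subtype.ext (by
          have hb : ∀ g : G, Commute g (k * b * k⁻¹ * (b : G)⁻¹) := fun g => by
            obtain ⟨i, hi⟩ := Subgroup.mem_zpowers_iff.mp (hmem b)
            rw [← hi]
            exact (hzc g).zpow_right i
          push_cast
          calc k * ((a : G) * b) * k⁻¹ * ((a : G) * b)⁻¹
              = (k * a * k⁻¹) * (k * b * k⁻¹ * (b : G)⁻¹) * (a : G)⁻¹ := by group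
            _ = (k * a * k⁻¹) * ((a : G)⁻¹ * (k * b * k⁻¹ * (b : G)⁻¹)) := by
                rw [mul_assoc, (hb (a : G)⁻¹).eq]
            _ = k * a * k⁻¹ * (a : G)⁻¹ * (k * b * k⁻¹ * (b : G)⁻¹) := by group) }
    intro l hl
    have h2 : k * l * k⁻¹ * l⁻¹ = 1 := congrArg Subtype.val
      (Perm.Fpf.hom_eq_one_of_perfect hperf χ ⟨l, hl⟩)
    rw [mul_inv_eq_one, mul_inv_eq_iff_eq_mul] at h2
    exact h2.symm
  have hmapL : L.map f = alternatingGroup (Fin 5) := by
    refine Equiv.Perm.eq_alternatingGroup_of_index_eq_two ?_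
    have h1 := (L.map f).card_mul_index
    have h2 := φ.ker.card_mul_index
    rw [Subgroup.index_ker, hcardL, hM2, show φ.range = L.map f by
      rw [hφ, MonoidHom.range_comp, Subgroup.range_subtype]] at h2
    rw [Nat.card_perm, Nat.card_fin, show Nat.factorial 5 = 120 from rfl] at h1
    have h3 : Nat.card (L.map f) = 60 := by omega
    rw [h3] at h1
    omega
  -- the odd part of the centralizer
  set Z : Subgroup C := (Subgroup.zpowers (z : G)).subgroupOf C with hZdef
  haveI : Z.Normal := ⟨fun n hn g => by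
    rw [hZdef, Subgroup.mem_subgroupOf] at hn ⊢
    obtain ⟨i, hi⟩ := Subgroup.mem_zpowers_iff.mp hn
    push_cast
    rw [← hi, ((hzc g).zpow_right i).eq, mul_inv_cancel_right]
    exact Subgroup.zpow_mem_zpowers _ i⟩
  have hZle : Subgroup.zpowers (z : G) ≤ C := Subgroup.zpowers_le.mpr hzC
  have hZc : Nat.card Z = 2 := by
    rw [hZdef, Nat.card_congr (Subgroup.subgroupOfEquivOfLe hZle).toEquiv, Nat.card_zpowers, hzG]
  obtain ⟨P2, hP2⟩ := (IsPGroup.of_card (n := 1) (by rw [hZc, pow_one]) : IsPGroup 2 Z).exists_le_sylow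
  have hP2Z : (P2 : Subgroup C) = Z := le_antisymm (fun x hx => hC2 _ (Subgroup.map_subtype_le _)
    (P2.2.map C.subtype) ⟨x, hx, rfl⟩) hP2
  have hco : (Nat.card Z).Coprime Z.index := hP2Z ▸ P2.card_coprime_index
  obtain ⟨H, hH⟩ := Subgroup.exists_right_complement'_of_coprime hco
  have hHi : Nat.card H = Z.index := (Subgroup.IsComplement'.index_eq_card hH.symm).symm
  refine ⟨L, H.map C.subtype, f, ⟨e⟩, hmapL ▸ Subgroup.map_le_range f L, hmapL, by rw [hkC]; exact hCZ,
    hkC.ge.trans' (Subgroup.map_subtype_le _), ?_, ?_, ?_, ?_⟩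
  · rw [hkC]
    intro x hx
    obtain ⟨a, ha, b, hb, hab⟩ : ∃ a ∈ Z, ∃ b ∈ H, a * b = (⟨x, hx⟩ : C) := by
      obtain ⟨⟨⟨a, ha⟩, ⟨b, hb⟩⟩, hab, -⟩ := hH.existsUnique (⟨x, hx⟩ : C)
      exact ⟨a, ha, b, hb, hab⟩
    rw [← show (a : G) * b = x from congrArg Subtype.val hab]
    exact mul_mem (Subgroup.mem_sup_left ((Subgroup.zpowers_le.mpr z.2) ha))
      (Subgroup.mem_sup_right ⟨b, hb, rfl⟩)
  · rw [Subgroup.eq_bot_iff_forall]
    rintro x ⟨hxL, ⟨b, hb, rfl⟩⟩
    have hbZ : b ∈ Z := by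
      rcases hinter ⟨(b : G), hxL⟩ b.2 with h | h
      · rw [hZdef, Subgroup.mem_subgroupOf, show (b : G) = 1 from congrArg Subtype.val h]
        exact one_mem _
      · rw [hZdef, Subgroup.mem_subgroupOf, show (b : G) = z from congrArg Subtype.val h]
        exact Subgroup.mem_zpowers _
    have := Subgroup.disjoint_def.mp hH.disjoint hbZ hb
    rw [this]
    rfl
  · rintro s hs _ ⟨b, -, rfl⟩
    exact Subgroup.mem_centralizer_iff.1 b.2 s hs
  · rw [Subgroup.card_map_of_injective C.subtype_injective, hHi]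
    have h30 : ∀ q : ℕ, q.Prime → (q = 2 ∨ q = 3 ∨ q = 5) → ¬ q ∣ Z.index := by
      intro q hq hq' hd
      rcases hq' with rfl | h'
      · have h' := Nat.dvd_gcd (by rw [hZc] : 2 ∣ Nat.card Z) hd
        rw [hco] at h'
        exact absurd h' (by decide)
      · haveI : Fact q.Prime := ⟨hq⟩
        obtain ⟨x, hx⟩ := exists_prime_orderOf_dvd_card' (G := C) q (hd.trans Z.index_dvd_card)
        exact h35 q hq h' (x : G) x.2 (by rw [Subgroup.orderOf_coe]; exact hx)
    rw [show 30 = 2 * (3 * 5) from rfl]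
    exact Nat.Coprime.mul_right
      ((Nat.prime_two.coprime_iff_not_dvd).mpr (h30 2 Nat.prime_two (Or.inl rfl))).symm
      (Nat.Coprime.mul_right
        ((Nat.prime_three.coprime_iff_not_dvd).mpr (h30 3 Nat.prime_three (Or.inr (Or.inl rfl)))).symm
        ((Nat.Prime.coprime_iff_not_dvd (by norm_num)).mpr
          (h30 5 (by norm_num) (Or.inr (Or.inr rfl)))).symm)

end Cfsg.Agent.GroupStructure3.FrobStruct
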