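import Mathlib
import Cfsg.Agent.GroupStructure3.FrobBase
import Cfsg.Agent.S3379

/-!
The presentation of a Z-subgroup of a Frobenius complement.
-/

set_option autoImplicit false

namespace Cfsg.Agent.GroupStructure3.FrobStruct

universe u

theorem metacyclic_card_le {P : Type*} [Group P] {a b : P} {n m r : ℕ} (hn : 0 < n) (hm : 0 < m)
    (han : a ^ n = 1) (hbm : b ^ m = 1) (hab : a⁻¹ * b * a = b ^ r)
    (hgen : Subgroup.closure {a, b} = ⊤) : Finite P ∧ Nat.card P ≤ n * m := by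
  have h1 : ∀ j : ℕ, b ^ j * a = a * b ^ (r * j) := by
    intro j
    have h2 : (a⁻¹ * b * a⁻¹⁻¹) ^ j = a⁻¹ * b ^ j * a⁻¹⁻¹ := conj_pow
    rw [inv_inv, hab, ← pow_mul] at h2
    rw [h2]
    group
  have h2 : ∀ i j : ℕ, b ^ j * a ^ i = a ^ i * b ^ (r ^ i * j) := by
    intro i
    induction i with
    | zero => intro j; simp
    | succ i ih =>
      intro j
      rw [pow_succ, ← mul_assoc, ih, mul_assoc, h1, pow_succ' r]
      simp [mul_assoc]
  have hmul : ∀ i j i' j' : ℕ,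
      (a ^ i * b ^ j) * (a ^ i' * b ^ j') = a ^ (i + i') * b ^ (r ^ i' * j + j') := by
    intro i j i' j'
    rw [mul_assoc, ← mul_assoc (b ^ j), h2, mul_assoc, ← pow_add, ← mul_assoc, ← pow_add]
  have hinv : ∀ (c : P) (k : ℕ), c ^ k = 1 → 0 < k → ∀ i : ℕ, (c ^ i)⁻¹ = c ^ ((k - 1) * i) := by
    intro c k hc hk i
    refine inv_eq_of_mul_eq_one_right ?_
    rw [← pow_add, show i + (k - 1) * i = k * i by
      obtain ⟨k', rfl⟩ := Nat.exists_eq_add_of_le hk; simp; ring, pow_mul, hc, one_pow]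
  let S : Subgroup P :=
    { carrier := {x | ∃ i j : ℕ, x = a ^ i * b ^ j}
      one_mem' := ⟨0, 0, by simp⟩
      mul_mem' := by
        rintro _ _ ⟨i, j, rfl⟩ ⟨i', j', rfl⟩
        exact ⟨_, _, hmul i j i' j'⟩
      inv_mem' := by
        rintro _ ⟨i, j, rfl⟩
        refine ⟨(n - 1) * i, r ^ ((n - 1) * i) * ((m - 1) * j), ?_⟩
        rw [mul_inv_rev, hinv a n han hn, hinv b m hbm hm, h2] }
  have hS : S = ⊤ := by
    rw [← top_le_iff, ← hgen, Subgroup.closure_le]
    rintro x (rfl | rfl)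
    exacts [⟨1, 0, by simp⟩, ⟨0, 1, by simp⟩]
  let g : Fin n × Fin m → P := fun p => a ^ (p.1 : ℕ) * b ^ (p.2 : ℕ)
  have hg : Function.Surjective g := by
    intro x
    obtain ⟨i, j, rfl⟩ : x ∈ S := hS ▸ Subgroup.mem_top x
    refine ⟨(⟨i % n, Nat.mod_lt _ hn⟩, ⟨j % m, Nat.mod_lt _ hm⟩), ?_⟩
    show a ^ (i % n) * b ^ (j % m) = _
    rw [← pow_eq_pow_mod i han, ← pow_eq_pow_mod j hbm]
  refine ⟨Finite.of_surjective g hg, (Nat.card_le_card_of_surjective g hg).trans_eq ?_⟩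
  simp

/-- The relators. -/
abbrev relators (n m r : ℕ) : Set (FreeGroup (Fin 2)) :=
  {FreeGroup.of (0 : Fin 2) ^ n, FreeGroup.of (1 : Fin 2) ^ m,
    (FreeGroup.of (0 : Fin 2))⁻¹ * FreeGroup.of 1 * FreeGroup.of 0 * (FreeGroup.of (1 : Fin 2) ^ r)⁻¹}

theorem presented_iso {N : Type*} [Group N] [Finite N] {x y : N} {r : ℕ}
    (hgen : Subgroup.closure {x, y} = ⊤) (hco : (orderOf x).Coprime (orderOf y))
    (hxy : x⁻¹ * y * x = y ^ r) :
    Nonempty (N ≃* PresentedGroup (relators (orderOf x) (orderOf y) r)) := by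
  set R := relators (orderOf x) (orderOf y) r
  have hlift : ∀ w ∈ R, FreeGroup.lift ![x, y] w = 1 := by
    rintro w (rfl | rfl | rfl)
    · simp [pow_orderOf_eq_one]
    · simp [pow_orderOf_eq_one]
    · simp [hxy]
  let φ : PresentedGroup R →* N := PresentedGroup.toGroup hlift
  have hφ : Function.Surjective φ := by
    rw [← MonoidHom.range_eq_top, ← top_le_iff, ← hgen, Subgroup.closure_le]
    rintro z (rfl | rfl)
    · exact ⟨PresentedGroup.of 0, PresentedGroup.toGroup.of (h := hlift)⟩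
    · exact ⟨PresentedGroup.of 1, PresentedGroup.toGroup.of (h := hlift)⟩
  have hrel : ∀ w ∈ R, PresentedGroup.mk R w = 1 := fun w hw => PresentedGroup.one_of_mem hw
  obtain ⟨hfin, hle⟩ := metacyclic_card_le (a := (PresentedGroup.of 0 : PresentedGroup R))
    (b := PresentedGroup.of 1) (n := orderOf x) (m := orderOf y) (r := r) (orderOf_pos x)
    (orderOf_pos y)
    (by rw [PresentedGroup.of, ← map_pow]; exact hrel _ (Or.inl rfl))
    (by rw [PresentedGroup.of, ← map_pow]; exact hrel _ (Or.inr (Or.inl rfl)))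
    (by
      rw [← mul_inv_eq_one, PresentedGroup.of, PresentedGroup.of, ← map_inv, ← map_pow,
        ← map_inv, ← map_mul, ← map_mul, ← map_mul]
      exact hrel _ (Or.inr (Or.inr rfl)))
    (by
      rw [← PresentedGroup.closure_range_of R]
      congr 1
      ext z
      simp [Fin.exists_fin_two, eq_comm])
  have hge : orderOf x * orderOf y ≤ Nat.card N := Nat.le_of_dvd Nat.card_pos
    (hco.mul_dvd_of_dvd_of_dvd (orderOf_dvd_natCard x) (orderOf_dvd_natCard y))
  exact ⟨(MulEquiv.ofBijective φ ((Nat.bijective_iff_surjective_and_card φ).mpr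
    ⟨hφ, le_antisymm (hle.trans hge) (Nat.card_le_card_of_surjective φ hφ)⟩)).symm⟩

variable {G : Type u} [Group G] [Finite G]

/-- Elements of prime order of a cyclic group normalizing a cyclic group of coprime order
centralize it. -/
theorem commute_of_prime (hP : Props G) {y g : G} (hg : (orderOf g).Prime)
    (hco : (orderOf g).Coprime (orderOf y)) (hn : g * y * g⁻¹ ∈ Subgroup.zpowers y) :
    Commute g y := by
  obtain ⟨s, hs⟩ := Subgroup.mem_zpowers_iff.mp hn
  set m := orderOf y with hm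
  set q := orderOf g with hq
  have hconj : ∀ k : ℕ, g ^ k * y * (g ^ k)⁻¹ = y ^ (s ^ k) := by
    intro k
    induction k with
    | zero => simp
    | succ k ih =>
      calc g ^ (k + 1) * y * (g ^ (k + 1))⁻¹ = g * (g ^ k * y * (g ^ k)⁻¹) * g⁻¹ := by
            rw [pow_succ']; group
        _ = g * y ^ (s ^ k) * g⁻¹ := by rw [ih]
        _ = (g * y * g⁻¹) ^ (s ^ k) := conj_zpow.symm
        _ = y ^ (s ^ (k + 1)) := by rw [← hs, ← zpow_mul, pow_succ']
  have h1 : ((m : ℤ)) ∣ (∑ i ∈ Finset.range q, s ^ i) * (s - 1) := by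
    rw [geom_sum_mul]
    have h := hconj q
    rw [hq, pow_orderOf_eq_one, one_mul, inv_one, mul_one, ← hq] at h
    rw [hm, orderOf_dvd_iff_zpow_eq_one, zpow_sub, zpow_one, ← h, mul_inv_cancel]
  have h2 : ∀ p : ℕ, p.Prime → p ∣ m → (p : ℤ) ∣ s - 1 := by
    intro p hp hpm
    set b := y ^ (m / p) with hb
    have hbo : orderOf b = p := orderOf_pow_orderOf_div (orderOf_pos y).ne' hpm
    have hgb : g * b * g⁻¹ = b ^ s := by
      rw [hb, ← conj_pow, ← hs, ← zpow_natCast, ← zpow_mul, mul_comm, zpow_mul, zpow_natCast]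
    have hc := hP.pq b g (hbo ▸ hp) hg (hgb ▸ zpow_mem (Subgroup.mem_zpowers b) s)
    rw [hc.eq, mul_inv_cancel_right] at hgb
    rw [← hbo, orderOf_dvd_iff_zpow_eq_one, zpow_sub, zpow_one, ← hgb, mul_inv_cancel]
  have h3 : IsCoprime (m : ℤ) (∑ i ∈ Finset.range q, s ^ i) := by
    rw [Int.isCoprime_iff_gcd_eq_one, Int.gcd, Int.natAbs_natCast]
    refine Nat.coprime_of_dvd fun p hp hpm hpS => ?_
    rw [← Int.natCast_dvd] at hpS
    haveI : Fact p.Prime := ⟨hp⟩
    have hs1 : (s : ZMod p) = 1 := by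
      have := (ZMod.intCast_zmod_eq_zero_iff_dvd _ _).mpr (h2 p hp hpm)
      rwa [Int.cast_sub, Int.cast_one, sub_eq_zero] at this
    have h4 := (ZMod.intCast_zmod_eq_zero_iff_dvd _ _).mpr hpS
    rw [Int.cast_sum] at h4
    simp only [Int.cast_pow, hs1, one_pow, Finset.sum_const, Finset.card_range, nsmul_eq_mul,
      mul_one, ZMod.natCast_eq_zero_iff] at h4
    exact hp.not_dvd_one (hco ▸ Nat.dvd_gcd h4 hpm)
  have h5 := h3.dvd_of_dvd_mul_left h1
  rw [hm, orderOf_dvd_iff_zpow_eq_one, zpow_sub, zpow_one, hs, mul_inv_eq_one] at h5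
  exact mul_inv_eq_iff_eq_mul.mp h5

/-- A Z-subgroup of a Frobenius complement has the special presentation. -/
theorem presentation (hP : Props G) (N : Subgroup G)
    (hZ : ∀ (p : ℕ) [Fact p.Prime] (P : Sylow p N), IsCyclic P) :
    ∃ n m r : ℕ, 0 < n ∧ 0 < m ∧ Nat.Coprime (r - 1) m ∧ Nat.Coprime n m ∧ 1 ≤ r ∧
      r ^ (n / ∏ p ∈ n.primeFactors, p) % m = 1 % m ∧
      Nonempty (N ≃* PresentedGroup (relators n m r)) := by
  obtain ⟨x, y, n, m, r, hgen, rfl, rfl, hxy, hr1m, hnm, hr1, hrn⟩ := S3379.result (G := N) hZ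
  refine ⟨orderOf x, orderOf y, r, orderOf_pos x, orderOf_pos y, hr1m, hnm, hr1, ?_,
    presented_iso hgen hnm hxy⟩
  set n := orderOf x with hn
  set m := orderOf y with hm
  have hiter : ∀ k : ℕ, (x ^ k)⁻¹ * y * x ^ k = y ^ (r ^ k) := by
    intro k
    induction k with
    | zero => simp
    | succ k ih =>
      calc (x ^ (k + 1))⁻¹ * y * x ^ (k + 1) = x⁻¹ * ((x ^ k)⁻¹ * y * x ^ k) * x := by
            rw [pow_succ]; group
        _ = x⁻¹ * y ^ (r ^ k) * x⁻¹⁻¹ := by rw [ih, inv_inv]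
        _ = (x⁻¹ * y * x⁻¹⁻¹) ^ (r ^ k) := conj_pow.symm
        _ = y ^ (r ^ (k + 1)) := by rw [inv_inv, hxy, ← pow_mul, pow_succ']
  have hone : ∀ k : ℕ, Commute (x ^ k) y ↔ (r : ZMod m) ^ k = 1 := by
    intro k
    rw [← Nat.cast_pow, ← Nat.cast_one, ZMod.natCast_eq_natCast_iff, hm, ← pow_eq_pow_iff_modEq,
      pow_one, ← hiter, mul_assoc, inv_mul_eq_iff_eq_mul]
    exact ⟨fun h => h.symm, fun h => h.symm⟩
  set d := orderOf (r : ZMod m) with hd
  have hdn : d ∣ n := by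
    refine orderOf_dvd_of_pow_eq_one ((hone n).mp ?_)
    rw [hn, pow_orderOf_eq_one]
    exact Commute.one_left y
  have hdq : ∀ q ∈ n.primeFactors, q ∣ n / d := by
    intro q hq
    obtain ⟨hqp, hqn, -⟩ := Nat.mem_primeFactors.mp hq
    have ho : orderOf (x ^ (n / q)) = q := orderOf_pow_orderOf_div (orderOf_pos x).ne' hqn
    have hc : Commute (x ^ (n / q)) y := by
      refine Subtype.ext ?_
      refine commute_of_prime hP (y := (y : G)) (g := ((x ^ (n / q) : N) : G)) ?_ ?_ ?_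
      · rw [Subgroup.orderOf_coe, ho]; exact hqp
      · rw [Subgroup.orderOf_coe, Subgroup.orderOf_coe, ho]
        exact Nat.Coprime.coprime_dvd_left hqn hnm
      · have hk : ∀ k : ℕ, x ^ k * y * (x ^ k)⁻¹ ∈ Subgroup.zpowers y := by
          intro k
          have h := hiter ((n - 1) * k)
          have he : x ^ ((n - 1) * k) = (x ^ k)⁻¹ := by
            refine (inv_eq_of_mul_eq_one_right ?_).symm
            rw [← pow_add, show k + (n - 1) * k = n * k by
              obtain ⟨n', hn'⟩ := Nat.exists_eq_add_of_le (show 1 ≤ n from orderOf_pos x)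
              rw [hn']; simp; ring, pow_mul, hn, pow_orderOf_eq_one, one_pow]
          rw [he, inv_inv] at h
          rw [h]
          exact Subgroup.npow_mem_zpowers y _
        obtain ⟨t, ht⟩ := Subgroup.mem_zpowers_iff.mp (hk (n / q))
        exact Subgroup.mem_zpowers_iff.mpr ⟨t, by simpa using congrArg Subtype.val ht⟩
    have h1 : d ∣ n / q := orderOf_dvd_of_pow_eq_one ((hone _).mp hc)
    obtain ⟨c, hc'⟩ := h1
    have hdpos : 0 < d := Nat.pos_of_dvd_of_pos hdn (orderOf_pos x)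
    refine ⟨c, ?_⟩
    rw [← Nat.mul_div_cancel' hqn, hc', show q * (d * c) = d * (q * c) by ring,
      Nat.mul_div_cancel_left _ hdpos]
  have hprod : (∏ q ∈ n.primeFactors, q) ∣ n / d := Finset.prod_primes_dvd _
    (fun q hq => Nat.prime_iff.mp (Nat.prime_of_mem_primeFactors hq)) hdq
  have hdd : d ∣ n / ∏ q ∈ n.primeFactors, q := by
    rw [Nat.dvd_div_iff_mul_dvd (hprod.trans (Nat.div_dvd_of_dvd hdn)), mul_comm,
      ← Nat.dvd_div_iff_mul_dvd hdn]
    exact hprod
  have hfin : (r : ZMod m) ^ (n / ∏ q ∈ n.primeFactors, q) = 1 := orderOf_dvd_iff_pow_eq_one.mp hdd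
  rw [← Nat.cast_pow, ← Nat.cast_one, ZMod.natCast_eq_natCast_iff] at hfin
  exact hfin

end Cfsg.Agent.GroupStructure3.FrobStruct
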