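import Mathlib
import Cfsg.Agent.GStructB.FrobeniusCount

/-!
The generalized theorem of Frobenius: for a central element `z` of a finite group,
`gcd (n, |G|)` divides the number of solutions of `x ^ n = z`; in general the number of
solutions of `x ^ n ∈ c^G` is divisible by `gcd (|c^G| * n, |G|)`.
-/

set_option autoImplicit false

namespace Cfsg.Agent.GroupStructure3.FrobeniusGeneral

open Cfsg.Agent.GStructB.FrobeniusCount

variable {G : Type*} [Group G] [Finite G]

/-- The size of a conjugacy class. -/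
theorem card_isConj (u : G) :
    Nat.card {v : G // IsConj u v} = (Subgroup.centralizer ({u} : Set G)).index := by
  have hset : {v : G | IsConj u v} = MulAction.orbit (ConjAct G) u := by
    ext v
    rw [ConjAct.orbit_eq_carrier_conjClasses, ConjClasses.mem_carrier_iff_mk_eq,
      ConjClasses.mk_eq_mk_iff_isConj]
    exact ⟨IsConj.symm, IsConj.symm⟩
  rw [show Nat.card {v : G // IsConj u v} = Nat.card ({v : G | IsConj u v} : Set G) from rfl,
    hset, Nat.card_congr (MulAction.orbitEquivQuotientStabilizer (ConjAct G) u),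
    Subgroup.centralizer_eq_comap_stabilizer]
  exact (Subgroup.index_comap_of_surjective _ (MulEquiv.surjective _)).symm

/-- A class function with values divisible by `d` after weighting by the class size has sum
divisible by `d`. -/
theorem dvd_sum_classFunction [Fintype G] (f : G → ℕ) (hf : ∀ g u : G, f (g * u * g⁻¹) = f u)
    (d : ℕ) (h : ∀ u, d ∣ (Subgroup.centralizer ({u} : Set G)).index * f u) :
    d ∣ ∑ u, f u := by
  classical
  rw [← Finset.sum_fiberwise_of_maps_to (g := fun u : G => ConjClasses.mk u)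
      (t := Finset.univ.image fun u => ConjClasses.mk u)
      (fun u hu => Finset.mem_image_of_mem _ hu)]
  refine Finset.dvd_sum fun C hC => ?_
  obtain ⟨u, -, rfl⟩ := Finset.mem_image.mp hC
  have hconst : ∀ v ∈ Finset.univ.filter (fun v => ConjClasses.mk v = ConjClasses.mk u),
      f v = f u := by
    intro v hv
    obtain ⟨g, rfl⟩ : ∃ g, g * u * g⁻¹ = v :=
      isConj_iff.mp (ConjClasses.mk_eq_mk_iff_isConj.mp (Finset.mem_filter.mp hv).2).symm
    exact hf g u
  rw [Finset.sum_congr rfl hconst, Finset.sum_const, smul_eq_mul]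
  refine (h u).trans (dvd_of_eq ?_)
  rw [← card_isConj u, Nat.card_eq_fintype_card, Fintype.card_subtype]
  congr 2
  ext v
  simp only [Finset.mem_filter, Finset.mem_univ, true_and, ConjClasses.mk_eq_mk_iff_isConj]
  exact ⟨IsConj.symm, IsConj.symm⟩

theorem normal_zpowers_of_mem_center {w : G} (hw : w ∈ Subgroup.center G) :
    (Subgroup.zpowers w).Normal :=
  ⟨fun n hn g => by
    rwa [Subgroup.mem_center_iff.mp (Subgroup.zpowers_le.mpr hw hn) g, mul_inv_cancel_right]⟩

/-- The number of elements with `n`-th power in a central cyclic subgroup. -/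
theorem card_pow_mem_zpowers {w : G} [(Subgroup.zpowers w).Normal] (n : ℕ) :
    Nat.card {x : G // x ^ n ∈ Subgroup.zpowers w} =
      orderOf w * numPowOne (G ⧸ Subgroup.zpowers w) n := by
  have e : {x : G // x ^ n ∈ Subgroup.zpowers w} ≃
      QuotientGroup.mk ⁻¹' {q : G ⧸ Subgroup.zpowers w | q ^ n = 1} :=
    Equiv.subtypeEquivRight fun x => by
      rw [Set.mem_preimage, Set.mem_ofPred_eq, ← QuotientGroup.mk_pow, QuotientGroup.eq_one_iff]
  rw [Nat.card_congr (e.trans (QuotientGroup.preimageMkEquivSubgroupProdSet _ _)), Nat.card_prod,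
    Nat.card_zpowers]
  rfl

/-- Fibre counts of the `p ^ a`-th power map over central `p`-elements. -/
theorem prime_pow_dvd_card_pow_eq (p : ℕ) [hp : Fact p.Prime] {z : G}
    (hz : z ∈ Subgroup.center G) {s : ℕ} (hzo : orderOf z = p ^ s) {a b : ℕ} (hba : b ≤ a)
    (hb : p ^ b ∣ Nat.card G) : p ^ b ∣ Nat.card {x : G // x ^ p ^ a = z} := by
  classical
  rcases s with _ | s
  · rw [pow_zero, orderOf_eq_one_iff] at hzo
    subst hzo
    change p ^ b ∣ numPowOne G (p ^ a)
    rw [← numPowOne_gcd]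
    exact (Nat.dvd_gcd hb (pow_dvd_pow _ hba)).trans (dvd_numPowOne (Nat.gcd_dvd_left _ _))
  rcases isEmpty_or_nonempty {x : G // x ^ p ^ a = z} with he | ⟨⟨x₀, hx₀⟩⟩
  · simp
  have hord : orderOf x₀ = p ^ (a + s + 1) := by
    refine orderOf_eq_prime_pow ?_ ?_
    · rw [pow_add, pow_mul, hx₀]
      intro h
      have h1 := Nat.le_of_dvd (pow_pos hp.out.pos _) (orderOf_dvd_of_pow_eq_one h)
      rw [hzo] at h1
      exact absurd h1 (not_le.mpr (Nat.pow_lt_pow_right hp.out.one_lt (Nat.lt_succ_self s)))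
    · rw [show a + s + 1 = a + (s + 1) by omega, pow_add, pow_mul, hx₀, ← hzo,
        pow_orderOf_eq_one]
  have hG : p ^ (a + s + 1) ∣ Nat.card G := hord ▸ orderOf_dvd_natCard x₀
  have hzp : z ^ p ∈ Subgroup.center G := pow_mem hz p
  have hzpo : orderOf (z ^ p) = p ^ s := by
    rw [orderOf_pow_of_dvd hp.out.ne_zero (hzo ▸ dvd_pow_self p (Nat.succ_ne_zero s)), hzo,
      pow_succ, Nat.mul_div_cancel _ hp.out.pos]
  haveI := normal_zpowers_of_mem_center hz
  haveI := normal_zpowers_of_mem_center hzp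
  -- the fibres over the two cyclic groups
  have hT : p ^ (a + s) ∣ Nat.card {x : G // x ^ p ^ a ∈ Subgroup.zpowers z} := by
    rw [card_pow_mem_zpowers, hzo]
    have hQ : p ^ a ∣ Nat.card (G ⧸ Subgroup.zpowers z) := by
      have h2 : p ^ (a + s + 1) ∣ Nat.card (G ⧸ Subgroup.zpowers z) * p ^ (s + 1) := by
        have h3 := Subgroup.card_eq_card_quotient_mul_card_subgroup (Subgroup.zpowers z)
        rw [Nat.card_zpowers, hzo] at h3
        rw [← h3]; exact hG
      rw [show a + s + 1 = a + (s + 1) by omega, pow_add] at h2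
      exact Nat.dvd_of_mul_dvd_mul_right (pow_pos hp.out.pos _) h2
    rw [show a + s = s + a by omega, pow_add, pow_succ, mul_assoc]
    exact mul_dvd_mul_left _ (Dvd.dvd.mul_left (dvd_numPowOne hQ) p)
  have hT' : p ^ (a + s) ∣ Nat.card {x : G // x ^ p ^ a ∈ Subgroup.zpowers (z ^ p)} := by
    rw [card_pow_mem_zpowers, hzpo]
    have hQ : p ^ a ∣ Nat.card (G ⧸ Subgroup.zpowers (z ^ p)) := by
      have h2 : p ^ (a + s) ∣ Nat.card (G ⧸ Subgroup.zpowers (z ^ p)) * p ^ s := by
        have h3 := Subgroup.card_eq_card_quotient_mul_card_subgroup (Subgroup.zpowers (z ^ p))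
        rw [Nat.card_zpowers, hzpo] at h3
        rw [← h3]; exact (pow_dvd_pow _ (Nat.le_succ _)).trans hG
      rw [pow_add] at h2
      exact Nat.dvd_of_mul_dvd_mul_right (pow_pos hp.out.pos _) h2
    rw [show a + s = s + a by omega, pow_add]
    exact mul_dvd_mul_left _ (dvd_numPowOne hQ)
  haveI := Fintype.ofFinite G
  set A := Finset.univ.filter fun x : G => x ^ p ^ a ∈ Subgroup.zpowers z with hA
  set B := Finset.univ.filter fun x : G => x ^ p ^ a ∈ Subgroup.zpowers (z ^ p) with hB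
  set Y := Finset.univ.filter (fun y : G => y ∈ Subgroup.zpowers z) \
    Finset.univ.filter (fun y : G => y ∈ Subgroup.zpowers (z ^ p)) with hY
  have hle : Subgroup.zpowers (z ^ p) ≤ Subgroup.zpowers z :=
    Subgroup.zpowers_le.mpr (pow_mem (Subgroup.mem_zpowers z) p)
  have hYcard : Y.card = p ^ (s + 1) - p ^ s := by
    rw [hY, Finset.card_sdiff_of_subset]
    · rw [← Fintype.card_subtype, ← Fintype.card_subtype, ← Nat.card_eq_fintype_card,
        ← Nat.card_eq_fintype_card]
      rw [show Nat.card {y : G // y ∈ Subgroup.zpowers z} = orderOf z from Nat.card_zpowers z,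
        show Nat.card {y : G // y ∈ Subgroup.zpowers (z ^ p)} = orderOf (z ^ p) from
          Nat.card_zpowers _, hzo, hzpo]
    · intro y hy
      simp only [Finset.mem_filter, Finset.mem_univ, true_and] at hy ⊢
      exact hle hy
  have hfib : ∀ y ∈ Y, ((A \ B).filter fun x => x ^ p ^ a = y).card =
      Nat.card {x : G // x ^ p ^ a = z} := by
    intro y hy
    simp only [hY, Finset.mem_sdiff, Finset.mem_filter, Finset.mem_univ, true_and] at hy
    have hfeq : (A \ B).filter (fun x => x ^ p ^ a = y) =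
        Finset.univ.filter fun x => x ^ p ^ a = y := by
      ext x
      simp only [hA, hB, Finset.mem_sdiff, Finset.mem_filter, Finset.mem_univ, true_and]
      exact ⟨fun h => h.2, fun h => ⟨h.symm ▸ hy, h⟩⟩
    rw [hfeq, ← Fintype.card_subtype, ← Nat.card_eq_fintype_card]
    obtain ⟨u, -, hu⟩ := ((isOfFinOrder_of_finite z).mem_zpowers_iff_mem_range_orderOf.trans
      Finset.mem_image).mp hy.1
    have hup : ¬ p ∣ u := by
      rintro ⟨k, rfl⟩
      exact hy.2 (hu ▸ by rw [pow_mul]; exact pow_mem (Subgroup.mem_zpowers _) k)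
    obtain ⟨v, -, hv⟩ := Nat.exists_mul_mod_eq_one_of_coprime
      ((Nat.Coprime.pow_right (a + s + 1) ((hp.out.coprime_iff_not_dvd.mpr hup).symm)))
      (Nat.one_lt_pow (by omega) hp.out.one_lt)
    have hinv : ∀ (w x : G), x ^ p ^ (a + s + 1) = 1 → x ^ p ^ a = w → x ^ (u * v) = x := by
      intro w x hx _
      rw [pow_eq_pow_mod _ hx, hv, pow_one]
    have hkill : ∀ (w x : G), w ^ p ^ (s + 1) = 1 → x ^ p ^ a = w → x ^ p ^ (a + s + 1) = 1 := by
      intro w x hw hx
      rw [show a + s + 1 = a + (s + 1) by omega, pow_add, pow_mul, hx, hw]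
    have hz1 : z ^ p ^ (s + 1) = 1 := hzo ▸ pow_orderOf_eq_one z
    have hy1 : y ^ p ^ (s + 1) = 1 := by rw [← hu, ← pow_mul, mul_comm, pow_mul, hz1, one_pow]
    refine Nat.card_congr
      { toFun := fun x => ⟨x.1 ^ v, by
          rw [← pow_mul, mul_comm, pow_mul, x.2, ← hu, ← pow_mul]
          obtain ⟨x₁, hx₁⟩ : ∃ x₁ : G, x₁ ^ p ^ a = z := ⟨x₀, hx₀⟩
          have h5 := congrArg (· ^ p ^ a) (hinv z x₁ (hkill z x₁ hz1 hx₁) hx₁)
          simp only [← pow_mul] at h5
          rw [mul_comm (u * v), pow_mul, hx₁] at h5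
          exact h5⟩
        invFun := fun x => ⟨x.1 ^ u, by rw [← pow_mul, mul_comm, pow_mul, x.2, hu]⟩
        left_inv := fun x => Subtype.ext (by
          change (x.1 ^ v) ^ u = x.1
          rw [← pow_mul, mul_comm]
          exact hinv y x.1 (hkill y x.1 hy1 x.2) x.2)
        right_inv := fun x => Subtype.ext (by
          change (x.1 ^ u) ^ v = x.1
          rw [← pow_mul]
          exact hinv z x.1 (hkill z x.1 hz1 x.2) x.2) }
  have hBA : B ⊆ A := by
    intro x hx
    simp only [hA, hB, Finset.mem_filter, Finset.mem_univ, true_and] at hx ⊢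
    exact hle hx
  have hsum : (A \ B).card = (p ^ (s + 1) - p ^ s) * Nat.card {x : G // x ^ p ^ a = z} := by
    rw [Finset.card_eq_sum_card_fiberwise (f := fun x => x ^ p ^ a) (t := Y),
      Finset.sum_congr rfl hfib, Finset.sum_const, smul_eq_mul, hYcard]
    intro x hx
    simp only [hA, hB, hY, Finset.coe_sdiff, Finset.coe_filter, Finset.mem_univ, true_and,
      Set.mem_sdiff, Set.mem_ofPred_eq] at hx ⊢
    exact hx
  have hdiv : p ^ (a + s) ∣ (A \ B).card := by
    rw [Finset.card_sdiff_of_subset hBA]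
    apply Nat.dvd_sub
    · rw [hA, ← Fintype.card_subtype, ← Nat.card_eq_fintype_card]; exact hT
    · rw [hB, ← Fintype.card_subtype, ← Nat.card_eq_fintype_card]; exact hT'
  rw [hsum, pow_succ, ← Nat.mul_sub_one, mul_assoc, pow_add, mul_comm (p ^ a)] at hdiv
  have h6 := Nat.dvd_of_mul_dvd_mul_left (pow_pos hp.out.pos s) hdiv
  refine (pow_dvd_pow p hba).trans (Nat.Coprime.dvd_of_dvd_mul_left ?_ h6)
  apply Nat.Coprime.pow_left
  rw [hp.out.coprime_iff_not_dvd]
  intro h
  have h7 := hp.out.two_le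
  have := Nat.le_of_dvd (by omega) h
  omega

/-- For central `z`, `gcd (n, |G|)` divides the number of solutions of `x ^ n = z`. -/
theorem gcd_dvd_card_pow_eq {z : G} (hz : z ∈ Subgroup.center G) (n : ℕ) :
    Nat.gcd n (Nat.card G) ∣ Nat.card {x : G // x ^ n = z} := by
  classical
  haveI := Fintype.ofFinite G
  rcases Nat.eq_zero_or_pos n with rfl | hn
  · rw [Nat.gcd_zero_left]
    rcases eq_or_ne z 1 with rfl | hz1
    · simp [Nat.card_eq_fintype_card, Fintype.card_subtype]
    · simp [pow_zero, hz1.symm]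
  refine (Nat.dvd_iff_prime_pow_dvd_dvd _ _).mpr fun p b hp hpb => ?_
  haveI := Fact.mk hp
  have hbn : p ^ b ∣ n := hpb.trans (Nat.gcd_dvd_left _ _)
  have hbG : p ^ b ∣ Nat.card G := hpb.trans (Nat.gcd_dvd_right _ _)
  obtain ⟨a, n', hn', hn0⟩ := Nat.exists_eq_pow_mul_and_not_dvd hn.ne' p hp.ne_one
  obtain ⟨v, m, hm, hG0⟩ := Nat.exists_eq_pow_mul_and_not_dvd (Nat.card_pos (α := G)).ne' p hp.ne_one
  have hba : b ≤ a := by
    rw [hn0] at hbn
    exact (Nat.pow_dvd_pow_iff_le_right hp.one_lt).mp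
      ((Nat.Coprime.pow_left b (hp.coprime_iff_not_dvd.mpr hn')).dvd_of_dvd_mul_right hbn)
  have hco : (p ^ v).Coprime m := Nat.Coprime.pow_left v (hp.coprime_iff_not_dvd.mpr hm)
  obtain ⟨e, he1, he2⟩ := Nat.chineseRemainder hco 1 0
  obtain ⟨e', he1', he2'⟩ := Nat.chineseRemainder hco 0 1
  have hee : e + e' ≡ 1 [MOD Nat.card G] := by
    rw [hG0]
    exact (Nat.modEq_and_modEq_iff_modEq_mul hco).mp ⟨he1.add he1', he2.add he2'⟩
  have hpowK : ∀ (x : G) {i j : ℕ}, i ≡ j [MOD Nat.card G] → x ^ i = x ^ j := fun x i j hij =>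
    pow_eq_pow_iff_modEq.mpr (hij.of_dvd (orderOf_dvd_natCard x))
  have hsplit : ∀ x : G, x ^ e * x ^ e' = x := fun x => by
    rw [← pow_add, hpowK x hee, pow_one]
  have hdm : m ∣ e := Nat.modEq_zero_iff_dvd.mp he2
  have hdp : p ^ v ∣ e' := Nat.modEq_zero_iff_dvd.mp he1'
  have hkillp : ∀ x : G, (x ^ e) ^ p ^ v = 1 := fun x => by
    rw [← pow_mul, ← orderOf_dvd_iff_pow_eq_one]
    refine (orderOf_dvd_natCard x).trans ?_
    rw [hG0, mul_comm e]
    exact mul_dvd_mul_left _ hdm
  obtain ⟨c, hc⟩ : ∃ c, n' * c ≡ 1 [MOD p ^ v] := by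
    have hcop : n'.Coprime (p ^ v) := Nat.Coprime.pow_right v (hp.coprime_iff_not_dvd.mpr hn').symm
    rcases Nat.eq_zero_or_pos v with hv | hv
    · exact ⟨0, by rw [hv, pow_zero]; exact Nat.modEq_one⟩
    obtain ⟨c, -, hc⟩ := Nat.exists_mul_mod_eq_one_of_coprime hcop
      (Nat.one_lt_pow hv.ne' hp.one_lt)
    exact ⟨c, by rw [Nat.ModEq, hc, Nat.one_mod_eq_one.mpr (Nat.one_lt_pow hv.ne' hp.one_lt).ne']⟩
  let f : G → ℕ := fun w => (Finset.univ.filter fun x : G => x ^ n = z ∧ x ^ e' = w).card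
  have hN : Nat.card {x : G // x ^ n = z} = ∑ w, f w := by
    rw [Nat.card_eq_fintype_card, Fintype.card_subtype,
      Finset.card_eq_sum_card_fiberwise (f := fun x => x ^ e') (t := Finset.univ)
        (fun _ _ => Finset.mem_univ _)]
    simp only [f, Finset.filter_filter]
  rw [hN]
  refine dvd_sum_classFunction f ?_ _ ?_
  · intro g w
    refine (Finset.card_bij (fun x _ => g * x * g⁻¹) ?_ (fun x _ y _ h => by simpa using h) ?_).symm
    · intro x hx
      simp only [Finset.mem_filter, Finset.mem_univ, true_and] at hx ⊢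
      rw [conj_pow, conj_pow, hx.1, hx.2]
      refine ⟨?_, rfl⟩
      rw [(Subgroup.mem_center_iff.mp hz g), mul_inv_cancel_right]
    · intro y hy
      simp only [Finset.mem_filter, Finset.mem_univ, true_and] at hy ⊢
      refine ⟨g⁻¹ * y * g, ⟨?_, ?_⟩, by group⟩
      · have := conj_pow (a := g⁻¹) (b := y) (i := n)
        rw [inv_inv] at this
        rw [this, hy.1, (Subgroup.mem_center_iff.mp hz g⁻¹), inv_mul_cancel_right]
      · have := conj_pow (a := g⁻¹) (b := y) (i := e')
        rw [inv_inv] at this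
        rw [this, hy.2]; group
  intro w
  rcases Nat.eq_zero_or_pos (f w) with h0 | h0
  · rw [h0, mul_zero]; exact dvd_zero _
  obtain ⟨x₀, hx₀⟩ := Finset.card_pos.mp h0
  simp only [Finset.mem_filter, Finset.mem_univ, true_and] at hx₀
  set C := Subgroup.centralizer ({w} : Set G) with hC
  -- the fibre over `w` is a power fibre in the centralizer
  have hzC : z ∈ C := by
    rw [hC, Subgroup.mem_centralizer_singleton_iff]
    exact ((Subgroup.mem_center_iff.mp hz) w).symm
  let z' : C := (⟨z, hzC⟩ : C) ^ (e * c)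
  have hz'c : z' ∈ Subgroup.center C :=
    pow_mem (Subgroup.mem_center_iff.mpr fun g => Subtype.ext (Subgroup.mem_center_iff.mp hz g.1)) _
  have hz'p : z' ^ p ^ v = 1 := Subtype.ext (by
    simp only [z', SubmonoidClass.coe_pow, OneMemClass.coe_one]
    rw [← pow_mul, mul_right_comm, pow_mul, pow_mul z e, hkillp, one_pow])
  obtain ⟨s, -, hs⟩ := (Nat.dvd_prime_pow hp).mp (orderOf_dvd_of_pow_eq_one hz'p)
  have hwe : w ^ e = 1 := by
    rw [← hx₀.2, ← pow_mul, mul_comm, pow_mul, ← orderOf_dvd_iff_pow_eq_one]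
    exact (orderOf_dvd_of_pow_eq_one (hkillp x₀)).trans hdp
  have hwe' : w ^ e' = w := by
    have := hsplit w
    rwa [hwe, one_mul] at this
  have hwn : w ^ n = z ^ e' := by rw [← hx₀.2, ← pow_mul, mul_comm, pow_mul, hx₀.1]
  have hne : ∀ y : G, y ^ p ^ v = 1 → y ^ (n' * c) = y := fun y hy => by
    rw [pow_eq_pow_iff_modEq.mpr (hc.of_dvd (orderOf_dvd_of_pow_eq_one hy)), pow_one]
  have hfw : f w = Nat.card {u : C // u ^ p ^ a = z'} := by
    simp only [f]
    rw [← Fintype.card_subtype, ← Nat.card_eq_fintype_card]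
    refine Nat.card_congr
      { toFun := fun x => ⟨⟨x.1 ^ e, ?_⟩, ?_⟩
        invFun := fun u => ⟨u.1.1 * w, ?_, ?_⟩
        left_inv := ?_
        right_inv := ?_ }
    · rw [hC, Subgroup.mem_centralizer_singleton_iff]
      have := pow_mul_comm x.1 e e'
      rwa [x.2.2] at this
    · refine Subtype.ext ?_
      simp only [z', SubmonoidClass.coe_pow]
      have h1 : (x.1 ^ e) ^ (p ^ a * n') = z ^ e := by
        rw [← hn0, ← pow_mul, mul_comm, pow_mul, x.2.1]
      rw [pow_mul z e c, ← h1, ← pow_mul (x.1 ^ e),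
        show p ^ a * n' * c = n' * c * p ^ a by ring, pow_mul _ (n' * c),
        hne _ (hkillp x.1)]
    · have hu : u.1.1 ^ p ^ a = z ^ (e * c) := by
        simpa [z'] using congrArg Subtype.val u.2
      have hcomm : Commute u.1.1 w := Subgroup.mem_centralizer_singleton_iff.mp u.1.2
      rw [hcomm.mul_pow, hwn, hn0, pow_mul, hu, ← pow_mul, mul_assoc, mul_comm c,
        pow_mul z e, hne _ (hkillp z), hsplit]
    · have hu : u.1.1 ^ p ^ a = z ^ (e * c) := by
        simpa [z'] using congrArg Subtype.val u.2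
      have hcomm : Commute u.1.1 w := Subgroup.mem_centralizer_singleton_iff.mp u.1.2
      rw [hcomm.mul_pow, hwe']
      suffices h : u.1.1 ^ e' = 1 by rw [h, one_mul]
      refine orderOf_dvd_iff_pow_eq_one.mp (Dvd.dvd.trans ?_ hdp)
      have h1 : orderOf u.1.1 ∣ p ^ (a + v) := orderOf_dvd_of_pow_eq_one (by
        rw [pow_add, pow_mul, hu, pow_mul, ← pow_mul, mul_comm c, pow_mul, hkillp, one_pow])
      have h2 : orderOf u.1.1 ∣ p ^ v * m := hG0 ▸ orderOf_dvd_natCard u.1.1
      refine (Nat.Coprime.dvd_of_dvd_mul_right ?_ h2)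
      exact Nat.Coprime.coprime_dvd_left h1 (Nat.Coprime.pow_left _ (hp.coprime_iff_not_dvd.mpr hm))
    · intro x
      refine Subtype.ext ?_
      change x.1 ^ e * w = x.1
      have := hsplit x.1
      rwa [x.2.2] at this
    · intro u
      refine Subtype.ext (Subtype.ext ?_)
      change (u.1.1 * w) ^ e = u.1.1
      have hu : u.1.1 ^ p ^ a = z ^ (e * c) := by
        simpa [z'] using congrArg Subtype.val u.2
      have hcomm : Commute u.1.1 w := Subgroup.mem_centralizer_singleton_iff.mp u.1.2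
      rw [hcomm.mul_pow, hwe, mul_one]
      have h1 : orderOf u.1.1 ∣ p ^ (a + v) := orderOf_dvd_of_pow_eq_one (by
        rw [pow_add, pow_mul, hu, pow_mul, ← pow_mul, mul_comm c, pow_mul, hkillp, one_pow])
      have h3 : orderOf u.1.1 ∣ p ^ v := (Nat.Coprime.dvd_of_dvd_mul_right
        (Nat.Coprime.coprime_dvd_left h1 (Nat.Coprime.pow_left _ (hp.coprime_iff_not_dvd.mpr hm)))
        (hG0 ▸ orderOf_dvd_natCard u.1.1))
      conv_rhs => rw [← pow_one u.1.1]
      exact pow_eq_pow_iff_modEq.mpr (he1.of_dvd h3)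
  rw [hfw]
  obtain ⟨b', hb', hgb⟩ := (Nat.dvd_prime_pow hp).mp (Nat.gcd_dvd_left (p ^ b) (Nat.card C))
  have hdf : Nat.gcd (p ^ b) (Nat.card C) ∣ Nat.card {u : C // u ^ p ^ a = z'} := by
    rw [hgb]
    exact prime_pow_dvd_card_pow_eq p hz'c hs (hb'.trans hba) (hgb ▸ Nat.gcd_dvd_right _ _)
  refine Dvd.dvd.trans ?_ (mul_dvd_mul_left C.index hdf)
  rw [← Nat.gcd_mul_left]
  exact Nat.dvd_gcd (dvd_mul_left _ _) (by rw [C.index_mul_card]; exact hbG)

end Cfsg.Agent.GroupStructure3.FrobeniusGeneral
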