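import Mathlib
import Cfsg.Agent.Lib.Hall.Solvable
import Cfsg.Agent.Lib.PLocal.Cores

/-!
The number of Hall subgroups of a solvable group.
-/

set_option autoImplicit false

namespace Cfsg.Agent.GroupStructure3.HallCount

open Cfsg
open scoped Pointwise

universe u

variable {G : Type u} [Group G] [Finite G]

/-- The arithmetic conditions on one factor. -/
def Good (m b f : ℕ) : Prop :=
  (∃ q e : ℕ, q.Prime ∧ f = q ^ e) ∧ f ∣ b ∧ ∃ q : ℕ, q.Prime ∧ q ∣ m ∧ f ≡ 1 [MOD q]

/-- The index of the centralizer of a solvable group in a group of coprime prime-power order. -/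
theorem exists_factors [Group.IsSolvable G] {r : ℕ} [Fact r.Prime] :
    ∀ (k : ℕ) (H W : Subgroup G), Nat.card H = k → H ≤ Subgroup.normalizer (W : Set G) →
      IsPGroup r W → k.Coprime r → ∃ fs : List ℕ,
        Nat.card W = Nat.card (W ⊓ Subgroup.centralizer (H : Set G) : Subgroup G) * fs.prod ∧
        ∀ f ∈ fs, Good k (Nat.card W) f := by
  intro k
  induction k using Nat.strong_induction_on with
  | _ k ih =>
    intro H W hk hHW hW hkr
    rcases eq_or_ne H ⊥ with rfl | hH
    · refine ⟨[], ?_, by simp⟩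
      have hc : Subgroup.centralizer ((⊥ : Subgroup G) : Set G) = ⊤ := by
        rw [eq_top_iff]
        intro x _ y hy
        rw [Subgroup.mem_bot.mp hy, one_mul, mul_one]
      rw [hc, inf_top_eq, List.prod_nil, mul_one]
    haveI : Nontrivial H := H.nontrivial_iff_ne_bot.2 hH
    obtain ⟨M, hM, hMc⟩ : ∃ M : Subgroup H, IsCoatom M ∧ commutator H ≤ M :=
      ((eq_top_or_exists_le_coatom (commutator H)).resolve_left
        (Group.IsSolvable.commutator_lt_top_of_nontrivial H).ne)
    haveI hMn : M.Normal := ⟨fun x hx g => by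
      have h1 : g * x * g⁻¹ * x⁻¹ ∈ M := hMc (Subgroup.commutator_mem_commutator
        (Subgroup.mem_top g) (Subgroup.mem_top x))
      simpa using mul_mem h1 hx⟩
    obtain ⟨q, hq, hqd⟩ : ∃ q, q.Prime ∧ M.index = q := by
      refine ⟨M.index, ?_, rfl⟩
      haveI : IsSimpleGroup (H ⧸ M) := by
        haveI : Nontrivial (H ⧸ M) := by
          rw [← Finite.one_lt_card_iff_nontrivial, ← Subgroup.index]
          rcases Nat.lt_or_ge 1 M.index with h | h
          · exact h
          · exact absurd (Subgroup.index_eq_one.mp (le_antisymm h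
              (Nat.one_le_iff_ne_zero.mpr Subgroup.index_ne_zero_of_finite))) hM.1
        refine ⟨fun K _ => ?_⟩
        rcases (hM.le_iff).mp (QuotientGroup.le_comap_mk' M K) with h | h
        · right
          rw [← Subgroup.map_comap_eq_self_of_surjective (QuotientGroup.mk'_surjective M) K, h,
            Subgroup.map_top_of_surjective _ (QuotientGroup.mk'_surjective M)]
        · left
          rw [← Subgroup.map_comap_eq_self_of_surjective (QuotientGroup.mk'_surjective M) K, h]
          exact (Subgroup.map_eq_bot_iff _).mpr (by rw [QuotientGroup.ker_mk'])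
      haveI : IsMulCommutative (H ⧸ M) := ⟨⟨fun a b => by
        obtain ⟨x, rfl⟩ := QuotientGroup.mk'_surjective M a
        obtain ⟨y, rfl⟩ := QuotientGroup.mk'_surjective M b
        rw [← commutatorElement_eq_one_iff_mul_comm, ← map_commutatorElement]
        exact (QuotientGroup.eq_one_iff _).mpr (hMc (Subgroup.commutator_mem_commutator
          (Subgroup.mem_top x) (Subgroup.mem_top y)))⟩⟩
      letI : CommGroup (H ⧸ M) :=
        { (inferInstance : Group (H ⧸ M)) with mul_comm := fun a b => mul_comm' a b }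
      exact IsSimpleGroup.prime_card (α := H ⧸ M)
    haveI : Fact q.Prime := ⟨hq⟩
    set M' : Subgroup G := M.map H.subtype with hM'
    have hM'H : M' ≤ H := Subgroup.map_subtype_le _
    have hcM : Nat.card M' * q = k := by
      rw [hM', Subgroup.card_map_of_injective H.subtype_injective, ← hqd, M.card_mul_index, hk]
    have hlt : Nat.card M' < k := by
      rw [← hcM]
      exact lt_mul_of_one_lt_right Nat.card_pos hq.one_lt
    obtain ⟨fs, hfs, hgood⟩ := ih _ hlt M' W rfl (hM'H.trans hHW) hW
      (hkr.coprime_dvd_left ⟨q, hcM.symm⟩)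
    set U := W ⊓ Subgroup.centralizer (M' : Set G) with hU
    set C := W ⊓ Subgroup.centralizer (H : Set G) with hC
    have hCU : C ≤ U := inf_le_inf_left _ (Subgroup.centralizer_le hM'H)
    have hconj : ∀ h ∈ H, ∀ x ∈ U, h * x * h⁻¹ ∈ U := by
      intro h hh x hx
      refine ⟨((Subgroup.mem_normalizer_iff).mp (hHW hh) x).mp hx.1, fun y hy => ?_⟩
      have hy' : h⁻¹ * y * h ∈ M' := by
        obtain ⟨y', hy', rfl⟩ := hy
        exact ⟨(⟨h, hh⟩ : H)⁻¹ * y' * ⟨h, hh⟩, hMn.conj_mem' y' hy' _, rfl⟩
      have h1 := hx.2 _ hy'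
      calc y * (h * x * h⁻¹) = h * ((h⁻¹ * y * h) * x) * h⁻¹ := by group
        _ = h * (x * (h⁻¹ * y * h)) * h⁻¹ := by rw [h1]
        _ = h * x * h⁻¹ * y := by group
    -- the quotient `H / M` acts on `U` with fixed points `C`
    let φ : H →* Equiv.Perm U :=
      { toFun := fun h =>
          { toFun := fun x => ⟨h * x * (h : G)⁻¹, hconj h h.2 x x.2⟩
            invFun := fun x => ⟨(h⁻¹ : H) * x * ((h⁻¹ : H) : G)⁻¹, hconj _ (h⁻¹).2 x x.2⟩
            left_inv := fun x => Subtype.ext (by push_cast; group)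
            right_inv := fun x => Subtype.ext (by push_cast; group) }
        map_one' := Equiv.ext fun x => Subtype.ext (by simp)
        map_mul' := fun a b => Equiv.ext fun x => Subtype.ext (by
          show ((a * b : H) : G) * x * ((a * b : H) : G)⁻¹ = a * (b * x * (b : G)⁻¹) * (a : G)⁻¹
          push_cast
          group) }
    have hMk : M ≤ φ.ker := fun m hm => Equiv.ext fun x => Subtype.ext (by
      show (m : G) * x * (m : G)⁻¹ = x
      rw [(x.2.2 _ ⟨m, hm, rfl⟩ : (m : G) * x = x * m), mul_inv_cancel_right])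
    letI : MulAction (H ⧸ M) U := MulAction.compHom U (QuotientGroup.lift M φ hMk)
    have hQ : IsPGroup q (H ⧸ M) := IsPGroup.of_card (n := 1) (by rw [pow_one, ← hqd]; rfl)
    have hfix := hQ.card_modEq_card_fixedPoints U
    have hfe : Nat.card (MulAction.fixedPoints (H ⧸ M) U) = Nat.card C := Nat.card_congr
      { toFun := fun x => ⟨(x.1 : G), x.1.2.1, fun h hh => by
          have h1 : h * (x.1 : G) * h⁻¹ = x.1 := congrArg Subtype.val
            (x.2 (QuotientGroup.mk (⟨h, hh⟩ : H)))
          exact mul_inv_eq_iff_eq_mul.mp h1⟩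
        invFun := fun x => ⟨⟨x.1, hCU x.2⟩, fun a => by
          obtain ⟨h, rfl⟩ := QuotientGroup.mk_surjective a
          refine Subtype.ext ?_
          show (h : G) * (x : G) * (h : G)⁻¹ = x
          rw [x.2.2 h h.2, mul_inv_cancel_right]⟩
        left_inv := fun x => rfl
        right_inv := fun x => rfl }
    rw [hfe] at hfix
    obtain ⟨b, hb⟩ := Subgroup.card_dvd_of_le hCU
    obtain ⟨w, hw⟩ := hW.exists_card_eq
    have hUW : Nat.card U ∣ Nat.card W := Subgroup.card_dvd_of_le inf_le_left
    have hbW : b ∣ Nat.card W := (Dvd.intro_left _ hb.symm).trans hUW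
    have hCq : (Nat.card C).Coprime q := by
      obtain ⟨c, -, hc⟩ := (Nat.dvd_prime_pow (Fact.out : r.Prime)).mp
        (hw ▸ (Subgroup.card_dvd_of_le (inf_le_left : C ≤ W)))
      rw [hc]
      exact Nat.Coprime.pow_left c ((hkr.coprime_dvd_left (Dvd.intro_left _ hcM)).symm)
    have hb1 : b ≡ 1 [MOD q] := by
      refine Nat.ModEq.cancel_left_of_coprime (c := Nat.card C) hCq.symm ?_
      rw [mul_one, ← hb]
      exact hfix
    obtain ⟨e, -, he⟩ := (Nat.dvd_prime_pow (Fact.out : r.Prime)).mp (hw ▸ hbW)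
    refine ⟨b :: fs, ?_, List.forall_mem_cons.mpr ⟨⟨⟨r, e, Fact.out, he⟩, hbW, q, hq,
      Dvd.intro_left _ hcM, hb1⟩, fun f hf => ?_⟩⟩
    · rw [hfs, hb, List.prod_cons, mul_assoc]
    · obtain ⟨h1, h2, q', hq', hd, h3⟩ := hgood f hf
      exact ⟨h1, h2, q', hq', hd.trans ⟨q, hcM.symm⟩, h3⟩

/-- The conditions of the counting theorem for one factor. -/
def Cond (G : Type u) [Group G] (m f : ℕ) : Prop :=
  (∃ q e : ℕ, q.Prime ∧ f = q ^ e) ∧ (∃ K L : Subgroup G, K.Normal ∧ L.Normal ∧ K < L ∧
    (∀ M : Subgroup G, M.Normal → K ≤ M → M ≤ L → M = K ∨ M = L) ∧ f ∣ K.relIndex L) ∧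
    (∃ q : ℕ, q.Prime ∧ q ∣ m ∧ f ≡ 1 [MOD q])

theorem cond_of_quotient (N : Subgroup G) [N.Normal] {m f : ℕ} (h : Cond (G ⧸ N) m f) :
    Cond G m f := by
  obtain ⟨h1, ⟨K, L, hK, hL, hKL, hmin, hd⟩, h3⟩ := h
  set π := QuotientGroup.mk' N
  have hs := QuotientGroup.mk'_surjective N
  refine ⟨h1, ⟨K.comap π, L.comap π, hK.comap π, hL.comap π,
    (Subgroup.comap_lt_comap_of_surjective hs).mpr hKL, fun M hM hKM hML => ?_, ?_⟩, h3⟩
  · have hNM : π.ker ≤ M := (Subgroup.ker_le_comap π K).trans hKM
    have e : (M.map π).comap π = M := Subgroup.comap_map_eq_self hNM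
    rcases hmin (M.map π) (hM.map π hs)
      (by rw [← Subgroup.map_comap_eq_self_of_surjective hs K]; exact Subgroup.map_mono hKM)
      (by rw [← Subgroup.map_comap_eq_self_of_surjective hs L]; exact Subgroup.map_mono hML) with
      h | h
    · left; rw [← e, h]
    · right; rw [← e, h]
  · rwa [Subgroup.relIndex_comap, Subgroup.map_comap_eq_self_of_surjective hs]

theorem isPiHall_of_coprime (H : Subgroup G) (h : (Nat.card H).Coprime H.index) :
    IsPiHall {p | p ∣ Nat.card H} H :=
  ⟨fun _ _ hd => hd, fun p hp hd hd' => hp.not_dvd_one (h ▸ Nat.dvd_gcd hd hd')⟩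

theorem exists_conj_of_card [Group.IsSolvable G] {m n : ℕ} (hG : Nat.card G = m * n)
    (hmn : m.Coprime n) {H K : Subgroup G} (hH : Nat.card H = m) (hK : Nat.card K = m) :
    ∃ g : G, MulAut.conj g • H = K := by
  have hm : 0 < m := hH ▸ Nat.card_pos
  have key : ∀ X : Subgroup G, Nat.card X = m → IsPiHall {p | p ∣ m} X := by
    intro X hX
    have h := X.card_mul_index
    rw [hX, hG] at h
    have := isPiHall_of_coprime X (by rw [hX, Nat.eq_of_mul_eq_mul_left hm h]; exact hmn)
    rwa [hX] at this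
  exact Hall.exists_conj_eq_of_isPiHall (key H hH) (key K hK)

theorem mem_normalizer_iff_smul {H : Subgroup G} {g : G} :
    g ∈ Subgroup.normalizer (H : Set G) ↔ MulAut.conj g • H = H :=
  Subgroup.mem_normalizer_iff_map_conj_eq

/-- The Hall subgroups of a given order are counted by the index of a normalizer. -/
theorem card_eq_index [Group.IsSolvable G] {m n : ℕ} (hG : Nat.card G = m * n)
    (hmn : m.Coprime n) {H : Subgroup G} (hH : Nat.card H = m) :
    Nat.card {X : Subgroup G // Nat.card X = m} = (Subgroup.normalizer (H : Set G)).index := by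
  let F : G ⧸ Subgroup.normalizer (H : Set G) → {X : Subgroup G // Nat.card X = m} := fun a =>
    Quotient.liftOn' a (fun g => ⟨MulAut.conj g • H, by
      rw [← hH]; exact Nat.card_congr (Subgroup.equivSMul (MulAut.conj g) H).toEquiv.symm⟩)
      fun g g' h => Subtype.ext (by
        rw [QuotientGroup.leftRel_apply, mem_normalizer_iff_smul] at h
        show MulAut.conj g • H = MulAut.conj g' • H
        conv_lhs => rw [← h, ← mul_smul, ← map_mul, mul_inv_cancel_left])
  refine (Nat.card_eq_of_bijective F ⟨fun a b h => ?_, fun X => ?_⟩).symm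
  · induction a using Quotient.inductionOn'
    induction b using Quotient.inductionOn'
    rename_i x y
    have h1 : MulAut.conj x • H = MulAut.conj y • H := congrArg Subtype.val h
    refine Quotient.sound' ?_
    rw [QuotientGroup.leftRel_apply, mem_normalizer_iff_smul, map_mul, mul_smul,
      ← h1, ← mul_smul, ← map_mul, inv_mul_cancel, map_one, one_smul]
  · obtain ⟨g, hg⟩ := exists_conj_of_card hG hmn hH X.2
    exact ⟨QuotientGroup.mk g, Subtype.ext hg⟩

theorem main : ∀ (k : ℕ) (G : Type u) [Group G] [Finite G] [Group.IsSolvable G] (m n : ℕ),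
    Nat.card G = k → Nat.card G = m * n → m.Coprime n →
    ∃ fs : List ℕ, Nat.card {H : Subgroup G // Nat.card H = m} = fs.prod ∧
      ∀ f ∈ fs, Cond G m f := by
  intro k
  induction k using Nat.strong_induction_on with
  | _ k ih =>
    intro G _ _ _ m n hk hG hmn
    rcases subsingleton_or_nontrivial G with hs | hs
    · refine ⟨[], ?_, by simp⟩
      have hc : Nat.card G = 1 := Nat.card_unique
      rw [hc] at hG
      obtain rfl := Nat.eq_one_of_mul_eq_one_right hG.symm
      haveI : Unique {H : Subgroup G // Nat.card H = 1} :=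
        ⟨⟨⟨⊥, Subgroup.card_bot⟩⟩, fun X => Subtype.ext (Subgroup.card_eq_one.mp X.2)⟩
      rw [Nat.card_unique, List.prod_nil]
    obtain ⟨N, hNn, -, hN0, hmin⟩ := Hall.exists_minimal_normal (⊤ : Subgroup G) top_ne_bot
    haveI := hNn
    obtain ⟨r, hr, -, hNp, -⟩ := Hall.minimal_normal_isElementaryAbelian hN0 hmin
    haveI : Fact r.Prime := ⟨hr⟩
    obtain ⟨v, hv⟩ := hNp.exists_card_eq
    have hv0 : v ≠ 0 := by
      rintro rfl
      rw [pow_zero] at hv
      exact hN0 (Subgroup.card_eq_one.mp hv)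
    have hNd : r ^ v ∣ m * n := hG ▸ hv ▸ Subgroup.card_subgroup_dvd_card N
    set π := QuotientGroup.mk' N with hπ
    have hs := QuotientGroup.mk'_surjective N
    have hker : π.ker = N := QuotientGroup.ker_mk' N
    have hq : Nat.card G = Nat.card (G ⧸ N) * r ^ v := by
      rw [← hv, Subgroup.card_eq_card_quotient_mul_card_subgroup N]
    have hlt : Nat.card (G ⧸ N) < k := by
      rw [← hk, hq]
      exact lt_mul_of_one_lt_right Nat.card_pos (Nat.one_lt_pow hv0 hr.one_lt)
    obtain ⟨H, hH⟩ : ∃ H : Subgroup G, Nat.card H = m := by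
      obtain ⟨H, hH⟩ := Hall.exists_hall {p | p ∣ m} G
      refine ⟨H, ?_⟩
      have h := H.card_mul_index
      rw [hG] at h
      have h1 : (Nat.card H).Coprime n := Nat.coprime_of_dvd fun p hp hd hd' =>
        hp.not_dvd_one (hmn ▸ Nat.dvd_gcd (hH.1 p hp hd) hd')
      have h2 : m.Coprime H.index := Nat.coprime_of_dvd fun p hp hd hd' => hH.2 p hp hd hd'
      exact Nat.dvd_antisymm (h1.dvd_of_dvd_mul_right (Dvd.intro _ h))
        (h2.dvd_of_dvd_mul_right ⟨n, h⟩)
    have hHc := card_eq_index hG hmn hH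
    have hcomap : (H.map π).comap π = H ⊔ N := by rw [Subgroup.comap_map_eq, hker]
    set A := Subgroup.normalizer (H : Set G) with hA
    set B := Subgroup.normalizer ((H ⊔ N : Subgroup G) : Set G) with hB
    have hBidx : (Subgroup.normalizer ((H.map π : Subgroup (G ⧸ N)) : Set (G ⧸ N))).index =
        B.index := by
      rw [hB, ← hcomap, ← Subgroup.comap_normalizer_eq_of_surjective _ hs,
        Subgroup.index_comap_of_surjective _ hs]
    by_cases hrm : r ∣ m
    · -- `N` lies in every Hall subgroup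
      have hrn : r.Coprime n := hmn.coprime_dvd_left hrm
      have hle : N ≤ H := by
        have hdvd : Nat.card (H ⊔ N : Subgroup G) ∣ m := by
          refine Nat.Coprime.dvd_of_dvd_mul_right ?_ (hG ▸ Subgroup.card_subgroup_dvd_card _)
          have h1 : Nat.card (H ⊔ N : Subgroup G) ∣ m * r ^ v :=
            hH ▸ hv ▸ Cfsg.Agent.PLocal.Cores.card_sup_dvd_of_normal H N
          exact Nat.Coprime.coprime_dvd_left h1 (hmn.mul_left (hrn.pow_left v))
        have he : H = H ⊔ N := Subgroup.eq_of_le_of_card_ge le_sup_left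
          (hH ▸ Nat.le_of_dvd (hH ▸ Nat.card_pos) hdvd)
        exact he ▸ le_sup_right
      have hc1 : Nat.card (H.map π) * r ^ v = m := by
        have := Cfsg.Agent.PLocal.Cores.card_eq_card_inf_ker_mul_card_map H π
        rw [hker, inf_of_le_right hle, hv, hH] at this
        rw [mul_comm]; exact this.symm
      have hq' : Nat.card (G ⧸ N) = Nat.card (H.map π) * n := by
        refine Nat.eq_of_mul_eq_mul_right (pow_pos hr.pos v) ?_
        rw [← hq, hG, mul_right_comm, hc1]
      obtain ⟨fs, hfs, hgood⟩ := ih _ hlt (G ⧸ N) _ n rfl hq'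
        (hmn.coprime_dvd_left (Dvd.intro _ hc1))
      rw [card_eq_index hq' (hmn.coprime_dvd_left (Dvd.intro _ hc1)) rfl, hBidx, hB,
        sup_of_le_left hle] at hfs
      refine ⟨fs, hHc.trans hfs, fun f hf => ?_⟩
      obtain ⟨h1, h2, q, hqp, hqd, hq1⟩ := cond_of_quotient N (hgood f hf)
      exact ⟨h1, h2, q, hqp, hqd.trans (Dvd.intro _ hc1), hq1⟩
    -- `N` has order prime to `m`
    have hmr : m.Coprime r := ((hr.coprime_iff_not_dvd).mpr hrm).symm
    have hinf : H ⊓ N = ⊥ := disjoint_iff.mp (Subgroup.disjoint_of_coprime_natCard (by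
      rw [hH, hv]; exact hmr.pow_right v))
    have hc1 : Nat.card (H.map π) = m := by
      have := Cfsg.Agent.PLocal.Cores.card_eq_card_inf_ker_mul_card_map H π
      rw [hker, hinf, Subgroup.card_bot, one_mul, hH] at this
      exact this.symm
    obtain ⟨n', hn'⟩ : r ^ v ∣ n := ((hmr.symm).pow_left v).dvd_of_dvd_mul_left hNd
    have hq' : Nat.card (G ⧸ N) = m * n' := by
      refine Nat.eq_of_mul_eq_mul_right (pow_pos hr.pos v) ?_
      rw [← hq, hG, hn']
      ring
    have hmn' : m.Coprime n' := hmn.coprime_dvd_right (Dvd.intro_left _ hn'.symm)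
    obtain ⟨fs, hfs, hgood⟩ := ih _ hlt (G ⧸ N) m n' rfl hq' hmn'
    rw [card_eq_index hq' hmn' hc1, hBidx] at hfs
    -- Frattini argument
    have hAB : A ⊔ N = B := by
      refine le_antisymm (sup_le (fun g hg => ?_) (le_sup_right.trans Subgroup.le_normalizer)) ?_
      · rw [hA, mem_normalizer_iff_smul] at hg
        rw [hB, mem_normalizer_iff_smul, Subgroup.smul_sup, hg,
          Subgroup.Normal.conj_smul_eq_self]
      intro g hg
      rw [hB, mem_normalizer_iff_smul] at hg
      set L := H ⊔ N with hL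
      set K := MulAut.conj g • H with hK
      have hKL : K ≤ L := hg ▸ Subgroup.pointwise_smul_le_pointwise_smul_iff.mpr le_sup_left
      have hKc : Nat.card K = m := by
        rw [← hH]; exact Nat.card_congr (Subgroup.equivSMul (MulAut.conj g) H).toEquiv.symm
      obtain ⟨d, hd⟩ := Subgroup.card_dvd_of_le (le_sup_left : H ≤ L)
      have hdn : d ∣ r ^ v := by
        have h1 : Nat.card L ∣ m * r ^ v :=
          hH ▸ hv ▸ Cfsg.Agent.PLocal.Cores.card_sup_dvd_of_normal H N
        rw [hd, hH] at h1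
        exact Nat.dvd_of_mul_dvd_mul_left (hH ▸ Nat.card_pos) h1
      obtain ⟨l, hl⟩ := exists_conj_of_card (G := L) (m := m) (n := d) (by rw [hd, hH])
        ((hmr.pow_right v).coprime_dvd_right hdn)
        (H := H.subgroupOf L) (K := K.subgroupOf L)
        (by rw [Nat.card_congr (Subgroup.subgroupOfEquivOfLe le_sup_left).toEquiv, hH])
        (by rw [Nat.card_congr (Subgroup.subgroupOfEquivOfLe hKL).toEquiv, hKc])
      have hl' : MulAut.conj (l : G) • H = K := by
        have h1 := congrArg (Subgroup.map L.subtype) hl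
        rw [Subgroup.subgroupOf_map_subtype, inf_of_le_left hKL] at h1
        rw [← h1]
        ext x
        simp only [Subgroup.mem_map, Coprime.mem_conj_smul, Subgroup.mem_subgroupOf,
          Subgroup.coe_subtype]
        constructor
        · intro hx
          have hxL : x ∈ L := by
            have := L.mul_mem (L.mul_mem l.2 ((le_sup_left : H ≤ L) hx)) (L.inv_mem l.2)
            simpa [mul_assoc] using this
          exact ⟨⟨x, hxL⟩, by simpa using hx, rfl⟩
        · rintro ⟨y, hy, rfl⟩
          simpa using hy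
      have h2 : (l : G)⁻¹ * g ∈ A := by
        rw [hA, mem_normalizer_iff_smul, map_mul, mul_smul, ← hK, ← hl',
          ← mul_smul, ← map_mul, inv_mul_cancel, map_one, one_smul]
      have h3 : (l : G) ∈ A ⊔ N :=
        (sup_le_sup_right (Subgroup.le_normalizer : H ≤ A) N) l.2
      simpa using mul_mem h3 (Subgroup.mem_sup_left h2)
    have hinf' : A ⊓ N = N ⊓ Subgroup.centralizer (H : Set G) := by
      ext x
      constructor
      · rintro ⟨hxA, hxN⟩
        refine ⟨hxN, fun h hh => ?_⟩
        have h1 : x * h * x⁻¹ * h⁻¹ ∈ H ⊓ N := by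
          refine ⟨H.mul_mem ((Subgroup.mem_normalizer_iff.mp hxA h).mp hh) (H.inv_mem hh), ?_⟩
          rw [mul_assoc x, mul_assoc x]
          exact N.mul_mem hxN (hNn.conj_mem _ (N.inv_mem hxN) h)
        rw [hinf, Subgroup.mem_bot, mul_inv_eq_one, mul_inv_eq_iff_eq_mul] at h1
        exact h1.symm
      · rintro ⟨hxN, hxC⟩
        exact ⟨Subgroup.centralizer_le_normalizer _ hxC, hxN⟩
    obtain ⟨gs, hgs, hgood'⟩ := exists_factors (r := r) m H N hH
      ((Subgroup.normalizer_eq_top (H := N)).symm ▸ le_top) hNp hmr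
    have hX : A.relIndex B = gs.prod := by
      have hAB' : A ≤ B := hAB ▸ le_sup_left
      have h1 := Subgroup.relIndex_mul_relIndex (⊥ : Subgroup G) A B bot_le hAB'
      rw [Subgroup.relIndex_bot_left, Subgroup.relIndex_bot_left] at h1
      have h2 := Subgroup.relIndex_mul_relIndex (⊥ : Subgroup G) N B bot_le (hAB ▸ le_sup_right)
      rw [Subgroup.relIndex_bot_left, Subgroup.relIndex_bot_left, ← hAB,
        Subgroup.relIndex_sup_right] at h2
      have h3 := Subgroup.relIndex_mul_relIndex (⊥ : Subgroup G) (A ⊓ N) A bot_le inf_le_left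
      rw [Subgroup.relIndex_bot_left, Subgroup.relIndex_bot_left, Subgroup.inf_relIndex_left,
        hinf'] at h3
      rw [← hAB, ← h2, ← h3, hgs] at h1
      have hp1 : 0 < N.relIndex A := Nat.pos_of_ne_zero Subgroup.index_ne_zero_of_finite
      have hp2 : 0 < Nat.card (N ⊓ Subgroup.centralizer (H : Set G) : Subgroup G) := Nat.card_pos
      rw [← hAB]
      refine Nat.eq_of_mul_eq_mul_left (Nat.mul_pos hp2 hp1) ?_
      rw [h1]; ring
    refine ⟨gs ++ fs, ?_, fun f hf => ?_⟩
    · rw [hHc, List.prod_append, ← hfs, ← hX, Subgroup.relIndex_mul_index (hAB ▸ le_sup_left)]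
    rcases List.mem_append.mp hf with hf | hf
    · obtain ⟨h1, h2, h3⟩ := hgood' f hf
      refine ⟨h1, ⟨⊥, N, inferInstance, hNn, bot_lt_iff_ne_bot.mpr hN0, fun M hM _ hMN => hmin M hM hMN,
        by rw [Subgroup.relIndex_bot_left]; exact h2⟩, h3⟩
    · exact cond_of_quotient N (hgood f hf)

end Cfsg.Agent.GroupStructure3.HallCount
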