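import Mathlib
import Cfsg.Agent.GStructB.SubgroupCount
import Cfsg.Agent.GroupStructure3.FrattiniAut
import Cfsg.Agent.Lib.Coprime.PGroup
import Cfsg.Agent.Lib.PGroups.CyclicMaximal

/-!
Kulakoff's theorem: for odd `p`, a non-cyclic group of order `p ^ n` has `1 + p` subgroups of
order `p ^ a` modulo `p ^ 2`, for `1 ≤ a < n`.
-/

set_option autoImplicit false
set_option linter.unusedSectionVars false

namespace Cfsg.Agent.GroupStructure3.Kulakoff

open scoped commutatorElement
open Cfsg.Agent.GStructB.SubgroupCount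

universe u

/-- The number of subgroups of a given order. -/
noncomputable def cnt (G : Type*) [Group G] (k : ℕ) : ℕ := Nat.card {H : Subgroup G // Nat.card H = k}

section

variable {P : Type*} [Group P] [Finite P] {p : ℕ} [hp : Fact p.Prime]

/-- Subgroups of `M` as subgroups of the whole group below `M`. -/
theorem cnt_subgroup (M : Subgroup P) (k : ℕ) :
    cnt M k = Nat.card {H : Subgroup P // Nat.card H = k ∧ H ≤ M} :=
  Nat.card_congr
    { toFun := fun H => ⟨H.1.map M.subtype,
        (Subgroup.card_map_of_injective M.subtype_injective).trans H.2, Subgroup.map_subtype_le _⟩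
      invFun := fun H => ⟨H.1.subgroupOf M, (Nat.card_congr
        (Subgroup.subgroupOfEquivOfLe H.2.2).toEquiv).trans H.2.1⟩
      left_inv := fun H => Subtype.ext
        (Subgroup.comap_map_eq_self_of_injective M.subtype_injective H.1)
      right_inv := fun H => Subtype.ext (Subgroup.map_subgroupOf_eq_of_le H.2.2) }

theorem frattini_le_of_index (M : Subgroup P) (hM : M.index = p) : frattini P ≤ M := by
  refine frattini_le_coatom ⟨fun h => hp.out.ne_one (by rw [← hM, h, Subgroup.index_top]), ?_⟩
  intro K hK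
  have h1 := Subgroup.relIndex_mul_index hK.le
  rw [hM] at h1
  rcases hp.out.eq_one_or_self_of_dvd _ (Dvd.intro_left _ h1) with h | h
  · exact Subgroup.index_eq_one.mp h
  · rw [h] at h1
    have h2 : M.relIndex K = 1 := Nat.eq_of_mul_eq_mul_right hp.out.pos (by rw [h1, one_mul])
    exact absurd (Subgroup.relIndex_eq_one.mp h2) hK.not_ge

theorem isCyclic_of_frattini_index (h : (frattini P).index = p) : IsCyclic P := by
  obtain ⟨x, hx⟩ : ∃ x, x ∉ frattini P := by
    by_contra hc
    push Not at hc
    rw [(Subgroup.eq_top_iff' _).mpr hc, Subgroup.index_top] at h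
    exact hp.out.ne_one h.symm
  have hsup : Subgroup.zpowers x ⊔ frattini P = ⊤ := by
    rw [← Subgroup.index_eq_one]
    have h1 := Subgroup.index_dvd_of_le (le_sup_right : frattini P ≤ Subgroup.zpowers x ⊔ frattini P)
    rw [h] at h1
    rcases hp.out.eq_one_or_self_of_dvd _ h1 with h2 | h2
    · exact h2
    · exfalso
      have h3 := Subgroup.relIndex_mul_index
        (le_sup_right : frattini P ≤ Subgroup.zpowers x ⊔ frattini P)
      rw [h2, h] at h3
      have h4 : (frattini P).relIndex (Subgroup.zpowers x ⊔ frattini P) = 1 :=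
        Nat.eq_of_mul_eq_mul_right hp.out.pos (by rw [h3, one_mul])
      exact hx (Subgroup.relIndex_eq_one.mp h4 (Subgroup.mem_sup_left (Subgroup.mem_zpowers x)))
  have htop := frattini_nongenerating hsup
  exact ⟨x, fun y => Subgroup.mem_zpowers_iff.mp (by rw [htop]; exact Subgroup.mem_top y)⟩

/-- Subgroups of order `p` in a group of exponent `p`. -/
theorem card_order_prime (hexp : ∀ g : P, g ^ p = 1) :
    (p - 1) * cnt P p + 1 = Nat.card P := by
  classical
  haveI := Fintype.ofFinite P
  have hord : ∀ g : P, g ≠ 1 → orderOf g = p := fun g hg => orderOf_eq_prime (hexp g) hg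
  have e : (Σ H : {H : Subgroup P // Nat.card H = p}, {g : P // g ∈ H.1 ∧ g ≠ 1}) ≃ {g : P // g ≠ 1} :=
    { toFun := fun x => ⟨x.2.1, x.2.2.2⟩
      invFun := fun g => ⟨⟨Subgroup.zpowers g.1, (Nat.card_zpowers g.1).trans (hord _ g.2)⟩,
        ⟨g.1, Subgroup.mem_zpowers g.1, g.2⟩⟩
      left_inv := by
        rintro ⟨⟨H, hH⟩, ⟨g, hg, hg1⟩⟩
        have : Subgroup.zpowers g = H := Subgroup.eq_of_le_of_card_ge (Subgroup.zpowers_le.mpr hg)
          (by rw [Nat.card_zpowers, hord g hg1, hH])
        subst this
        rfl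
      right_inv := fun g => rfl }
  have h1 : ∀ H : {H : Subgroup P // Nat.card H = p},
      Nat.card {g : P // g ∈ H.1 ∧ g ≠ 1} = p - 1 := by
    intro H
    have h2 : Nat.card {g : P // g ∈ H.1 ∧ g ≠ 1} + 1 = p := by
      conv_rhs => rw [← H.2]
      have : Nat.card (Option {g : P // g ∈ H.1 ∧ g ≠ 1}) = Nat.card H.1 :=
        Nat.card_congr
          { toFun := fun o => o.elim 1 fun g => ⟨g.1, g.2.1⟩
            invFun := fun g => if h : (g : P) = 1 then none else some ⟨g.1, g.2, h⟩
            left_inv := by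
              rintro (_ | ⟨g, hg, hg1⟩)
              · simp
              · simp [hg1]
            right_inv := by
              intro g
              by_cases h : (g : P) = 1
              · simp only [h, dite_true, Option.elim_none]
                exact Subtype.ext h.symm
              · simp [h] }
      rw [← this, Finite.card_option]
    omega
  have h3 : Nat.card {g : P // g ≠ 1} + 1 = Nat.card P := by
    rw [← Finite.card_option]
    exact Nat.card_congr (Equiv.optionSubtypeNe (1 : P))
  rw [← h3, ← Nat.card_congr e, Nat.card_sigma, Finset.sum_congr rfl fun H _ => h1 H,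
    Finset.sum_const, smul_eq_mul, Finset.card_univ, ← Nat.card_eq_fintype_card, mul_comm]
  rfl

end

/-- In a finite abelian group subgroups of prime index and of prime order are equinumerous. -/
theorem card_index_eq_cnt {Q : Type*} [CommGroup Q] [Finite Q] (k : ℕ) :
    Nat.card {M : Subgroup Q // M.index = k} = cnt Q k := by
  have : NeZero (Monoid.exponent Q) := ⟨Monoid.exponent_ne_zero_of_finite⟩
  let e := CommGroup.subgroupOrderIsoSubgroupMonoidHom Q ℂ
  obtain ⟨f⟩ := CommGroup.monoidHom_mulEquiv_of_hasEnoughRootsOfUnity Q ℂ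
  refine Nat.card_congr ((e.toEquiv.trans OrderDual.ofDual).trans f.mapSubgroup.toEquiv |>.subtypeEquiv
    fun M => ?_)
  rw [Equiv.trans_apply, Equiv.trans_apply]
  have h1 : Nat.card ↥(f.mapSubgroup (e M).ofDual) = Nat.card ↥((e M).ofDual) :=
    Subgroup.card_map_of_injective f.injective
  rw [Subgroup.index_eq_card, ← CommGroup.card_subgroupOrderIsoSubgroupMonoidHom (M := ℂ) M]
  exact ⟨fun h => h1.trans h, fun h => h1.symm.trans h⟩

section

variable {P : Type*} [Group P] [Finite P] {p : ℕ} [hp : Fact p.Prime]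

/-- Subgroups over `X` of a given index are subgroups of the quotient. -/
theorem card_index_ge (X : Subgroup P) [X.Normal] (k : ℕ) :
    Nat.card {M : Subgroup P // M.index = k ∧ X ≤ M} =
      Nat.card {M : Subgroup (P ⧸ X) // M.index = k} :=
  Nat.card_congr
    { toFun := fun M => ⟨M.1.map (QuotientGroup.mk' X), by
        rw [Subgroup.index_map_eq _ (QuotientGroup.mk'_surjective X)
          (by rw [QuotientGroup.ker_mk']; exact M.2.2)]
        exact M.2.1⟩
      invFun := fun M => ⟨M.1.comap (QuotientGroup.mk' X),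
        (M.1.index_comap_of_surjective (QuotientGroup.mk'_surjective X)).trans M.2,
        (QuotientGroup.le_comap_mk' X M.1)⟩
      left_inv := fun M => Subtype.ext (Subgroup.comap_map_eq_self
        (by rw [QuotientGroup.ker_mk']; exact M.2.2))
      right_inv := fun M => Subtype.ext
        (Subgroup.map_comap_eq_self_of_surjective (QuotientGroup.mk'_surjective X) M.1) }

/-- The number of maximal subgroups over `X ⊇ Φ(P)`. -/
theorem card_max_ge (hP : IsPGroup p P) (X : Subgroup P) [X.Normal] (hX : frattini P ≤ X) :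
    (p - 1) * Nat.card {M : Subgroup P // M.index = p ∧ X ≤ M} + 1 = X.index := by
  haveI := hP.isNilpotent
  letI : CommGroup (P ⧸ X) :=
    { (inferInstance : Group (P ⧸ X)) with
      mul_comm := fun a b => by
        induction a using QuotientGroup.induction_on with | _ a => ?_
        induction b using QuotientGroup.induction_on with | _ b => ?_
        rw [← QuotientGroup.mk_mul, ← QuotientGroup.mk_mul, QuotientGroup.eq]
        refine hX (Coprime.commutator_le_frattini P ?_)
        rw [show (a * b)⁻¹ * (b * a) = ⁅b⁻¹, a⁻¹⁆ by rw [commutatorElement_def]; group]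
        exact Subgroup.commutator_mem_commutator (Subgroup.mem_top _) (Subgroup.mem_top _) }
  have hexp : ∀ g : P ⧸ X, g ^ p = 1 := by
    intro g
    induction g using QuotientGroup.induction_on with | _ g => ?_
    rw [← QuotientGroup.mk_pow, QuotientGroup.eq_one_iff]
    exact hX (FrattiniAut.pow_mem_frattini hP g)
  rw [card_index_ge X p, card_index_eq_cnt p, Subgroup.index_eq_card]
  exact card_order_prime hexp

theorem normal_of_frattini_le (hP : IsPGroup p P) {X : Subgroup P} (hX : frattini P ≤ X) :
    X.Normal := by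
  haveI := hP.isNilpotent
  exact ⟨fun n hn g => by
    have h1 : ⁅g, n⁆ ∈ X := hX (Coprime.commutator_le_frattini P
      (Subgroup.commutator_mem_commutator (Subgroup.mem_top _) (Subgroup.mem_top _)))
    have h2 := X.mul_mem h1 hn
    rwa [commutatorElement_def, inv_mul_cancel_right] at h2⟩

/-- The inclusion-exclusion weight of a subgroup over the Frattini subgroup. -/
theorem weight (hP : IsPGroup p P) (X : Subgroup P) (hX : frattini P ≤ X) (hne : X ≠ ⊤) :
    (Nat.card {M : Subgroup P // M.index = p ∧ X ≤ M} : ZMod (p ^ 2)) =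
      1 + (p : ZMod (p ^ 2)) * Nat.card {L : Subgroup P // L.index = p ^ 2 ∧ X ≤ L} := by
  haveI := normal_of_frattini_le hP hX
  obtain ⟨d, hd⟩ := hP.index X
  have hm := card_max_ge hP X hX
  rw [hd] at hm
  have h2 := hp.out.two_le
  rcases d with _ | _ | d
  · exact absurd (Subgroup.index_eq_one.mp (by rw [hd, pow_zero])) hne
  · have h1 : Nat.card {M : Subgroup P // M.index = p ∧ X ≤ M} = 1 := by
      rw [pow_one] at hm
      refine Nat.eq_of_mul_eq_mul_left (show 0 < p - 1 by omega) ?_
      omega
    have h0 : Nat.card {L : Subgroup P // L.index = p ^ 2 ∧ X ≤ L} = 0 := by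
      haveI : IsEmpty {L : Subgroup P // L.index = p ^ 2 ∧ X ≤ L} := ⟨fun L => by
        have h3 := Subgroup.index_dvd_of_le L.2.2
        rw [L.2.1, hd] at h3
        have := (Nat.pow_dvd_pow_iff_le_right hp.out.one_lt).mp h3
        omega⟩
      exact Nat.card_of_isEmpty
    rw [h1, h0]; simp
  · have hmod : (Nat.card {M : Subgroup P // M.index = p ∧ X ≤ M} : ZMod (p ^ 2)) = 1 + p := by
      have hsq : ((p : ZMod (p ^ 2))) ^ 2 = 0 := by exact_mod_cast ZMod.natCast_self (p ^ 2)
      have hm' := congrArg (Nat.cast : ℕ → ZMod (p ^ 2)) hm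
      rw [Nat.cast_add, Nat.cast_mul, Nat.cast_sub (by omega), Nat.cast_one, Nat.cast_pow,
        show d + 1 + 1 = 2 + d by omega, pow_add, hsq, zero_mul] at hm'
      linear_combination (norm := ring_nf) (-(1 + (p : ZMod (p ^ 2)))) * hm' +
        (Nat.card {M : Subgroup P // M.index = p ∧ X ≤ M} : ZMod (p ^ 2)) * hsq
    have hl : Nat.card {L : Subgroup P // L.index = p ^ 2 ∧ X ≤ L} ≡ 1 [MOD p] := by
      rw [card_index_ge X (p ^ 2)]
      have hQ : Nat.card (P ⧸ X) = p ^ d * p ^ 2 := by
        rw [← Subgroup.index_eq_card, hd, ← pow_add]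
      rw [Nat.card_congr (Equiv.subtypeEquivRight
        (q := fun M : Subgroup (P ⧸ X) => Nat.card M = p ^ d) fun M => ?_)]
      · exact card_subgroups_modEq_one hp.out (hQ ▸ Dvd.intro _ rfl)
      · have h3 := M.card_mul_index
        rw [hQ] at h3
        constructor
        · intro h
          rw [h] at h3
          exact Nat.eq_of_mul_eq_mul_right (pow_pos hp.out.pos 2) h3
        · intro h
          rw [h] at h3
          exact Nat.eq_of_mul_eq_mul_left (pow_pos hp.out.pos d) h3
    have hpl : (p : ZMod (p ^ 2)) * Nat.card {L : Subgroup P // L.index = p ^ 2 ∧ X ≤ L} = p := by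
      have h4 := hl.mul_left' p
      rw [mul_one, ← sq, ← ZMod.natCast_eq_natCast_iff, Nat.cast_mul] at h4
      exact h4
    rw [hmod, hpl]

/-- Hall's enumeration principle modulo `p ^ 2`. -/
theorem enumeration (hP : IsPGroup p P) {k : ℕ} (hk : k < Nat.card P) :
    (cnt P k : ZMod (p ^ 2)) + (p : ZMod (p ^ 2)) * ∑ᶠ L : {L : Subgroup P // L.index = p ^ 2 ∧
        frattini P ≤ L}, (cnt L.1 k : ZMod (p ^ 2)) =
      ∑ᶠ M : {M : Subgroup P // M.index = p}, (cnt M.1 k : ZMod (p ^ 2)) := by
  classical
  haveI := Fintype.ofFinite (Subgroup P)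
  rw [finsum_eq_sum_of_fintype, finsum_eq_sum_of_fintype]
  have hc : ∀ (q : Subgroup P → Prop) [DecidablePred q],
      Nat.card {H // q H} = (Finset.univ.filter q).card :=
    fun q _ => by rw [Nat.card_eq_fintype_card, Fintype.card_subtype]
  simp only [cnt_subgroup]
  have hs : ∀ (q : Subgroup P → Prop) (f : Subgroup P → ZMod (p ^ 2)) [Fintype {L // q L}]
      [DecidablePred q], ∑ x : {L // q L}, f x.1 = ∑ x ∈ Finset.univ.filter q, f x :=
    fun q f _ _ => (Finset.sum_subtype _ (by simp) f).symm
  rw [hs (fun L => L.index = p ^ 2 ∧ frattini P ≤ L)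
      fun L => ((Nat.card {H : Subgroup P // Nat.card H = k ∧ H ≤ L} : ℕ) : ZMod (p ^ 2)),
    hs (fun L => L.index = p)
      fun L => ((Nat.card {H : Subgroup P // Nat.card H = k ∧ H ≤ L} : ℕ) : ZMod (p ^ 2))]
  have hswap : ∀ S : Finset (Subgroup P),
      ∑ L ∈ S, ((Nat.card {H : Subgroup P // Nat.card H = k ∧ H ≤ L} : ℕ) : ZMod (p ^ 2)) =
        ∑ H ∈ Finset.univ.filter (fun H : Subgroup P => Nat.card H = k),
          ((S.filter fun L => H ≤ L).card : ZMod (p ^ 2)) := by
    intro S
    simp only [hc, Finset.natCast_card_filter, Finset.sum_filter]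
    rw [Finset.sum_comm]
    refine Finset.sum_congr rfl fun H _ => ?_
    by_cases h : Nat.card H = k <;> simp [h]
  rw [hswap, hswap, cnt, hc, Finset.cast_card, Finset.mul_sum]
  rw [← Finset.sum_add_distrib]
  refine Finset.sum_congr rfl fun H hH => ?_
  have hne : H ⊔ frattini P ≠ ⊤ := by
    intro h
    have := frattini_nongenerating h
    rw [Finset.mem_filter, this] at hH
    rw [Subgroup.card_top] at hH
    exact absurd hH.2 hk.ne'
  have hw := weight hP (H ⊔ frattini P) le_sup_right hne
  rw [hc, hc] at hw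
  have e1 : ((Finset.univ.filter fun M : Subgroup P => M.index = p).filter fun M => H ≤ M) =
      Finset.univ.filter fun M => M.index = p ∧ H ⊔ frattini P ≤ M := by
    rw [Finset.filter_filter]
    exact Finset.filter_congr fun M _ =>
      ⟨fun h => ⟨h.1, sup_le h.2 (frattini_le_of_index M h.1)⟩,
        fun h => ⟨h.1, le_sup_left.trans h.2⟩⟩
  have e2 : ((Finset.univ.filter fun L : Subgroup P => L.index = p ^ 2 ∧ frattini P ≤ L).filter
      fun L => H ≤ L) = Finset.univ.filter fun L => L.index = p ^ 2 ∧ H ⊔ frattini P ≤ L := by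
    rw [Finset.filter_filter]
    exact Finset.filter_congr fun L _ =>
      ⟨fun h => ⟨h.1.1, sup_le h.2 h.1.2⟩,
        fun h => ⟨⟨h.1, le_sup_right.trans h.2⟩, le_sup_left.trans h.2⟩⟩
  rw [e1, e2, hw]

/-- In a group of class two with commutators of order dividing `p`, `p` odd, `p ∣ q`, the `q`-th
power is multiplicative. -/
theorem mul_pow_of_commutator {u v c : P} (hp2 : p ≠ 2) (hc : ∀ g, Commute c g) (hcp : c ^ p = 1)
    (h : v * u = c * (u * v)) {q : ℕ} (hq : p ∣ q) : (u * v) ^ q = u ^ q * v ^ q := by
  have hvk : ∀ k : ℕ, v ^ k * u = c ^ k * (u * v ^ k) := by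
    intro k
    induction k with
    | zero => simp
    | succ k ih =>
      calc v ^ (k + 1) * u = v ^ k * (v * u) := by rw [pow_succ, mul_assoc]
        _ = c * (v ^ k * u * v) := by
          rw [h, ← mul_assoc, ← ((hc (v ^ k)).eq)]; simp only [mul_assoc]
        _ = _ := by rw [ih, pow_succ', pow_succ]; simp only [mul_assoc]
  have hk : ∀ k : ℕ, (u * v) ^ k = c ^ k.choose 2 * (u ^ k * v ^ k) := by
    intro k
    induction k with
    | zero => simp
    | succ k ih =>
      calc (u * v) ^ (k + 1) = c ^ k.choose 2 * (u ^ k * (v ^ k * u) * v) := by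
            rw [pow_succ, ih]; simp only [mul_assoc]
        _ = c ^ k.choose 2 * (c ^ k * (u ^ k * u * (v ^ k * v))) := by
            rw [hvk]
            congr 1
            rw [← mul_assoc (u ^ k), ← ((hc (u ^ k)).pow_left k).eq]
            simp only [mul_assoc]
        _ = _ := by
            rw [← pow_succ, ← pow_succ, ← mul_assoc, ← pow_add, Nat.add_comm (k.choose 2) k,
              show (k + 1).choose 2 = k + k.choose 2 by
                rw [Nat.choose_succ_succ', Nat.choose_one_right]]
  rw [hk]
  have h2 : p ∣ q.choose 2 := by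
    have h3 : p ∣ 2 * q.choose 2 := by
      rw [Nat.choose_two_right, Nat.mul_div_cancel' (Nat.two_dvd_mul_sub_one q)]
      exact hq.mul_right _
    refine (hp.out.dvd_mul.mp h3).resolve_left fun h4 => hp2 ?_
    exact (Nat.prime_dvd_prime_iff_eq hp.out Nat.prime_two).mp h4
  obtain ⟨t, ht⟩ := h2
  rw [ht, pow_mul, hcp, one_pow, one_mul]

/-- With a cyclic maximal subgroup and `p` odd, the power map to the subgroup of order `p` is
multiplicative. -/
theorem mul_pow_of_cyclic_max (hp2 : p ≠ 2) {m : ℕ} (hcard : Nat.card P = p ^ (m + 3))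
    {C : Subgroup P} (hC : IsCyclic C) (hCi : C.index = p) (x y : P) :
    (x * y) ^ p ^ (m + 1) = x ^ p ^ (m + 1) * y ^ p ^ (m + 1) := by
  by_cases hab : ∀ x y : P, x * y = y * x
  · exact (show Commute x y from hab x y).mul_pow _
  push Not at hab
  obtain ⟨a, b, r, s, hCa, hoa, hb, -, hr, -, -, hrp, -⟩ :=
    PGroups.CyclicMaximal.setup (m + 3) (by omega) hcard C hC hCi hab
  rw [show m + 3 - 1 = m + 2 from rfl] at hoa hrp
  have hrmod : r % p = 1 := by
    have h1 : (r : ZMod p) ^ p = 1 := by
      have := (ZMod.natCast_eq_natCast_iff _ _ _).mpr (hrp.of_dvd (dvd_pow_self p (by omega)))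
      simpa using this
    rw [ZMod.pow_card] at h1
    have h2 := (ZMod.natCast_eq_natCast_iff' r 1 p).mp (by simpa using h1)
    rwa [Nat.one_mod_eq_one.mpr hp.out.ne_one] at h2
  obtain ⟨w, hw, hwp⟩ := PGroups.UniqueSubgroup.geom_sum_of_mod hp.out hrmod (fun h => absurd h hp2)
  obtain ⟨d, rfl⟩ : ∃ d, r = d + 1 := ⟨r - 1, by
    have : r ≠ 0 := fun h => by simp [h] at hrmod
    omega⟩
  have hd : p ^ (m + 1) ∣ d := by
    have h1 : p ^ (m + 2) ∣ (d + 1) ^ p - 1 :=
      (Nat.modEq_iff_dvd' (Nat.one_le_pow _ _ (Nat.succ_pos _))).mp hrp.symm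
    rw [← geom_sum_mul_add d p, Nat.add_sub_cancel, hw, pow_succ', mul_assoc] at h1
    exact ((hp.out.coprime_iff_not_dvd.mpr hwp).pow_left _).dvd_of_dvd_mul_left
      (Nat.dvd_of_mul_dvd_mul_left hp.out.pos h1)
  obtain ⟨k, rfl⟩ := hd
  set T := Subgroup.zpowers (a ^ p ^ (m + 1)) with hT
  have hgen : Subgroup.closure {a, b} = ⊤ := by
    have hle : C ≤ Subgroup.closure {a, b} := by
      rw [hCa, Subgroup.zpowers_le]; exact Subgroup.subset_closure (Set.mem_insert _ _)
    rw [← Subgroup.index_eq_one]
    rcases hp.out.eq_one_or_self_of_dvd _ (hCi ▸ Subgroup.index_dvd_of_le hle) with h | h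
    · exact h
    · exfalso
      have h3 := Subgroup.relIndex_mul_index hle
      rw [h, hCi] at h3
      have h4 : C.relIndex (Subgroup.closure {a, b}) = 1 :=
        Nat.eq_of_mul_eq_mul_right hp.out.pos (by rw [h3, one_mul])
      exact hb (Subgroup.relIndex_eq_one.mp h4 (Subgroup.subset_closure (by simp)))
  have hcen : a ^ p ^ (m + 1) ∈ Subgroup.center P := by
    have hba : Commute b (a ^ p ^ (m + 1)) := by
      have h1 : b * a ^ p ^ (m + 1) * b⁻¹ = a ^ p ^ (m + 1) := by
        rw [← conj_pow, hr, ← pow_mul, pow_eq_pow_iff_modEq, hoa,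
          show (p ^ (m + 1) * k + 1) * p ^ (m + 1) = p ^ (m + 1) + p ^ (m + 2) * (k * p ^ m) by ring]
        exact Nat.add_modEq_left_iff.mpr (dvd_mul_right _ _)
      exact mul_inv_eq_iff_eq_mul.mp h1
    rw [Subgroup.mem_center_iff]
    intro g
    have hg : g ∈ Subgroup.closure ({a, b} : Set P) := hgen ▸ Subgroup.mem_top g
    have hle : Subgroup.closure ({a, b} : Set P) ≤ Subgroup.centralizer {a ^ p ^ (m + 1)} := by
      rw [Subgroup.closure_le]
      rintro z (rfl | rfl)
      · exact Subgroup.mem_centralizer_singleton_iff.mpr (Commute.self_pow z _).eq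
      · exact Subgroup.mem_centralizer_singleton_iff.mpr hba.eq
    exact Subgroup.mem_centralizer_singleton_iff.mp (hle hg)
  have hTc : T ≤ Subgroup.center P := Subgroup.zpowers_le.mpr hcen
  haveI hTn : T.Normal := ⟨fun n hn g => by
    rwa [Subgroup.mem_center_iff.mp (hTc hn) g, mul_inv_cancel_right]⟩
  have hcomm : ∀ u v : P, ⁅u, v⁆ ∈ T := by
    intro u v
    set π := QuotientGroup.mk' T
    have hab' : Commute (π b) (π a) := by
      rw [← commutatorElement_eq_one_iff_commute, ← map_commutatorElement]
      refine (QuotientGroup.eq_one_iff _).mpr ?_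
      rw [commutatorElement_def, hr, pow_succ, mul_inv_cancel_right, pow_mul]
      exact pow_mem (Subgroup.mem_zpowers _) k
    have hgenQ : Subgroup.closure {π a, π b} = ⊤ := by
      have h := congrArg (Subgroup.map π) hgen
      rwa [MonoidHom.map_closure, Set.image_pair,
        Subgroup.map_top_of_surjective π (QuotientGroup.mk'_surjective T)] at h
    have hcenQ : (⊤ : Subgroup (P ⧸ T)) ≤ Subgroup.center (P ⧸ T) := by
      rw [← hgenQ, Subgroup.closure_le]
      intro z hz
      rw [SetLike.mem_coe, Subgroup.mem_center_iff]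
      intro g
      have hle : Subgroup.closure {π a, π b} ≤ Subgroup.centralizer {z} := by
        rw [Subgroup.closure_le]
        rcases hz with rfl | rfl <;> rintro y (rfl | rfl) <;>
          refine Subgroup.mem_centralizer_singleton_iff.mpr ?_
        · rfl
        · exact hab'.eq
        · exact hab'.symm.eq
        · rfl
      exact Subgroup.mem_centralizer_singleton_iff.mp (hle (hgenQ ▸ Subgroup.mem_top g))
    rw [← QuotientGroup.eq_one_iff]
    change π ⁅u, v⁆ = 1
    rw [map_commutatorElement, commutatorElement_eq_one_iff_commute]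
    exact (Subgroup.mem_center_iff.mp (hcenQ (Subgroup.mem_top (π v))) (π u))
  refine mul_pow_of_commutator hp2 (c := ⁅y, x⁆)
    (fun g => (Subgroup.mem_center_iff.mp (hTc (hcomm y x)) g).symm) ?_ ?_
    (dvd_pow_self p (by omega))
  · obtain ⟨i, hi⟩ := Subgroup.mem_zpowers_iff.mp (hcomm y x)
    rw [← hi, ← zpow_natCast, ← zpow_mul, mul_comm, zpow_mul, zpow_natCast, ← pow_mul, ← pow_succ,
      ← hoa, pow_orderOf_eq_one, one_zpow]
  · rw [commutatorElement_def]; group

end

/-- **Kulakoff's theorem.** -/
theorem kulakoff {p : ℕ} [hp : Fact p.Prime] (hp2 : p ≠ 2) : ∀ (n : ℕ) {P : Type u} [Group P]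
    [Finite P], Nat.card P = p ^ n → ¬ IsCyclic P → ∀ a, 1 ≤ a → a < n →
    (cnt P (p ^ a) : ZMod (p ^ 2)) = 1 + p := by
  intro n
  induction n with
  | zero => intro P _ _ _ _ a _ h; omega
  | succ n ih =>
    intro P _ _ hcard hnc a ha1 han
    classical
    have hP : IsPGroup p P := IsPGroup.of_card hcard
    haveI := Fintype.ofFinite (Subgroup P)
    have h2 := hp.out.two_le
    have hsq : ((p : ZMod (p ^ 2))) ^ 2 = 0 := by exact_mod_cast ZMod.natCast_self (p ^ 2)
    haveI : (frattini P).Normal := normal_of_frattini_le hP le_rfl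
    obtain ⟨d, hd⟩ := hP.index (frattini P)
    have hd2 : 2 ≤ d := by
      by_contra hlt
      interval_cases d
      · exact hnc ⟨1, fun y => by
          have htop : frattini P = ⊤ := Subgroup.index_eq_one.mp (by rw [hd, pow_zero])
          have := frattini_nongenerating (K := Subgroup.zpowers (1 : P)) (by rw [htop, sup_top_eq])
          exact Subgroup.mem_zpowers_iff.mp (by rw [this]; exact Subgroup.mem_top y)⟩
      · exact hnc (isCyclic_of_frattini_index (by rw [hd, pow_one]))
    have hidx : ∀ M : Subgroup P, M.index = p ↔ Nat.card M = p ^ n := by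
      intro M
      have h3 := M.card_mul_index
      rw [hcard, pow_succ] at h3
      constructor
      · intro h
        rw [h] at h3
        exact Nat.eq_of_mul_eq_mul_right hp.out.pos h3
      · intro h
        rw [h] at h3
        exact Nat.eq_of_mul_eq_mul_left (pow_pos hp.out.pos n) h3
    have hmax := card_max_ge hP (frattini P) le_rfl
    rw [hd, Nat.card_congr (Equiv.subtypeEquivRight (q := fun M : Subgroup P => M.index = p)
      fun M => ⟨fun h => h.1, fun h => ⟨h, frattini_le_of_index M h⟩⟩)] at hmax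
    have hMcard : (Nat.card {M : Subgroup P // M.index = p} : ZMod (p ^ 2)) = 1 + p := by
      have hm' := congrArg (Nat.cast : ℕ → ZMod (p ^ 2)) hmax
      obtain ⟨e, rfl⟩ := Nat.exists_eq_add_of_le hd2
      rw [Nat.cast_add, Nat.cast_mul, Nat.cast_sub (by omega), Nat.cast_one, Nat.cast_pow,
        pow_add, hsq, zero_mul] at hm'
      linear_combination (norm := ring_nf) (-(1 + (p : ZMod (p ^ 2)))) * hm' +
        (Nat.card {M : Subgroup P // M.index = p} : ZMod (p ^ 2)) * hsq
    rcases Nat.lt_or_ge a n with han' | han'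
    swap
    · have : cnt P (p ^ a) = Nat.card {M : Subgroup P // M.index = p} :=
        Nat.card_congr (Equiv.subtypeEquivRight fun M => by
          rw [hidx M, show a = n by omega])
      rw [this, hMcard]
    obtain ⟨m, rfl⟩ : ∃ m, n = m + 2 := ⟨n - 2, by omega⟩
    have hkey := enumeration hP (k := p ^ a) (by
      rw [hcard]; exact Nat.pow_lt_pow_right hp.out.one_lt (by omega))
    have hL : (p : ZMod (p ^ 2)) * ∑ᶠ L : {L : Subgroup P // L.index = p ^ 2 ∧
        frattini P ≤ L}, (cnt L.1 (p ^ a) : ZMod (p ^ 2)) = p := by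
      have hw := weight hP (frattini P) le_rfl (fun h => by
        rw [h, Subgroup.index_top] at hd
        have := Nat.one_lt_pow (show d ≠ 0 by omega) hp.out.one_lt
        omega)
      rw [Nat.card_congr (Equiv.subtypeEquivRight (q := fun M : Subgroup P => M.index = p)
        fun M => ⟨fun h => h.1, fun h => ⟨h, frattini_le_of_index M h⟩⟩), hMcard] at hw
      rw [finsum_eq_sum_of_fintype, Finset.mul_sum]
      have hterm : ∀ L : {L : Subgroup P // L.index = p ^ 2 ∧ frattini P ≤ L},
          (p : ZMod (p ^ 2)) * (cnt L.1 (p ^ a) : ZMod (p ^ 2)) = p := by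
        intro L
        have hLc : Nat.card L.1 = p ^ (m + 1) := by
          have h3 := L.1.card_mul_index
          rw [hcard, L.2.1, show m + 2 + 1 = (m + 1) + 2 by omega, pow_add] at h3
          exact Nat.eq_of_mul_eq_mul_right (pow_pos hp.out.pos 2) h3
        have h4 := (card_subgroups_modEq_one (G := L.1) hp.out
          (β := a) (hLc ▸ pow_dvd_pow p (by omega))).mul_left' p
        rw [mul_one, ← sq, ← ZMod.natCast_eq_natCast_iff, Nat.cast_mul] at h4
        exact h4
      rw [Finset.sum_congr rfl fun L _ => hterm L, Finset.sum_const, Finset.card_univ,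
        ← Nat.card_eq_fintype_card, nsmul_eq_mul, mul_comm]
      exact (add_left_cancel hw).symm
    rw [hL] at hkey
    rw [finsum_eq_sum_of_fintype] at hkey
    by_cases hcyc : ∀ M : Subgroup P, M.index = p → ¬ IsCyclic M
    · rw [Finset.sum_congr rfl fun (M : {M : Subgroup P // M.index = p}) _ =>
        ih ((hidx M.1).mp M.2) (hcyc M.1 M.2) a ha1 han', Finset.sum_const, Finset.card_univ,
        ← Nat.card_eq_fintype_card, nsmul_eq_mul, hMcard] at hkey
      linear_combination (norm := ring_nf) hkey + hsq
    push Not at hcyc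
    obtain ⟨C, hCi, hC⟩ := hcyc
    obtain ⟨x, hx⟩ := (Subgroup.isCyclic_iff_exists_zpowers_eq_top C).mp hC
    have hox : orderOf x = p ^ (m + 2) := by
      rw [← Nat.card_zpowers, hx]; exact (hidx C).mp hCi
    have hdd : d = 2 := by
      refine le_antisymm ?_ hd2
      have hle : Subgroup.zpowers (x ^ p) ≤ frattini P :=
        Subgroup.zpowers_le.mpr (FrattiniAut.pow_mem_frattini hP x)
      have h3 : (frattini P).index ∣ p ^ 2 := by
        refine (Subgroup.index_dvd_of_le hle).trans (dvd_of_eq ?_)
        have h4 := (Subgroup.zpowers (x ^ p)).card_mul_index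
        rw [Nat.card_zpowers, orderOf_pow_of_dvd hp.out.ne_zero
          (hox ▸ dvd_pow_self p (by omega)), hox, hcard, pow_succ p (m + 1),
          Nat.mul_div_cancel _ hp.out.pos, show m + 2 + 1 = (m + 1) + 2 by omega,
          pow_add p (m + 1) 2] at h4
        exact Nat.eq_of_mul_eq_mul_left (pow_pos hp.out.pos _) h4
      rw [hd] at h3
      exact (Nat.pow_dvd_pow_iff_le_right hp.out.one_lt).mp h3
    have hMex : Nat.card {M : Subgroup P // M.index = p} = p + 1 := by
      rw [hdd] at hmax
      refine Nat.eq_of_mul_eq_mul_left (show 0 < p - 1 by omega) ?_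
      obtain ⟨q, hq⟩ : ∃ q, p = q + 1 := ⟨p - 1, by omega⟩
      rw [hq, Nat.add_sub_cancel] at hmax ⊢
      nlinarith
    -- the power map
    have hmul := mul_pow_of_cyclic_max (P := P) hp2 (m := m) hcard hC hCi
    let f : P →* P :=
      { toFun := fun g => g ^ p ^ (m + 1)
        map_one' := one_pow _
        map_mul' := hmul }
    have hfx : x ∉ f.ker := by
      intro h
      have h3 : x ^ p ^ (m + 1) = 1 := h
      rw [← orderOf_dvd_iff_pow_eq_one, hox, Nat.pow_dvd_pow_iff_le_right hp.out.one_lt] at h3
      omega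
    have hW : f.ker.index = p := by
      rw [Subgroup.index_ker]
      have hr : f.range = Subgroup.zpowers (x ^ p ^ (m + 1)) := by
        refine le_antisymm ?_ (Subgroup.zpowers_le.mpr ⟨x, rfl⟩)
        rintro _ ⟨g, rfl⟩
        have hgp : g ^ p ∈ frattini P := FrattiniAut.pow_mem_frattini hP g
        have hgC : g ^ p ∈ Subgroup.zpowers x := hx.symm ▸ frattini_le_of_index C hCi hgp
        obtain ⟨i, hi⟩ := (mem_powers_iff_mem_zpowers (x := x)).mpr hgC
        change g ^ p ^ (m + 1) ∈ _
        have hip : p ∣ i := by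
          by_contra hnd
          have h1 : g ^ p ^ (m + 3) = 1 := by rw [← hcard]; exact pow_card_eq_one'
          have h5 : x ^ i = g ^ p := hi
          have h6 : (g ^ p) ^ p ^ (m + 1) = 1 := by
            by_contra hne
            refine hnc ⟨g, fun y => ?_⟩
            have hog : orderOf g = p ^ (m + 3) := orderOf_eq_prime_pow (fun h7 => hne (by
              rw [← pow_mul, ← pow_succ']; exact h7)) h1
            have : Subgroup.zpowers g = ⊤ := Subgroup.eq_top_of_card_eq _ (by
              rw [Nat.card_zpowers, hog, hcard])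
            exact Subgroup.mem_zpowers_iff.mp (by rw [this]; exact Subgroup.mem_top y)
          rw [← h5, ← pow_mul, ← orderOf_dvd_iff_pow_eq_one, hox, pow_succ' p (m + 1),
            mul_comm i, mul_comm p] at h6
          exact hnd (Nat.dvd_of_mul_dvd_mul_left (pow_pos hp.out.pos _) h6)
        obtain ⟨j, rfl⟩ := hip
        have h8 : g ^ p ^ (m + 1) = (x ^ p ^ (m + 1)) ^ j := by
          have h9 : g ^ p = x ^ (p * j) := hi.symm
          rw [← pow_mul, show p ^ (m + 1) * j = p * j * p ^ m by ring, pow_mul x, ← h9, ← pow_mul,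
            ← pow_succ']
        rw [h8]
        exact pow_mem (Subgroup.mem_zpowers _) j
      rw [hr, Nat.card_zpowers, orderOf_pow_of_dvd (pow_ne_zero _ hp.out.ne_zero)
        (hox ▸ pow_dvd_pow p (by omega)), hox, pow_succ p (m + 1),
        Nat.mul_div_cancel_left _ (pow_pos hp.out.pos _)]
    have hWnc : ¬ IsCyclic f.ker := by
      intro hcy
      obtain ⟨g, hg⟩ := (Subgroup.isCyclic_iff_exists_zpowers_eq_top f.ker).mp hcy
      have hog : orderOf g = p ^ (m + 2) := by
        rw [← Nat.card_zpowers, hg]; exact (hidx _).mp hW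
      have h3 : g ^ p ^ (m + 1) = 1 := (show g ∈ f.ker by rw [← hg]; exact Subgroup.mem_zpowers g)
      rw [← orderOf_dvd_iff_pow_eq_one, hog, Nat.pow_dvd_pow_iff_le_right hp.out.one_lt] at h3
      omega
    have hother : ∀ M : {M : Subgroup P // M.index = p}, M ≠ ⟨f.ker, hW⟩ →
        (cnt M.1 (p ^ a) : ZMod (p ^ 2)) = 1 := by
      intro M hM
      have hMc : Nat.card M.1 = p ^ (m + 2) := (hidx M.1).mp M.2
      haveI : IsCyclic M.1 := by
        obtain ⟨g, hgM, hgW⟩ : ∃ g ∈ M.1, g ∉ f.ker := by
          by_contra hc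
          push Not at hc
          exact hM (Subtype.ext (Subgroup.eq_of_le_of_card_ge hc
            (by rw [hMc, (hidx _).mp hW])))
        refine isCyclic_of_orderOf_eq_card (⟨g, hgM⟩ : M.1) ?_
        rw [hMc, Subgroup.orderOf_mk]
        refine orderOf_eq_prime_pow hgW ?_
        have : (⟨g, hgM⟩ : M.1) ^ p ^ (m + 2) = 1 := by rw [← hMc]; exact pow_card_eq_one'
        exact congrArg Subtype.val this
      rw [cnt, card_subgroups_cyclic (hMc ▸ pow_dvd_pow p (by omega)), Nat.cast_one]
    rw [← Finset.add_sum_erase _ _ (Finset.mem_univ (⟨f.ker, hW⟩ : {M : Subgroup P // M.index = p})),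
      ih ((hidx _).mp hW) hWnc a ha1 han',
      Finset.sum_congr rfl fun M hM => hother M (Finset.ne_of_mem_erase hM), Finset.sum_const,
      Finset.card_erase_of_mem (Finset.mem_univ _), Finset.card_univ, ← Nat.card_eq_fintype_card,
      hMex, Nat.add_sub_cancel, nsmul_eq_mul, mul_one] at hkey
    linear_combination hkey

end Cfsg.Agent.GroupStructure3.Kulakoff
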