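import Cfsg.Agent.GroupStructure3.Kulakoff
import Cfsg.Agent.Lib.PGroups.Taussky
import Cfsg.Agent.Lib.CharP.Basic

/-!
The number of subgroups of a given order of a `2`-group, modulo four.
-/

set_option autoImplicit false
set_option linter.unusedSectionVars false

namespace Cfsg.Agent.GroupStructure3.KulakoffTwo

open scoped commutatorElement
open Subgroup Cfsg.Agent.GStructB.SubgroupCount Cfsg.Agent.GroupStructure3.Kulakoff

universe u

/-- The `2`-groups of maximal class and order at least eight. -/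
def MaxCl (G : Type*) [Group G] : Prop := 8 ≤ Nat.card G ∧ (commutator G).index = 4

section

variable {P : Type*} [Group P] [Finite P]

theorem three_le_exp {n : ℕ} (hG : Nat.card P = 2 ^ n) (h : MaxCl P) : 3 ≤ n := by
  have h8 := h.1
  rw [hG, show 8 = 2 ^ 3 from rfl] at h8
  exact (Nat.pow_le_pow_iff_right one_lt_two).mp h8

theorem card_of_index_two {n : ℕ} (hG : Nat.card P = 2 ^ (n + 1)) (M : Subgroup P) :
    M.index = 2 ↔ Nat.card M = 2 ^ n := by
  have h := M.card_mul_index
  rw [hG, pow_succ] at h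
  constructor
  · intro h2
    rw [h2] at h
    exact Nat.eq_of_mul_eq_mul_right two_pos h
  · intro h2
    rw [h2] at h
    exact Nat.eq_of_mul_eq_mul_left (pow_pos two_pos n) h

theorem eq_of_index_two {M M' : Subgroup P} (h : M.index = 2) (h' : M'.index = 2) (hle : M ≤ M') :
    M = M' := by
  have e1 := M.card_mul_index
  have e2 := M'.card_mul_index
  rw [h] at e1
  rw [h'] at e2
  exact Subgroup.eq_of_le_of_card_ge hle (by omega)

theorem exists_gen {C : Subgroup P} (hC : IsCyclic C) {n : ℕ} (hG : Nat.card P = 2 ^ (n + 1))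
    (hi : C.index = 2) : ∃ c : P, orderOf c = 2 ^ n ∧ zpowers c = C := by
  obtain ⟨c, hc⟩ := (Subgroup.isCyclic_iff_exists_zpowers_eq_top C).mp hC
  exact ⟨c, by rw [← Nat.card_zpowers, hc]; exact (card_of_index_two hG C).mp hi, hc⟩

theorem index_zpowers_sq {n : ℕ} (hG : Nat.card P = 2 ^ (n + 2)) {c : P}
    (hco : orderOf c = 2 ^ (n + 1)) : (zpowers (c ^ 2)).index = 4 := by
  have h := (zpowers (c ^ 2)).card_mul_index
  rw [Nat.card_zpowers, orderOf_pow_of_dvd two_ne_zero (hco ▸ dvd_pow_self 2 (by omega)), hco, hG,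
    pow_succ 2 n, Nat.mul_div_cancel _ two_pos, pow_add] at h
  exact Nat.eq_of_mul_eq_mul_left (pow_pos two_pos n) h

theorem index_four_of_le {n : ℕ} (hG : Nat.card P = 2 ^ n) {K : Subgroup P} (hK : K.index = 4)
    (hle : K ≤ commutator P) (hne : commutator P ≠ ⊥) : (commutator P).index = 4 := by
  haveI : Fact (Nat.Prime 2) := ⟨Nat.prime_two⟩
  have hd : (commutator P).index ∣ 2 ^ 2 := by
    rw [show 2 ^ 2 = 4 from rfl, ← hK]; exact Subgroup.index_dvd_of_le hle
  obtain ⟨j, hj, hje⟩ := (Nat.dvd_prime_pow Nat.prime_two).mp hd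
  have hj2 : j = 2 := by
    by_contra hc
    refine hne (Cfsg.Agent.PGroups.MaximalClass.eq_top_of_commutator_index_le
      (IsPGroup.of_card hG) ?_)
    rw [hje]
    exact (pow_dvd_pow 2 (show j ≤ 1 by omega)).trans (pow_one 2).dvd
  rw [hje, hj2]; rfl

theorem not_isCyclic_of_commutator (hne : commutator P ≠ ⊥) : ¬ IsCyclic P := by
  intro hcy
  letI := IsCyclic.commGroup (α := P)
  refine hne ?_
  rw [_root_.commutator_def, eq_bot_iff, commutator_le]
  intro a _ b _
  rw [mem_bot, commutatorElement_eq_one_iff_mul_comm, mul_comm]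

theorem MaxCl.not_isCyclic (h : MaxCl P) : ¬ IsCyclic P := by
  refine not_isCyclic_of_commutator fun hb => ?_
  have h1 := h.1
  have h2 := h.2
  rw [hb, index_bot] at h2
  omega

theorem frattini_of_cyclic_max {n : ℕ} (hG : Nat.card P = 2 ^ (n + 2)) (hnc : ¬ IsCyclic P) {c : P}
    (hco : orderOf c = 2 ^ (n + 1)) :
    frattini P = zpowers (c ^ 2) ∧ (frattini P).index = 4 := by
  haveI : Fact (Nat.Prime 2) := ⟨Nat.prime_two⟩
  have hP : IsPGroup 2 P := IsPGroup.of_card hG
  have h4 := index_zpowers_sq hG hco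
  have hle : zpowers (c ^ 2) ≤ frattini P := zpowers_le.mpr (FrattiniAut.pow_mem_frattini hP c)
  obtain ⟨d, hd⟩ := hP.index (frattini P)
  have hd2 : 2 ≤ d := by
    by_contra hlt
    interval_cases d
    · rw [pow_zero, Subgroup.index_eq_one] at hd
      refine hnc ⟨1, fun y => ?_⟩
      have := frattini_nongenerating (K := zpowers (1 : P)) (by rw [hd, sup_top_eq])
      exact mem_zpowers_iff.mp (by rw [this]; exact mem_top y)
    · exact hnc (isCyclic_of_frattini_index (p := 2) (by rw [hd, pow_one]))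
  have hdvd : 2 ^ d ∣ 2 ^ 2 := by
    rw [← hd, show 2 ^ 2 = 4 from rfl, ← h4]; exact Subgroup.index_dvd_of_le hle
  have hd4 : (frattini P).index = 4 := by
    rw [hd, le_antisymm ((Nat.pow_dvd_pow_iff_le_right one_lt_two).mp hdvd) hd2]; rfl
  refine ⟨(Subgroup.eq_of_le_of_card_ge hle ?_).symm, hd4⟩
  have e1 := (zpowers (c ^ 2)).card_mul_index
  have e2 := (frattini P).card_mul_index
  rw [h4] at e1
  rw [hd4] at e2
  omega

theorem conj_zpow_eq {c g : P} {r : ℤ} (h : g * c * g⁻¹ = c ^ r) (i : ℤ) :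
    g * c ^ i * g⁻¹ = c ^ (r * i) := by
  rw [← conj_zpow, h, ← zpow_mul]

/-- The maximal subgroups of a group of maximal class. -/
theorem maxCl_maximal {n : ℕ} (hG : Nat.card P = 2 ^ (n + 3)) (h : MaxCl P) :
    (frattini P).index = 4 ∧ IsCyclic (frattini P) ∧ ∃ C : Subgroup P, C.index = 2 ∧ IsCyclic C ∧
      (∀ M : Subgroup P, M.index = 2 → M ≠ C → 1 ≤ n → MaxCl M) ∧
      (n = 0 → ∀ M M' : Subgroup P, M.index = 2 → M'.index = 2 → M ≠ C → M' ≠ C →
        (IsCyclic M → IsCyclic M')) := by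
  haveI : Fact (Nat.Prime 2) := ⟨Nat.prime_two⟩
  have hP : IsPGroup 2 P := IsPGroup.of_card hG
  obtain ⟨c, g, hco, hg, hci, r, hr, s, hs, hsodd⟩ :=
    Cfsg.Agent.PGroups.Taussky.structure_two (show 3 ≤ n + 3 by omega) hG h.2
  rw [show n + 3 - 1 = n + 2 by omega] at hco
  obtain ⟨hfr, hf4⟩ := frattini_of_cyclic_max (n := n + 1) hG h.not_isCyclic hco
  refine ⟨hf4, by rw [hfr]; exact isCyclic_zpowers _, zpowers c, hci, isCyclic_zpowers _, ?_, ?_⟩
  · intro M hMi hMC hn
    obtain ⟨y, hyM, hyC⟩ : ∃ y ∈ M, y ∉ zpowers c := by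
      by_contra hc
      push Not at hc
      exact hMC (eq_of_index_two hMi hci hc)
    obtain ⟨i, hi⟩ : ∃ i : ℤ, y = g * c ^ i := by
      rcases (Cfsg.Agent.PGroups.Taussky.index_two_conj_mem hci).2 g hg y with hy | hy
      · exact absurd hy hyC
      · obtain ⟨i, hi⟩ := mem_zpowers_iff.mp hy
        exact ⟨i, by rw [hi]; group⟩
    have hyc : y * c * y⁻¹ = c ^ r := by
      rw [hi, ← hr]; group
    have hc2M : c ^ 2 ∈ M :=
      frattini_le_of_index (p := 2) M hMi (FrattiniAut.pow_mem_frattini hP c)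
    have hcomm : ⁅y, c ^ 2⁆ = c ^ (4 * s) := by
      rw [commutatorElement_def, ← zpow_natCast c 2, conj_zpow_eq hyc, ← zpow_neg, ← zpow_add]
      congr 1
      push_cast
      linarith
    have hord : orderOf (c ^ (4 * s)) = 2 ^ n := by
      obtain ⟨m, hm⟩ : ∃ m, n = m + 1 := ⟨n - 1, by omega⟩
      refine hm ▸ orderOf_eq_prime_pow ?_ ?_
      · intro he
        rw [← zpow_natCast (c ^ (4 * s)), ← zpow_mul, ← orderOf_dvd_iff_zpow_eq_one, hco, hm,
          pow_succ 2 (m + 2)] at he
        push_cast at he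
        rw [show (4 : ℤ) * s * 2 ^ m = 2 ^ (m + 2) * s by ring] at he
        have h2 : (2 : ℤ) ∣ s := Int.dvd_of_mul_dvd_mul_left (pow_ne_zero _ two_ne_zero) he
        obtain ⟨k, hk⟩ := hsodd
        omega
      · rw [← zpow_natCast (c ^ (4 * s)), ← zpow_mul, ← orderOf_dvd_iff_zpow_eq_one, hco, hm]
        push_cast
        exact ⟨s, by ring⟩
    have hMcard : Nat.card M = 2 ^ (n + 2) := (card_of_index_two hG M).mp hMi
    have hd : (⁅(⟨y, hyM⟩ : M), ⟨c ^ 2, hc2M⟩⁆ : M) ∈ commutator M :=
      commutator_mem_commutator (mem_top _) (mem_top _)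
    obtain ⟨d, hdd⟩ : ∃ d : M, d = ⁅(⟨y, hyM⟩ : M), ⟨c ^ 2, hc2M⟩⁆ := ⟨_, rfl⟩
    have hdo : orderOf d = 2 ^ n := by
      rw [← Subgroup.orderOf_coe, hdd, ← hord, ← hcomm]
      rfl
    refine ⟨?_, index_four_of_le hMcard (K := zpowers d) ?_ (zpowers_le.mpr (hdd ▸ hd)) ?_⟩
    · rw [hMcard, show 8 = 2 ^ 3 from rfl]
      exact Nat.pow_le_pow_right two_pos (by omega)
    · have e := (zpowers d).card_mul_index
      rw [Nat.card_zpowers, hdo, hMcard, pow_add] at e
      exact Nat.eq_of_mul_eq_mul_left (pow_pos two_pos n) e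
    · intro hb
      rw [hb, mem_bot, ← hdd] at hd
      rw [hd, orderOf_one] at hdo
      have := Nat.one_lt_pow (show n ≠ 0 by omega) one_lt_two
      omega
  · rintro rfl M M' hMi hMi' hMC hMC' hcy
    have hr3 : (c : P) ^ (r + 1) = 1 := by
      rw [← orderOf_dvd_iff_zpow_eq_one, hco]
      obtain ⟨k, hk⟩ := hsodd
      exact ⟨k + 1, by push_cast; omega⟩
    have hsq : ∀ z : P, z ∉ zpowers c → z * z = g * g := by
      intro z hz
      have hzg : z * g⁻¹ ∈ zpowers c :=
        (Subgroup.mul_mem_iff_of_index_two hci).mpr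
          (iff_of_false hz fun h => hg (by simpa using inv_mem h))
      obtain ⟨i, hi⟩ := mem_zpowers_iff.mp hzg
      have hz' : z = c ^ i * g := by rw [hi]; group
      calc z * z = c ^ i * (g * c ^ i * g⁻¹) * (g * g) := by rw [hz']; group
        _ = (c ^ (r + 1)) ^ i * (g * g) := by
          rw [conj_zpow_eq hr, ← zpow_add, ← zpow_mul]
          congr 2
          ring
        _ = g * g := by rw [hr3, one_zpow, one_mul]
    obtain ⟨k, hk⟩ := (Subgroup.isCyclic_iff_exists_zpowers_eq_top M).mp hcy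
    have hkC : k ∉ zpowers c := fun hk' =>
      hMC (eq_of_index_two hMi hci (hk ▸ zpowers_le.mpr hk'))
    have hko : orderOf k = 4 := by
      rw [← Nat.card_zpowers, hk, (card_of_index_two hG M).mp hMi]; rfl
    obtain ⟨z, hzM, hzC⟩ : ∃ z ∈ M', z ∉ zpowers c := by
      by_contra hc
      push Not at hc
      exact hMC' (eq_of_index_two hMi' hci hc)
    have hzo : orderOf z = 2 ^ (1 + 1) := by
      refine orderOf_eq_prime_pow ?_ ?_
      · rw [pow_one, sq, hsq z hzC, ← hsq k hkC, ← sq, ← orderOf_dvd_iff_pow_eq_one, hko]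
        norm_num
      · rw [show (2 : ℕ) ^ (1 + 1) = 2 * 2 by rfl, pow_mul, sq z, hsq z hzC, ← hsq k hkC, ← sq k,
          ← pow_mul, show 2 * 2 = orderOf k by rw [hko]]
        exact pow_orderOf_eq_one k
    refine isCyclic_of_orderOf_eq_card (⟨z, hzM⟩ : M') ?_
    rw [Subgroup.orderOf_mk, hzo, (card_of_index_two hG M').mp hMi']

/-- A non-cyclic group that is not of maximal class has an even number of cyclic maximal
subgroups. -/
theorem even_cyclic_maximal {n : ℕ} (hG : Nat.card P = 2 ^ (n + 3)) (hnc : ¬ IsCyclic P)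
    (hmc : ¬ MaxCl P) : Even (Nat.card {M : Subgroup P // M.index = 2 ∧ IsCyclic M}) := by
  haveI : Fact (Nat.Prime 2) := ⟨Nat.prime_two⟩
  by_cases hex : ∃ C : Subgroup P, C.index = 2 ∧ IsCyclic C
  swap
  · haveI : IsEmpty {M : Subgroup P // M.index = 2 ∧ IsCyclic M} := ⟨fun M => hex ⟨M.1, M.2⟩⟩
    rw [Nat.card_of_isEmpty]; exact ⟨0, rfl⟩
  obtain ⟨C, hCi, hCc⟩ := hex
  obtain ⟨c, hco, hc⟩ := exists_gen hCc hG hCi
  subst hc
  have hP : IsPGroup 2 P := IsPGroup.of_card hG
  obtain ⟨hfr, hf4⟩ := frattini_of_cyclic_max (n := n + 1) hG hnc hco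
  obtain ⟨g, hg⟩ : ∃ g, g ∉ zpowers c := by
    by_contra h
    push Not at h
    rw [(Subgroup.eq_top_iff' _).mpr h, index_top] at hCi
    omega
  obtain ⟨r, hr⟩ := mem_zpowers_iff.mp
    ((Subgroup.normal_of_index_eq_two hCi).conj_mem c (mem_zpowers c) g)
  obtain ⟨l, hl⟩ := mem_zpowers_iff.mp (Subgroup.mul_self_mem_of_index_two hCi g)
  -- `g * g` is a square in the cyclic subgroup
  have hlev : (2 : ℤ) ∣ l := by
    by_contra hodd
    have hcop : IsCoprime l ((2 : ℤ) ^ (n + 2)) :=
      ((Int.prime_two.coprime_iff_not_dvd).mpr hodd).symm.pow_right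
    obtain ⟨u, v, huv⟩ := hcop
    have hcg : c ∈ zpowers g := by
      refine mem_zpowers_iff.mpr ⟨2 * u, ?_⟩
      rw [zpow_mul, zpow_two, ← hl, ← zpow_mul]
      have h1 : c ^ ((2 : ℤ) ^ (n + 2)) = 1 := by
        rw [← orderOf_dvd_iff_zpow_eq_one, hco]; push_cast; exact dvd_rfl
      calc c ^ (l * u) = c ^ (l * u) * (c ^ ((2 : ℤ) ^ (n + 2))) ^ v := by
            rw [h1, one_zpow, mul_one]
        _ = c := by
          rw [← zpow_mul, ← zpow_add, show l * u + 2 ^ (n + 2) * v = 1 by linarith, zpow_one]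
    refine hnc ⟨g, fun x => mem_zpowers_iff.mp ?_⟩
    by_cases hx : x ∈ zpowers c
    · exact zpowers_le.mpr hcg hx
    · have : x * g⁻¹ ∈ zpowers c := (Subgroup.mul_mem_iff_of_index_two hCi).mpr
        (iff_of_false hx fun h => hg (by simpa using inv_mem h))
      have h2 := mul_mem (zpowers_le.mpr hcg this) (mem_zpowers g)
      rwa [inv_mul_cancel_right] at h2
  obtain ⟨j, rfl⟩ := hlev
  -- the action is `1` modulo four
  have hrodd : ¬ (2 : ℤ) ∣ r := by
    rintro ⟨u, rfl⟩
    have h1 : (g * c * g⁻¹) ^ 2 ^ (n + 1) = 1 := by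
      rw [← hr, ← zpow_natCast (c ^ (2 * u)), ← zpow_mul, ← orderOf_dvd_iff_zpow_eq_one, hco]
      push_cast
      exact ⟨u, by ring⟩
    rw [conj_pow, mul_inv_eq_one, mul_eq_left, ← orderOf_dvd_iff_pow_eq_one, hco,
      Nat.pow_dvd_pow_iff_le_right one_lt_two] at h1
    omega
  have hr4 : (4 : ℤ) ∣ r - 1 := by
    by_contra h4
    refine hmc ⟨by rw [hG, show 8 = 2 ^ 3 from rfl]; exact Nat.pow_le_pow_right two_pos (by omega), ?_⟩
    have hmem : ⁅g, c⁆ ∈ commutator P := commutator_mem_commutator (mem_top _) (mem_top _)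
    have he : ⁅g, c⁆ = c ^ (r - 1) := by
      rw [commutatorElement_def, ← hr, zpow_sub, zpow_one]
    obtain ⟨u, hu, hu2⟩ : ∃ u, r - 1 = 2 * u ∧ ¬ (2 : ℤ) ∣ u := by
      refine ⟨(r - 1) / 2, by omega, by omega⟩
    have hne : commutator P ≠ ⊥ := by
      intro hb
      rw [hb, mem_bot, he, ← orderOf_dvd_iff_zpow_eq_one, hco, hu, pow_succ' 2 (n + 1)] at hmem
      push_cast at hmem
      exact hu2 ((dvd_pow_self 2 (by omega)).trans
        (Int.dvd_of_mul_dvd_mul_left two_ne_zero hmem))
    refine index_four_of_le hG (index_zpowers_sq (n := n + 1) hG hco) (zpowers_le.mpr ?_) hne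
    have hcop : IsCoprime u ((2 : ℤ) ^ (n + 1)) :=
      ((Int.prime_two.coprime_iff_not_dvd).mpr hu2).symm.pow_right
    obtain ⟨a, b, hab⟩ := hcop
    have h1 : c ^ ((2 : ℤ) ^ (n + 2)) = 1 := by
      rw [← orderOf_dvd_iff_zpow_eq_one, hco]; push_cast; exact dvd_rfl
    have h2 : c ^ 2 = ⁅g, c⁆ ^ a := by
      rw [he, ← zpow_mul, ← zpow_natCast c 2]
      calc c ^ ((2 : ℕ) : ℤ) = c ^ ((r - 1) * a) * (c ^ ((2 : ℤ) ^ (n + 2))) ^ b := by
            rw [← zpow_mul, ← zpow_add]
            congr 1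
            rw [hu, pow_succ' (2 : ℤ) (n + 1)]
            push_cast
            linear_combination (-2 : ℤ) * hab
        _ = _ := by rw [h1, one_zpow, mul_one]
    rw [h2]
    exact zpow_mem hmem a
  obtain ⟨u, hu⟩ := hr4
  have hodd : ¬ (2 : ℤ) ∣ 2 * u + 1 := by omega
  obtain ⟨a, b, hab⟩ : IsCoprime (2 * u + 1) ((2 : ℤ) ^ (n + 2)) :=
    ((Int.prime_two.coprime_iff_not_dvd).mpr hodd).symm.pow_right
  have h1 : c ^ ((2 : ℤ) ^ (n + 2)) = 1 := by
    rw [← orderOf_dvd_iff_zpow_eq_one, hco]; push_cast; exact dvd_rfl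
  -- an involution outside the cyclic subgroup
  obtain ⟨h, hh⟩ : ∃ h, h = c ^ (-(j * a)) * g := ⟨_, rfl⟩
  have hsq : ∀ i : ℤ, c ^ i * g * (c ^ i * g) = c ^ (i + r * i + 2 * j) := by
    intro i
    calc c ^ i * g * (c ^ i * g) = c ^ i * (g * c ^ i * g⁻¹) * (g * g) := by group
      _ = _ := by rw [conj_zpow_eq hr.symm, ← hl, ← zpow_add, ← zpow_add]
  have hh2 : h * h = 1 := by
    rw [hh, hsq, show -(j * a) + r * -(j * a) + 2 * j = 2 ^ (n + 2) * (2 * j * b) by
      rw [show r = 4 * u + 1 by linarith]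
      linear_combination (-2 * j) * hab, zpow_mul, h1, one_zpow]
  have hhC : h ∉ zpowers c := by
    intro hmem
    refine hg ?_
    have h3 := mul_mem (zpow_mem (mem_zpowers c) (j * a)) hmem
    rwa [hh, ← mul_assoc, ← zpow_add, add_neg_cancel, zpow_zero, one_mul] at h3
  have hch : orderOf (c * h) = 2 ^ (n + 2) := by
    have h3 : c * h * (c * h) = c ^ (r + 1) := by
      have h4 : h * c * h⁻¹ = c ^ r := by
        rw [hh, show c ^ (-(j * a)) * g * c * (c ^ (-(j * a)) * g)⁻¹ =
          c ^ (-(j * a)) * (g * c * g⁻¹) * (c ^ (-(j * a)))⁻¹ by group, ← hr, ← zpow_neg,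
          ← zpow_add, ← zpow_add]
        congr 1
        ring
      calc c * h * (c * h) = c * (h * c * h⁻¹) * (h * h) := by group
        _ = _ := by rw [h4, hh2, mul_one, ← zpow_one_add, add_comm]
    refine orderOf_eq_prime_pow ?_ ?_
    · rw [pow_succ' 2 n, pow_mul, sq, h3, ← zpow_natCast, ← zpow_mul,
        ← orderOf_dvd_iff_zpow_eq_one, hco, show r + 1 = 2 * (2 * u + 1) by linarith]
      push_cast
      intro hd
      rw [show (2 : ℤ) * (2 * u + 1) * 2 ^ n = 2 ^ (n + 1) * (2 * u + 1) by ring,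
        pow_succ (2 : ℤ) (n + 1)] at hd
      exact hodd (Int.dvd_of_mul_dvd_mul_left (pow_ne_zero _ two_ne_zero) hd)
    · rw [show n + 1 + 1 = n + 2 from rfl, pow_succ' 2 (n + 1), pow_mul, sq, h3, ← zpow_natCast,
        ← zpow_mul, ← orderOf_dvd_iff_zpow_eq_one, hco, show r + 1 = 2 * (2 * u + 1) by linarith]
      push_cast
      exact ⟨2 * u + 1, by ring⟩
  have hD : (zpowers (c * h)).index = 2 := by
    rw [card_of_index_two hG, Nat.card_zpowers, hch]
  have hDC : zpowers c ≠ zpowers (c * h) := fun e => hhC (by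
    have := mul_mem (inv_mem (mem_zpowers c)) (e ▸ mem_zpowers (c * h))
    rwa [inv_mul_cancel_left] at this)
  have huniv : ∀ M : Subgroup P, M.index = 2 → IsCyclic M → M = zpowers c ∨ M = zpowers (c * h) := by
    intro M hMi hMc
    by_cases hcM : c ∈ M
    · exact Or.inl (eq_of_index_two hCi hMi (zpowers_le.mpr hcM)).symm
    right
    refine (eq_of_index_two hD hMi (zpowers_le.mpr ?_)).symm
    by_contra hchM
    have hhM : h ∈ M := by
      by_contra hhM
      exact hchM ((Subgroup.mul_mem_iff_of_index_two hMi).mpr (iff_of_false hcM hhM))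
    obtain ⟨z, hz⟩ : ∃ z, z = c ^ 2 ^ (n + 1) := ⟨_, rfl⟩
    have hzM : z ∈ M := frattini_le_of_index (p := 2) M hMi (by
      rw [hz, pow_succ' 2 n, pow_mul]
      exact pow_mem (FrattiniAut.pow_mem_frattini hP c) _)
    have hz1 : z ≠ 1 := by
      rw [hz, ne_eq, ← orderOf_dvd_iff_pow_eq_one, hco, Nat.pow_dvd_pow_iff_le_right one_lt_two]
      omega
    have hzz : z * z = 1 := by
      rw [hz, ← sq, ← pow_mul, ← orderOf_dvd_iff_pow_eq_one, hco, ← pow_succ]
    have hh1 : h ≠ 1 := fun e => hhC (e ▸ one_mem _)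
    have hne : h ≠ z := fun e => hhC (by rw [e, hz]; exact pow_mem (mem_zpowers c) _)
    classical
    haveI := Fintype.ofFinite M
    have h3 := IsCyclic.card_pow_eq_one_le (α := M) two_pos
    have h4 : ({1, ⟨h, hhM⟩, ⟨z, hzM⟩} : Finset M) ⊆
        Finset.univ.filter fun x : M => x ^ 2 = 1 := by
      intro x hx
      simp only [Finset.mem_insert, Finset.mem_singleton] at hx
      rw [Finset.mem_filter]
      refine ⟨Finset.mem_univ _, ?_⟩
      rcases hx with rfl | rfl | rfl
      · exact one_pow 2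
      · exact Subtype.ext (by rw [SubmonoidClass.coe_pow, sq]; exact hh2)
      · exact Subtype.ext (by rw [SubmonoidClass.coe_pow, sq]; exact hzz)
    have h5 := (Finset.card_le_card h4).trans h3
    have h6 : (⟨h, hhM⟩ : M) ≠ ⟨z, hzM⟩ := fun e => hne (congrArg Subtype.val e)
    have h7 : (1 : M) ≠ ⟨h, hhM⟩ := fun e => hh1 (congrArg Subtype.val e).symm
    have h8 : (1 : M) ≠ ⟨z, hzM⟩ := fun e => hz1 (congrArg Subtype.val e).symm
    rw [Finset.card_insert_of_notMem (by simp [h7, h8]), Finset.card_pair h6] at h5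
    omega
  have h2 : Nat.card {M : Subgroup P // M.index = 2 ∧ IsCyclic M} = 2 := by
    rw [Nat.card_eq_two_iff]
    refine ⟨⟨zpowers c, hCi, hCc⟩, ⟨zpowers (c * h), hD, isCyclic_zpowers _⟩,
      fun e => hDC (congrArg Subtype.val e), Set.eq_univ_of_forall fun M => ?_⟩
    rcases huniv M.1 M.2.1 M.2.2 with e | e
    · exact Or.inl (Subtype.ext e)
    · exact Or.inr (Subtype.ext e)
  rw [h2]; exact ⟨1, rfl⟩

/-- A group that is not of maximal class has an even number of maximal subgroups of maximal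
class. -/
theorem even_maxCl_maximal {n : ℕ} (hG : Nat.card P = 2 ^ (n + 1)) (hmc : ¬ MaxCl P) :
    Even (Nat.card {M : Subgroup P // M.index = 2 ∧ MaxCl M}) := by
  haveI : Fact (Nat.Prime 2) := ⟨Nat.prime_two⟩
  have hP : IsPGroup 2 P := IsPGroup.of_card hG
  haveI := hP.isNilpotent
  by_cases hex : ∃ M : Subgroup P, M.index = 2 ∧ MaxCl M
  swap
  · haveI : IsEmpty {M : Subgroup P // M.index = 2 ∧ MaxCl M} := ⟨fun M => hex ⟨M.1, M.2⟩⟩
    rw [Nat.card_of_isEmpty]; exact ⟨0, rfl⟩
  obtain ⟨M₀, hMi, hM⟩ := hex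
  have hMcard := (card_of_index_two hG M₀).mp hMi
  have hn := three_le_exp hMcard hM
  -- the derived group
  obtain ⟨R, hR⟩ : ∃ R : Subgroup P, R = (commutator M₀).map M₀.subtype := ⟨_, rfl⟩
  have hRD : R ≤ commutator P := by
    rw [hR, _root_.commutator_def, Subgroup.map_commutator, _root_.commutator_def]
    exact Subgroup.commutator_mono le_top le_top
  have hRM : R ≤ M₀ := hR ▸ Subgroup.map_subtype_le _
  have hMR : (R.subgroupOf M₀) = commutator M₀ := by
    rw [hR]; exact Subgroup.comap_map_eq_self_of_injective M₀.subtype_injective _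
  have hR8 : R.index = 8 := by
    rw [← Subgroup.relIndex_mul_index hRM, hMi, Subgroup.relIndex, hMR, hM.2]
  have hDR : commutator P = R := by
    by_contra hne
    have hDne : commutator P ≠ ⊥ := fun hb => by
      have h1 : commutator M₀ = ⊥ := by
        rw [← hMR, le_bot_iff.mp (hRD.trans hb.le)]
        exact Subgroup.bot_subgroupOf M₀
      have h8 := hM.1
      have h4 := hM.2
      rw [h1, index_bot] at h4
      omega
    obtain ⟨d, hd⟩ := hP.index (commutator P)
    have hd8 : 2 ^ d ∣ 2 ^ 3 := by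
      rw [← hd, show 2 ^ 3 = 8 from rfl, ← hR8]; exact Subgroup.index_dvd_of_le hRD
    have hdle : d ≤ 3 := (Nat.pow_dvd_pow_iff_le_right one_lt_two).mp hd8
    interval_cases d
    · exact hDne (Cfsg.Agent.PGroups.MaximalClass.eq_top_of_commutator_index_le hP (by rw [hd]; norm_num))
    · exact hDne (Cfsg.Agent.PGroups.MaximalClass.eq_top_of_commutator_index_le hP (by rw [hd]; norm_num))
    · refine hmc ⟨?_, hd⟩
      rw [hG, show 8 = 2 ^ 3 from rfl]
      exact Nat.pow_le_pow_right two_pos (by omega)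
    · refine hne (Subgroup.eq_of_le_of_card_ge hRD ?_).symm
      have e1 := R.card_mul_index
      have e2 := (commutator P).card_mul_index
      rw [hR8] at e1
      rw [hd] at e2
      omega
  haveI hRn : R.Normal := by rw [← hDR]; infer_instance
  have hRc : IsCyclic R := by
    obtain ⟨C, hCc, hCi⟩ := Cfsg.Agent.PGroups.Taussky.exists_cyclic n hn hMcard hM.2
    haveI := Subgroup.normal_of_index_eq_two hCi
    have hle : commutator M₀ ≤ C := by
      haveI : Fact (Nat.Prime 2) := ⟨Nat.prime_two⟩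
      haveI : IsCyclic (M₀ ⧸ C) := isCyclic_of_prime_card (p := 2) hCi
      exact Subgroup.Normal.quotient_commutative_iff_commutator_le.mp IsCyclic.isMulCommutative
    haveI : IsCyclic (commutator M₀) :=
      isCyclic_of_injective (Subgroup.inclusion hle) (Subgroup.inclusion_injective hle)
    rw [hR]
    exact isCyclic_of_surjective
      (Subgroup.equivMapOfInjective _ M₀.subtype M₀.subtype_injective).toMonoidHom
      (MulEquiv.surjective _)
  obtain ⟨ρ, hρ⟩ := (Subgroup.isCyclic_iff_exists_zpowers_eq_top R).mp hRc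
  have hρo : orderOf ρ = 2 ^ (n - 2) := by
    rw [← Nat.card_zpowers, hρ]
    have e := R.card_mul_index
    rw [hR8, hG, show n + 1 = n - 2 + 3 by omega, pow_add] at e
    exact Nat.eq_of_mul_eq_mul_right (by norm_num) e
  have hρR : ρ ∈ R := hρ ▸ mem_zpowers ρ
  obtain ⟨S, hS⟩ : ∃ S : Subgroup P, S = zpowers (ρ ^ 2) := ⟨_, rfl⟩
  have hSR : S ≤ R := hS ▸ zpowers_le.mpr (pow_mem hρR 2)
  haveI hSn : S.Normal := ⟨fun x hx y => by
    rw [hS] at hx ⊢
    obtain ⟨i, rfl⟩ := mem_zpowers_iff.mp hx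
    obtain ⟨a, ha⟩ := mem_zpowers_iff.mp (hρ.ge (hRn.conj_mem ρ hρR y))
    refine mem_zpowers_iff.mpr ⟨a * i, ?_⟩
    rw [← conj_zpow, ← conj_pow, ← ha, ← zpow_natCast (ρ ^ a), ← zpow_natCast ρ, ← zpow_mul,
      ← zpow_mul, ← zpow_mul]
    congr 1
    ring⟩
  have hρS : ρ ∉ S := by
    intro h
    have h1 : orderOf ρ ∣ orderOf (ρ ^ 2) := by
      rw [← Nat.card_zpowers, ← Nat.card_zpowers]
      exact Subgroup.card_dvd_of_le (zpowers_le.mpr (hS ▸ h))
    rw [orderOf_pow_of_dvd two_ne_zero (hρo ▸ dvd_pow_self 2 (by omega)), hρo,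
      show n - 2 = n - 3 + 1 by omega, pow_succ, Nat.mul_div_cancel _ two_pos] at h1
    have h2 := Nat.le_of_dvd (pow_pos two_pos _) h1
    have := pow_pos (show 0 < 2 by norm_num) (n - 3)
    omega
  obtain ⟨π, hπ⟩ : ∃ π : P →* P ⧸ S, π = QuotientGroup.mk' S := ⟨_, rfl⟩
  have hker : ∀ x, π x = 1 ↔ x ∈ S := fun x => by
    rw [hπ]; exact QuotientGroup.eq_one_iff x
  -- the image of `R` is central of order two
  have hRcen : ∀ z ∈ R, ∀ y, Commute (π y) (π z) := by
    intro z hz y
    obtain ⟨i, rfl⟩ := mem_zpowers_iff.mp (hρ.ge hz)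
    rw [map_zpow]
    refine Commute.zpow_right ?_ i
    rw [← commutatorElement_eq_one_iff_commute, ← map_commutatorElement, hker, hS]
    obtain ⟨a, ha⟩ := mem_zpowers_iff.mp (hρ.ge (hRn.conj_mem ρ hρR y))
    have haodd : ¬ (2 : ℤ) ∣ a := by
      rintro ⟨b, rfl⟩
      refine hρS ?_
      have : y * ρ * y⁻¹ ∈ S := by
        rw [← ha, hS, zpow_mul]
        exact zpow_mem (by rw [zpow_two, ← sq]; exact mem_zpowers _) b
      have h2 := hSn.conj_mem _ this y⁻¹
      simpa [mul_assoc] using h2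
    refine mem_zpowers_iff.mpr ⟨(a - 1) / 2, ?_⟩
    rw [commutatorElement_def, ← ha, ← zpow_natCast ρ 2, ← zpow_mul, ← zpow_sub_one]
    congr 1
    push_cast
    omega
  have hRsq : ∀ z ∈ R, π z ^ 2 = 1 := by
    intro z hz
    obtain ⟨i, rfl⟩ := mem_zpowers_iff.mp (hρ.ge hz)
    rw [← map_pow, hker, hS, ← zpow_natCast (ρ ^ i), ← zpow_mul, mul_comm, zpow_mul, zpow_natCast]
    exact zpow_mem (mem_zpowers _) i
  have hcR : ∀ x y : P, ⁅x, y⁆ ∈ R := fun x y =>
    hDR ▸ commutator_mem_commutator (mem_top x) (mem_top y)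
  -- squares are central modulo `S`
  have hsqc : ∀ x y : P, Commute (π (x ^ 2)) (π y) := by
    intro x y
    rw [← commutatorElement_eq_one_iff_commute, map_pow, sq]
    have e : ⁅π x * π x, π y⁆ = π x * ⁅π x, π y⁆ * (π x)⁻¹ * ⁅π x, π y⁆ := by
      rw [commutatorElement_def, commutatorElement_def]; group
    rw [e, ← map_commutatorElement, (hRcen _ (hcR x y) x).eq, mul_inv_cancel_right, ← sq,
      hRsq _ (hcR x y)]
  -- the centre modulo `S`
  obtain ⟨Z, hZ⟩ : ∃ Z : Subgroup P, Z = (Subgroup.center (P ⧸ S)).comap π := ⟨_, rfl⟩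
  have hZmem : ∀ z, z ∈ Z ↔ ∀ y, Commute (π y) (π z) := by
    intro z
    rw [hZ, mem_comap, Subgroup.mem_center_iff]
    constructor
    · exact fun h y => h (π y)
    · intro h w
      obtain ⟨y, rfl⟩ := (hπ ▸ QuotientGroup.mk'_surjective S : Function.Surjective π) w
      exact (h y).eq
  haveI hZn : Z.Normal := hZ ▸ inferInstance
  have hfZ : frattini P ≤ Z := by
    refine (Cfsg.Agent.CharP.frattini_le_ker (p := 2) (QuotientGroup.mk' Z) (fun a b => ?_)
      fun a => ?_).trans (QuotientGroup.ker_mk' Z).le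
    · rw [← commutatorElement_eq_one_iff_commute, ← map_commutatorElement]
      exact (QuotientGroup.eq_one_iff _).mpr ((hZmem _).mpr fun y => hRcen _ (hcR a b) y)
    · rw [← map_pow]
      exact (QuotientGroup.eq_one_iff _).mpr ((hZmem _).mpr fun y => (hsqc a y).symm)
  -- `π` of a commutator is bilinear with values in a group of order two
  have hval : ∀ x y : P, π ⁅x, y⁆ = 1 ∨ π ⁅x, y⁆ = π ρ := by
    intro x y
    obtain ⟨i, hi⟩ := mem_zpowers_iff.mp (hρ.ge (hcR x y))
    rw [← hi, map_zpow]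
    have h2 := hRsq ρ hρR
    rcases Int.even_or_odd i with ⟨k, rfl⟩ | ⟨k, rfl⟩
    · left; rw [← two_mul, zpow_mul, zpow_two, ← sq, h2, one_zpow]
    · right; rw [zpow_add, zpow_mul, zpow_two, ← sq, h2, one_zpow, one_mul, zpow_one]
  have hbil : ∀ x y a : P, π ⁅x * y, a⁆ = π ⁅x, a⁆ * π ⁅y, a⁆ := by
    intro x y a
    rw [show ⁅x * y, a⁆ = x * ⁅y, a⁆ * x⁻¹ * ⁅x, a⁆ by
      rw [commutatorElement_def, commutatorElement_def, commutatorElement_def]; group,
      map_mul, map_mul, map_mul, map_inv, (hRcen _ (hcR y a) x).eq, mul_inv_cancel_right,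
      (hRcen _ (hcR x a) ⁅y, a⁆).eq]
  have hρ1 : π ρ ≠ 1 := fun h => hρS ((hker ρ).mp h)
  have hcomm1 : ∀ x y : P, π ⁅x, y⁆ = 1 ↔ Commute (π x) (π y) := by
    intro x y
    rw [map_commutatorElement, commutatorElement_eq_one_iff_commute]
  have hfix : ∀ x b a : P, π ⁅b, a⁆ = π ρ → ∃ x' : P, (x' = x ∨ x' = x * b) ∧ π ⁅x', a⁆ = 1 := by
    intro x b a hba
    rcases hval x a with h | h
    · exact ⟨x, Or.inl rfl, h⟩
    · refine ⟨x * b, Or.inr rfl, ?_⟩
      rw [hbil, h, hba, ← sq]
      exact hRsq ρ hρR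
  -- a maximal subgroup has maximal class exactly when it does not contain `Z`
  have hchar : ∀ M : Subgroup P, M.index = 2 → (MaxCl M ↔ ¬ Z ≤ M) := by
    intro M hMi'
    have hMc := (card_of_index_two hG M).mp hMi'
    have hRM' : R ≤ M := by
      rw [← hDR]
      exact (Coprime.commutator_le_frattini P).trans (frattini_le_of_index (p := 2) M hMi')
    have hR4 : R.relIndex M = 4 := by
      have e := Subgroup.relIndex_mul_index hRM'
      rw [hR8, hMi'] at e
      omega
    have hcle : commutator M ≤ R.subgroupOf M := by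
      rw [_root_.commutator_def, commutator_le]
      intro a _ b _
      exact mem_subgroupOf.mpr (hcR a b)
    constructor
    · intro hM' hZM
      -- two elements of `M` with commutator outside `S`
      obtain ⟨a, ha, b, hb, hab⟩ : ∃ a ∈ M, ∃ b ∈ M, π ⁅a, b⁆ = π ρ := by
        by_contra hno
        push Not at hno
        have hle : commutator M ≤ S.subgroupOf M := by
          rw [_root_.commutator_def, commutator_le]
          intro a _ b _
          rw [mem_subgroupOf, ← hker]
          exact (hval a b).resolve_right (hno a a.2 b b.2)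
        have heq : commutator M = R.subgroupOf M := by
          refine Subgroup.eq_of_le_of_card_ge hcle ?_
          have e1 := (commutator M).card_mul_index
          have e2 := (R.subgroupOf M).card_mul_index
          rw [hM'.2] at e1
          rw [show (R.subgroupOf M).index = 4 from hR4] at e2
          omega
        exact hρS (mem_subgroupOf.mp (hle (heq.ge
          (mem_subgroupOf.mpr hρR : (⟨ρ, hRM' hρR⟩ : M) ∈ R.subgroupOf M))))
      have haR : a ∉ R := fun h => hρ1 (by
        rw [← hab, hcomm1]; exact (hRcen a h b).symm)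
      have hbR : b ∉ R ⊔ zpowers a := by
        intro h
        refine hρ1 ?_
        rw [← hab, hcomm1]
        have : R ⊔ zpowers a ≤ (Subgroup.centralizer {π a}).comap π := sup_le
          (fun z hz => mem_comap.mpr (mem_centralizer_singleton_iff.mpr (hRcen z hz a).eq.symm))
          (zpowers_le.mpr (mem_comap.mpr (mem_centralizer_singleton_iff.mpr rfl)))
        exact (mem_centralizer_singleton_iff.mp (mem_comap.mp (this h)) : _).symm
      have hgen : R ⊔ zpowers a ⊔ zpowers b = M := by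
        have l1 : R ≤ R ⊔ zpowers a := le_sup_left
        have l2 : R ⊔ zpowers a ≤ R ⊔ zpowers a ⊔ zpowers b := le_sup_left
        have l3 : R ⊔ zpowers a ⊔ zpowers b ≤ M :=
          sup_le (sup_le hRM' (zpowers_le.mpr ha)) (zpowers_le.mpr hb)
        have n1 : R.relIndex (R ⊔ zpowers a) ≠ 1 := fun h =>
          haR (relIndex_eq_one.mp h (le_sup_right (a := R) (mem_zpowers a)))
        have n2 : (R ⊔ zpowers a).relIndex (R ⊔ zpowers a ⊔ zpowers b) ≠ 1 := fun h =>
          hbR (relIndex_eq_one.mp h (le_sup_right (a := R ⊔ zpowers a) (mem_zpowers b)))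
        have z1 : R.relIndex (R ⊔ zpowers a) ≠ 0 := index_ne_zero_of_finite
        have z2 : (R ⊔ zpowers a).relIndex (R ⊔ zpowers a ⊔ zpowers b) ≠ 0 :=
          index_ne_zero_of_finite
        have e1 := relIndex_mul_relIndex _ _ _ l1 l2
        have e2 := relIndex_mul_relIndex _ _ _ (l1.trans l2) l3
        rw [hR4, ← e1] at e2
        refine le_antisymm l3 (relIndex_eq_one.mp ?_)
        have h4 : 4 ≤ R.relIndex (R ⊔ zpowers a) *
            (R ⊔ zpowers a).relIndex (R ⊔ zpowers a ⊔ zpowers b) :=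
          Nat.mul_le_mul (show 2 ≤ _ by omega) (show 2 ≤ _ by omega)
        obtain ⟨k, hk⟩ : ∃ k, k = R.relIndex (R ⊔ zpowers a) *
            (R ⊔ zpowers a).relIndex (R ⊔ zpowers a ⊔ zpowers b) := ⟨_, rfl⟩
        rw [← hk] at e2 h4
        have hdvd : k ∣ 4 := Dvd.intro _ e2
        have hk4 : k = 4 := le_antisymm (Nat.le_of_dvd (by norm_num) hdvd) h4
        rw [hk4] at e2
        omega
      obtain ⟨x, hx⟩ : ∃ x, x ∉ M := by
        by_contra h
        push Not at h
        rw [(Subgroup.eq_top_iff' M).mpr h, index_top] at hMi'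
        omega
      have hba : π ⁅b, a⁆ = π ρ := by
        rw [← commutatorElement_inv, map_inv, hab, inv_eq_iff_mul_eq_one, ← sq, hRsq ρ hρR]
      obtain ⟨x₁, hx₁, hx₁a⟩ := hfix x b a hba
      obtain ⟨x₂, hx₂, hx₂b⟩ := hfix x₁ a b hab
      have hx₁M : x₁ ∉ M := by
        rcases hx₁ with rfl | rfl
        · exact hx
        · rwa [M.mul_mem_cancel_right hb]
      have hx₂M : x₂ ∉ M := by
        rcases hx₂ with rfl | rfl
        · exact hx₁M
        · rwa [M.mul_mem_cancel_right ha]
      have hx₂a : π ⁅x₂, a⁆ = 1 := by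
        rcases hx₂ with rfl | rfl
        · exact hx₁a
        · rw [hbil, hx₁a, commutatorElement_self, map_one, mul_one]
      refine hx₂M (hZM ((hZmem x₂).mpr fun y => ?_))
      have hMle : M ≤ (Subgroup.centralizer {π x₂}).comap π := by
        rw [← hgen]
        refine sup_le (sup_le (fun z hz => mem_comap.mpr
          (mem_centralizer_singleton_iff.mpr (hRcen z hz x₂).eq.symm)) ?_) ?_ <;>
          refine zpowers_le.mpr (mem_comap.mpr (mem_centralizer_singleton_iff.mpr ?_))
        · exact ((hcomm1 _ _).mp hx₂a).eq.symm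
        · exact ((hcomm1 _ _).mp hx₂b).eq.symm
      by_cases hy : y ∈ M
      · exact mem_centralizer_singleton_iff.mp (mem_comap.mp (hMle hy))
      · have hy' : y * x₂⁻¹ ∈ M := (Subgroup.mul_mem_iff_of_index_two hMi').mpr
          (iff_of_false hy fun h => hx₂M (by simpa using inv_mem h))
        have h1 : Commute (π (y * x₂⁻¹)) (π x₂) :=
          mem_centralizer_singleton_iff.mp (mem_comap.mp (hMle hy'))
        have h2 := h1.mul_left (Commute.refl (π x₂))
        rwa [← map_mul, inv_mul_cancel_right] at h2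
    · intro hZM
      obtain ⟨z, hzZ, hzM⟩ := SetLike.not_le_iff_exists.mp hZM
      obtain ⟨x, y, hxy⟩ : ∃ x y : P, π ⁅x, y⁆ = π ρ := by
        by_contra hno
        push Not at hno
        refine hρS ?_
        have hle : commutator P ≤ S := by
          rw [_root_.commutator_def, commutator_le]
          intro a _ b _
          exact (hker _).mp ((hval a b).resolve_right (hno a b))
        exact hle (hDR ▸ hρR)
      -- move both elements into `M`
      have hmove : ∀ x : P, ∃ x' ∈ M, ∀ w, π ⁅x', w⁆ = π ⁅x, w⁆ := by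
        intro x
        by_cases hx : x ∈ M
        · exact ⟨x, hx, fun _ => rfl⟩
        · refine ⟨x * z, (Subgroup.mul_mem_iff_of_index_two hMi').mpr (iff_of_false hx hzM),
            fun w => ?_⟩
          rw [hbil, (hcomm1 z w).mpr ((hZmem z).mp hzZ w).symm, mul_one]
      obtain ⟨x', hx', hxe⟩ := hmove x
      obtain ⟨y', hy', hye⟩ := hmove y
      have hxy' : π ⁅x', y'⁆ = π ρ := by
        have e1 : π ⁅y', x'⁆ = π ⁅y, x'⁆ := hye x'
        rw [← commutatorElement_inv x' y', ← commutatorElement_inv x' y, map_inv, map_inv,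
          inv_inj] at e1
        rw [e1, hxe, hxy]
      obtain ⟨d, hd⟩ : ∃ d : M, d = ⁅(⟨x', hx'⟩ : M), ⟨y', hy'⟩⁆ := ⟨_, rfl⟩
      have hdc : d ∈ commutator M := hd ▸ commutator_mem_commutator (mem_top _) (mem_top _)
      have hdP : (d : P) = ⁅x', y'⁆ := by rw [hd]; rfl
      refine ⟨?_, ?_⟩
      · rw [hMc, show 8 = 2 ^ 3 from rfl]
        exact Nat.pow_le_pow_right two_pos hn
      · -- the derived group of `M` is all of `R`
        obtain ⟨i, hi⟩ := mem_zpowers_iff.mp (hρ.ge (hcR x' y'))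
        have hiodd : ¬ (2 : ℤ) ∣ i := by
          rintro ⟨k, rfl⟩
          rw [← hi, map_zpow, zpow_mul, zpow_two, ← sq, hRsq ρ hρR, one_zpow] at hxy'
          exact hρ1 hxy'.symm
        obtain ⟨u, v, huv⟩ : IsCoprime i ((2 : ℤ) ^ (n - 2)) :=
          ((Int.prime_two.coprime_iff_not_dvd).mpr hiodd).symm.pow_right
        have h1 : ρ ^ ((2 : ℤ) ^ (n - 2)) = 1 := by
          rw [← orderOf_dvd_iff_zpow_eq_one, hρo]; push_cast; exact dvd_rfl
        have hRle : R.subgroupOf M ≤ commutator M := by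
          intro w hw
          obtain ⟨k, hk⟩ := mem_zpowers_iff.mp (hρ.ge (mem_subgroupOf.mp hw))
          have : w = d ^ (u * k) := by
            apply Subtype.ext
            rw [SubgroupClass.coe_zpow, hdP, ← hi, ← hk, ← zpow_mul]
            calc ρ ^ k = ρ ^ (i * (u * k)) * (ρ ^ ((2 : ℤ) ^ (n - 2))) ^ (v * k) := by
                  rw [← zpow_mul, ← zpow_add]
                  congr 1
                  linear_combination (-k) * huv
              _ = _ := by rw [h1, one_zpow, mul_one]
          rw [this]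
          exact zpow_mem hdc _
        rw [le_antisymm hcle hRle]
        exact hR4
  -- count
  have hZtop : Z ≠ ⊤ := by
    intro h
    refine hρS ?_
    have hle : commutator P ≤ S := by
      rw [_root_.commutator_def, commutator_le]
      intro a _ b _
      rw [← hker, hcomm1]
      exact (hZmem b).mp (h ▸ mem_top b) a
    exact hle (hDR ▸ hρR)
  have heven : ∀ X : Subgroup P, X ≠ ⊤ → 2 ∣ X.index := fun X hX => by
    obtain ⟨d, hd⟩ := hP.index X
    rcases d with _ | d
    · exact absurd (Subgroup.index_eq_one.mp (by rw [hd, pow_zero])) hX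
    · rw [hd, pow_succ]; exact dvd_mul_left 2 _
  have hc1 : Nat.card {M : Subgroup P // M.index = 2 ∧ Z ≤ M} + 1 = Z.index := by
    simpa using card_max_ge hP Z hfZ
  haveI : (frattini P).Normal := normal_of_frattini_le hP le_rfl
  have hc2 : Nat.card {M : Subgroup P // M.index = 2 ∧ frattini P ≤ M} + 1 = (frattini P).index := by
    simpa using card_max_ge hP (frattini P) le_rfl
  have hsplit : Nat.card {M : Subgroup P // M.index = 2 ∧ frattini P ≤ M} =
      Nat.card {M : Subgroup P // M.index = 2 ∧ Z ≤ M} +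
        Nat.card {M : Subgroup P // M.index = 2 ∧ MaxCl M} := by
    rw [← Nat.card_sum]
    classical
    refine Nat.card_congr
      { toFun := fun M => if h : Z ≤ M.1 then Sum.inl ⟨M.1, M.2.1, h⟩
          else Sum.inr ⟨M.1, M.2.1, (hchar M.1 M.2.1).mpr h⟩
        invFun := Sum.elim (fun M => ⟨M.1, M.2.1, frattini_le_of_index (p := 2) M.1 M.2.1⟩)
          fun M => ⟨M.1, M.2.1, frattini_le_of_index (p := 2) M.1 M.2.1⟩
        left_inv := fun M => by by_cases h : Z ≤ M.1 <;> simp [h]
        right_inv := fun M => by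
          rcases M with M | M
          · simp [M.2.2]
          · simp [(hchar M.1 M.2.1).mp M.2.2] }
  have e1 := heven Z hZtop
  have e2 := heven (frattini P) fun h => hZtop (top_le_iff.mp (h ▸ hfZ))
  rw [Nat.even_iff]
  omega

end

/-! ### The counts -/

theorem cnt_cyclic {C : Type*} [Group C] [Finite C] [IsCyclic C] {d : ℕ} (hd : d ∣ Nat.card C) :
    cnt C d = 1 := card_subgroups_cyclic hd

theorem card_maximal_modEq {P : Type*} [Group P] [Finite P] {n : ℕ} (hG : Nat.card P = 2 ^ n)
    (hn : 2 ≤ n) (hnc : ¬ IsCyclic P) :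
    (Nat.card {M : Subgroup P // M.index = 2} : ZMod 4) = 3 ∧
      2 ≤ Nat.log 2 (frattini P).index := by
  haveI : Fact (Nat.Prime 2) := ⟨Nat.prime_two⟩
  have hP : IsPGroup 2 P := IsPGroup.of_card hG
  haveI : (frattini P).Normal := normal_of_frattini_le hP le_rfl
  obtain ⟨d, hd⟩ := hP.index (frattini P)
  have hd2 : 2 ≤ d := by
    by_contra hlt
    interval_cases d
    · rw [pow_zero, Subgroup.index_eq_one] at hd
      refine hnc ⟨1, fun y => ?_⟩
      have := frattini_nongenerating (K := zpowers (1 : P)) (by rw [hd, sup_top_eq])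
      exact mem_zpowers_iff.mp (by rw [this]; exact mem_top y)
    · exact hnc (isCyclic_of_frattini_index (p := 2) (by rw [hd, pow_one]))
  refine ⟨?_, by rw [hd, Nat.log_pow one_lt_two]; exact hd2⟩
  have h := card_max_ge hP (frattini P) le_rfl
  rw [hd, Nat.card_congr (Equiv.subtypeEquivRight (q := fun M : Subgroup P => M.index = 2)
    fun M => ⟨fun h => h.1, fun h => ⟨h, frattini_le_of_index (p := 2) M h⟩⟩)] at h
  have hc := congrArg (Nat.cast : ℕ → ZMod 4) h
  obtain ⟨e, rfl⟩ := Nat.exists_eq_add_of_le hd2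
  simp only [show 2 - 1 = 1 from rfl, one_mul, pow_add, Nat.cast_add, Nat.cast_mul, Nat.cast_one] at hc
  rw [show ((2 ^ 2 : ℕ) : ZMod 4) = 0 by decide, zero_mul] at hc
  calc (Nat.card {M : Subgroup P // M.index = 2} : ZMod 4) = -1 := eq_neg_of_add_eq_zero_left hc
    _ = 3 := by decide

/-- The count of a group of maximal class. -/
theorem cnt_maxCl : ∀ (n : ℕ) {P : Type u} [Group P] [Finite P], Nat.card P = 2 ^ (n + 3) →
    MaxCl P → ∀ a, 1 ≤ a → a ≤ n + 2 → (cnt P (2 ^ a) : ZMod 4) = if a = n + 2 then 3 else 1 := by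
  intro n
  induction n using Nat.strong_induction_on with
  | _ n ih =>
    intro P _ _ hG h a ha1 ha2
    haveI : Fact (Nat.Prime 2) := ⟨Nat.prime_two⟩
    classical
    haveI := Fintype.ofFinite (Subgroup P)
    have hP : IsPGroup 2 P := IsPGroup.of_card hG
    obtain ⟨hf4, hfc, C, hCi, hCc, hmax, hbase⟩ := maxCl_maximal hG h
    have hMc : ∀ M : Subgroup P, M.index = 2 → Nat.card M = 2 ^ (n + 2) := fun M hM =>
      (card_of_index_two hG M).mp hM
    by_cases htop : a = n + 2
    · rw [if_pos htop]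
      have e : cnt P (2 ^ a) = Nat.card {M : Subgroup P // M.index = 2} :=
        Nat.card_congr (Equiv.subtypeEquivRight fun M => by rw [card_of_index_two hG M, htop])
      rw [e]
      exact (card_maximal_modEq hG (by omega) h.not_isCyclic).1
    rw [if_neg htop]
    have hkey : (cnt P (2 ^ a) : ZMod 4) + 2 * ∑ᶠ L : {L : Subgroup P // L.index = 2 ^ 2 ∧
        frattini P ≤ L}, (cnt L.1 (2 ^ a) : ZMod 4) =
        ∑ᶠ M : {M : Subgroup P // M.index = 2}, (cnt M.1 (2 ^ a) : ZMod 4) :=
      enumeration (p := 2) hP (k := 2 ^ a)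
        (by rw [hG]; exact Nat.pow_lt_pow_right one_lt_two (by omega))
    rw [finsum_eq_sum_of_fintype, finsum_eq_sum_of_fintype] at hkey
    have hL : ∀ L : {L : Subgroup P // L.index = 2 ^ 2 ∧ frattini P ≤ L}, L.1 = frattini P := by
      intro L
      refine (Subgroup.eq_of_le_of_card_ge L.2.2 ?_).symm
      have e1 := L.1.card_mul_index
      have e2 := (frattini P).card_mul_index
      rw [L.2.1] at e1
      rw [hf4] at e2
      omega
    have hsumL : (∑ L : {L : Subgroup P // L.index = 2 ^ 2 ∧ frattini P ≤ L},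
        (cnt L.1 (2 ^ a) : ZMod 4)) = 1 := by
      haveI : Unique {L : Subgroup P // L.index = 2 ^ 2 ∧ frattini P ≤ L} :=
        { default := ⟨frattini P, hf4, le_rfl⟩
          uniq := fun L => Subtype.ext (hL L) }
      rw [Fintype.sum_unique]
      rw [hL default]
      have hfcard : Nat.card (frattini P) = 2 ^ (n + 1) := by
        have e2 := (frattini P).card_mul_index
        rw [hf4, hG, show n + 3 = n + 1 + 2 from rfl, pow_add] at e2
        exact Nat.eq_of_mul_eq_mul_right (by norm_num) e2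
      haveI := hfc
      rw [cnt_cyclic (hfcard ▸ pow_dvd_pow 2 (by omega)), Nat.cast_one]
    have hcardM : Fintype.card {M : Subgroup P // M.index = 2} = 3 := by
      haveI : (frattini P).Normal := normal_of_frattini_le hP le_rfl
      have e := card_max_ge hP (frattini P) le_rfl
      rw [hf4, Nat.card_congr (Equiv.subtypeEquivRight (q := fun M : Subgroup P => M.index = 2)
        fun M => ⟨fun h => h.1, fun h => ⟨h, frattini_le_of_index (p := 2) M h⟩⟩),
        Nat.card_eq_fintype_card] at e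
      omega
    -- the two non-distinguished maximal subgroups behave alike
    obtain ⟨v, hv, hMv⟩ : ∃ v : ZMod 4, 2 * v = 2 ∧ ∀ M : {M : Subgroup P // M.index = 2},
        M ≠ ⟨C, hCi⟩ → (cnt M.1 (2 ^ a) : ZMod 4) = v := by
      rcases Nat.eq_zero_or_pos n with rfl | hn
      · have ha : a = 1 := by omega
        subst ha
        by_cases hcy : ∃ M : Subgroup P, M.index = 2 ∧ M ≠ C ∧ IsCyclic M
        · obtain ⟨M₁, h1, h1', h1c⟩ := hcy
          refine ⟨1, by decide, fun M hM => ?_⟩
          haveI := hbase rfl M₁ M.1 h1 M.2 h1' (fun e => hM (Subtype.ext e)) h1c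
          rw [cnt_cyclic (hMc M.1 M.2 ▸ pow_dvd_pow 2 (by omega)), Nat.cast_one]
        · refine ⟨3, by decide, fun M hM => ?_⟩
          have hMnc : ¬ IsCyclic M.1 := fun hc =>
            hcy ⟨M.1, M.2, fun e => hM (Subtype.ext e), hc⟩
          have e : cnt M.1 (2 ^ 1) = Nat.card {K : Subgroup M.1 // K.index = 2} :=
            Nat.card_congr (Equiv.subtypeEquivRight fun K => by
              rw [card_of_index_two (hMc M.1 M.2) K])
          rw [e]
          exact (card_maximal_modEq (hMc M.1 M.2) le_rfl hMnc).1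
      · obtain ⟨m, rfl⟩ : ∃ m, n = m + 1 := ⟨n - 1, by omega⟩
        refine ⟨if a = m + 2 then 3 else 1, by split <;> decide, fun M hM => ?_⟩
        exact ih m (by omega) (hMc M.1 M.2) (hmax M.1 M.2 (fun e => hM (Subtype.ext e)) (by omega))
          a ha1 (by omega)
    haveI := hCc
    rw [hsumL, ← Finset.add_sum_erase _ _ (Finset.mem_univ (⟨C, hCi⟩ : {M : Subgroup P // M.index = 2})),
      cnt_cyclic (C := C) (hMc C hCi ▸ pow_dvd_pow 2 (by omega)), Nat.cast_one,
      Finset.sum_congr rfl fun M hM => hMv M (Finset.ne_of_mem_erase hM), Finset.sum_const,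
      Finset.card_erase_of_mem (Finset.mem_univ _), Finset.card_univ, hcardM, nsmul_eq_mul,
      show 3 - 1 = 2 from rfl, Nat.cast_two, hv, mul_one] at hkey
    linear_combination hkey

/-- A non-cyclic `2`-group that is not of maximal class. -/
theorem cnt_not_maxCl : ∀ (n : ℕ) {P : Type u} [Group P] [Finite P], Nat.card P = 2 ^ n →
    ¬ IsCyclic P → ¬ MaxCl P → ∀ a, 1 ≤ a → a < n → (cnt P (2 ^ a) : ZMod 4) = 3 := by
  intro n
  induction n with
  | zero => intro P _ _ _ _ _ a _ h; omega
  | succ n ih =>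
    intro P _ _ hG hnc hmc a ha1 han
    haveI : Fact (Nat.Prime 2) := ⟨Nat.prime_two⟩
    classical
    haveI := Fintype.ofFinite (Subgroup P)
    have hP : IsPGroup 2 P := IsPGroup.of_card hG
    haveI : (frattini P).Normal := normal_of_frattini_le hP le_rfl
    have hMc : ∀ M : Subgroup P, M.index = 2 → Nat.card M = 2 ^ n := fun M hM =>
      (card_of_index_two hG M).mp hM
    have hmax : (Nat.card {M : Subgroup P // M.index = 2} : ZMod 4) = 3 :=
      (card_maximal_modEq hG (by omega) hnc).1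
    rcases Nat.lt_or_ge a n with han' | han'
    swap
    · have e : cnt P (2 ^ a) = Nat.card {M : Subgroup P // M.index = 2} :=
        Nat.card_congr (Equiv.subtypeEquivRight fun M => by
          rw [card_of_index_two hG M, show a = n by omega])
      rw [e, hmax]
    have hkey : (cnt P (2 ^ a) : ZMod 4) + 2 * ∑ᶠ L : {L : Subgroup P // L.index = 2 ^ 2 ∧
        frattini P ≤ L}, (cnt L.1 (2 ^ a) : ZMod 4) =
        ∑ᶠ M : {M : Subgroup P // M.index = 2}, (cnt M.1 (2 ^ a) : ZMod 4) :=
      enumeration (p := 2) hP (k := 2 ^ a)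
        (by rw [hG]; exact Nat.pow_lt_pow_right one_lt_two (by omega))
    rw [finsum_eq_sum_of_fintype, finsum_eq_sum_of_fintype] at hkey
    have hfne : frattini P ≠ ⊤ := by
      intro h
      have h2 := (card_maximal_modEq hG (by omega) hnc).2
      rw [h, Subgroup.index_top, Nat.log_one_right] at h2
      omega
    have hw : (Nat.card {M : Subgroup P // M.index = 2} : ZMod 4) = 1 + 2 *
        (Nat.card {L : Subgroup P // L.index = 2 ^ 2 ∧ frattini P ≤ L} : ZMod 4) := by
      rw [← Nat.card_congr (Equiv.subtypeEquivRight (p := fun M : Subgroup P => M.index = 2 ∧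
        frattini P ≤ M) fun M => ⟨fun h => h.1, fun h => ⟨h, frattini_le_of_index (p := 2) M h⟩⟩)]
      exact weight (p := 2) hP (frattini P) le_rfl hfne
    have hL : 2 * (∑ L : {L : Subgroup P // L.index = 2 ^ 2 ∧ frattini P ≤ L},
        (cnt L.1 (2 ^ a) : ZMod 4)) = 2 := by
      rw [Finset.mul_sum]
      have hterm : ∀ L : {L : Subgroup P // L.index = 2 ^ 2 ∧ frattini P ≤ L},
          (2 : ZMod 4) * (cnt L.1 (2 ^ a) : ZMod 4) = 2 := by
        intro L
        have hLc : Nat.card L.1 = 2 ^ (n - 1) := by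
          have h3 := L.1.card_mul_index
          rw [hG, L.2.1, show n + 1 = (n - 1) + 2 by omega, pow_add] at h3
          exact Nat.eq_of_mul_eq_mul_right (by norm_num) h3
        have h4 : cnt L.1 (2 ^ a) ≡ 1 [MOD 2] :=
          card_subgroups_modEq_one (G := L.1) Nat.prime_two (hLc ▸ pow_dvd_pow 2 (by omega))
        have h5 : 2 * cnt L.1 (2 ^ a) ≡ 2 [MOD 4] := h4.mul_left' 2
        rw [← ZMod.natCast_eq_natCast_iff] at h5
        exact_mod_cast h5
      rw [Finset.sum_congr rfl fun L _ => hterm L, Finset.sum_const, Finset.card_univ,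
        ← Nat.card_eq_fintype_card, nsmul_eq_mul]
      rw [hmax] at hw
      linear_combination -hw
    rw [hL] at hkey
    -- the exceptional maximal subgroups are even in number
    obtain ⟨E, hEev, hE1, hE3⟩ : ∃ E : Subgroup P → Prop,
        Even (Nat.card {M : Subgroup P // M.index = 2 ∧ E M}) ∧
        (∀ M : Subgroup P, M.index = 2 → E M → (cnt M (2 ^ a) : ZMod 4) = 1) ∧
        ∀ M : Subgroup P, M.index = 2 → ¬ E M → (cnt M (2 ^ a) : ZMod 4) = 3 := by
      have hcy : ∀ M : Subgroup P, M.index = 2 → IsCyclic M → (cnt M (2 ^ a) : ZMod 4) = 1 :=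
        fun M hM _ => by rw [cnt_cyclic (hMc M hM ▸ pow_dvd_pow 2 (by omega)), Nat.cast_one]
      have hmcl : ∀ M : Subgroup P, M.index = 2 → MaxCl M →
          (cnt M (2 ^ a) : ZMod 4) = if a + 1 = n then 3 else 1 := by
        intro M hM h
        have h3 := three_le_exp (hMc M hM) h
        obtain ⟨m, rfl⟩ : ∃ m, n = m + 3 := ⟨n - 3, by omega⟩
        rw [cnt_maxCl m (hMc M hM) h a ha1 (by omega)]
        exact if_congr (by omega) rfl rfl
      obtain ⟨m, rfl⟩ : ∃ m, n = m + 2 := ⟨n - 2, by omega⟩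
      by_cases htop : a + 1 = m + 2
      · refine ⟨fun M => IsCyclic M, even_cyclic_maximal hG hnc hmc, hcy, fun M hM hne => ?_⟩
        by_cases h : MaxCl M
        · rw [hmcl M hM h, if_pos htop]
        · exact ih (hMc M hM) hne h a ha1 (by omega)
      · refine ⟨fun M => IsCyclic M ∨ MaxCl M, ?_, fun M hM h => ?_, fun M hM hne => ?_⟩
        · have e : Nat.card {M : Subgroup P // M.index = 2 ∧ (IsCyclic M ∨ MaxCl M)} =
              Nat.card {M : Subgroup P // M.index = 2 ∧ IsCyclic M} +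
                Nat.card {M : Subgroup P // M.index = 2 ∧ MaxCl M} := by
            rw [← Nat.card_sum]
            refine Nat.card_congr
              { toFun := fun M => if h : IsCyclic M.1 then Sum.inl ⟨M.1, M.2.1, h⟩
                  else Sum.inr ⟨M.1, M.2.1, M.2.2.resolve_left h⟩
                invFun := Sum.elim (fun M => ⟨M.1, M.2.1, Or.inl M.2.2⟩)
                  fun M => ⟨M.1, M.2.1, Or.inr M.2.2⟩
                left_inv := fun M => by by_cases h : IsCyclic M.1 <;> simp [h]
                right_inv := fun M => by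
                  rcases M with M | M
                  · exact dif_pos M.2.2
                  · exact dif_neg M.2.2.not_isCyclic }
          rw [e]
          exact (even_cyclic_maximal hG hnc hmc).add (even_maxCl_maximal (n := m + 2) hG hmc)
        · rcases h with h | h
          · exact hcy M hM h
          · rw [hmcl M hM h, if_neg htop]
        · rw [not_or] at hne
          exact ih (hMc M hM) hne.1 hne.2 a ha1 (by omega)
    have hsum : (∑ M : {M : Subgroup P // M.index = 2}, (cnt M.1 (2 ^ a) : ZMod 4)) =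
        3 * (Nat.card {M : Subgroup P // M.index = 2} : ZMod 4) -
          2 * (Nat.card {M : Subgroup P // M.index = 2 ∧ E M} : ZMod 4) := by
      rw [Finset.sum_congr rfl fun (M : {M : Subgroup P // M.index = 2}) _ =>
        show (cnt M.1 (2 ^ a) : ZMod 4) = 3 - (if E M.1 then 2 else 0) by
          split
          · rename_i h; rw [hE1 M.1 M.2 h]; decide
          · rename_i h; rw [hE3 M.1 M.2 h, sub_zero],
        Finset.sum_sub_distrib, Finset.sum_const, Finset.card_univ, ← Nat.card_eq_fintype_card,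
        nsmul_eq_mul, Finset.sum_ite, Finset.sum_const, Finset.sum_const_zero, add_zero,
        nsmul_eq_mul, ← Nat.card_congr (Equiv.subtypeSubtypeEquivSubtypeInter _ E),
        Nat.card_eq_fintype_card (α := {x : {M : Subgroup P // M.index = 2} // E x.1}),
        Fintype.card_subtype]
      ring
    obtain ⟨w, hw2⟩ := hEev
    rw [hsum, hmax, hw2, Nat.cast_add] at hkey
    have h40 : (4 : ZMod 4) = 0 := by decide
    linear_combination hkey + (1 - (w : ZMod 4)) * h40

end Cfsg.Agent.GroupStructure3.KulakoffTwo
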