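import Mathlib
import Cfsg.Agent.SolvStruct.TwoPrimes

/-!
Hall's theorem: a finite group all whose maximal subgroups have index a prime or the square of a
prime is solvable.
-/

set_option autoImplicit false

namespace Cfsg.Agent.GroupStructure3.MaximalIndex

universe u

/-- A subgroup over a Sylow normalizer has index `1` modulo `p`. -/
theorem index_modEq_one {X : Type*} [Group X] [Finite X] {p : ℕ} [Fact p.Prime] (P : Sylow p X)
    {L : Subgroup X} (hL : Subgroup.normalizer ((P : Subgroup X) : Set X) ≤ L) :
    L.index ≡ 1 [MOD p] := by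
  have hPL : (P : Subgroup X) ≤ L := Subgroup.le_normalizer.trans hL
  have h1 : Nat.card (Sylow p X) = (Subgroup.normalizer ((P : Subgroup X) : Set X)).index :=
    P.card_eq_index_normalizer
  have h2 := (P.subtype hPL).card_eq_index_normalizer
  change Nat.card _ = (Subgroup.normalizer (((P : Subgroup X).subgroupOf L : Subgroup L) : Set L)).index at h2
  rw [← Subgroup.subgroupOf_normalizer_eq hPL] at h2
  change Nat.card (Sylow p L) = (Subgroup.normalizer ((P : Subgroup X) : Set X)).relIndex L at h2
  rw [← Subgroup.relIndex_mul_index hL, ← h2] at h1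
  have h3 : Nat.card (Sylow p X) ≡ 1 [MOD p] := card_sylow_modEq_one p X
  have h4 : Nat.card (Sylow p L) ≡ 1 [MOD p] := card_sylow_modEq_one p L
  rw [h1] at h3
  have h5 := (h4.mul_right L.index).symm.trans h3
  rwa [one_mul] at h5

theorem solvable : ∀ (n : ℕ) {G : Type u} [Group G] [Finite G], Nat.card G = n →
    (∀ M : Subgroup G, IsCoatom M → ∃ p : ℕ, p.Prime ∧ (M.index = p ∨ M.index = p ^ 2)) →
    Group.IsSolvable G := by
  intro n
  induction n using Nat.strong_induction_on with
  | _ n ih =>
    intro G _ _ hn h
    classical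
    rcases subsingleton_or_nontrivial G with hs | hs
    · exact Group.isSolvable_of_comm fun a b => Subsingleton.elim _ _
    -- a minimal normal subgroup
    obtain ⟨N, ⟨hNn, hNb⟩, hmin⟩ :=
      (Set.toFinite {N : Subgroup G | N.Normal ∧ N ≠ ⊥}).exists_minimalFor id _
        ⟨⊤, inferInstance, bot_ne_top.symm⟩
    haveI := hNn
    have hQ : Group.IsSolvable (G ⧸ N) := by
      refine ih _ ?_ rfl ?_
      · rw [← hn, Subgroup.card_eq_card_quotient_mul_card_subgroup N]
        exact lt_mul_of_one_lt_right Nat.card_pos (Subgroup.one_lt_card_iff_ne_bot N |>.mpr hNb)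
      · intro M hM
        obtain ⟨p, hp, hpi⟩ := h _ (Subgroup.isCoatom_comap_of_surjective
          (QuotientGroup.mk'_surjective N) hM)
        rw [M.index_comap_of_surjective (QuotientGroup.mk'_surjective N)] at hpi
        exact ⟨p, hp, hpi⟩
    suffices hN : Group.IsSolvable N from
      Group.isSolvable_of_ker_le_range N.subtype (QuotientGroup.mk' N)
        (by rw [QuotientGroup.ker_mk', Subgroup.range_subtype])
    -- the largest prime divisor of `|N|`
    have hN1 : Nat.card N ≠ 1 := fun h1 => hNb (Subgroup.eq_bot_of_card_eq _ h1)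
    obtain ⟨q, hq, hqN⟩ := Nat.exists_prime_and_dvd hN1
    obtain ⟨p, hpmem, hpmax⟩ := ((Nat.card N).primeFactors).exists_max_image id
      ⟨q, Nat.mem_primeFactors.mpr ⟨hq, hqN, Nat.card_pos.ne'⟩⟩
    have hp := (Nat.mem_primeFactors.mp hpmem).1
    haveI := Fact.mk hp
    obtain ⟨P⟩ := (inferInstance : Nonempty (Sylow p N))
    have hfr := Sylow.normalizer_sup_eq_top P
    set R := (P : Subgroup N).map N.subtype with hR
    by_cases htop : Subgroup.normalizer (R : Set G) = ⊤
    · -- `P` is normal, so `N = P`
      have hRn : R.Normal := Subgroup.normalizer_eq_top_iff.mp htop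
      have hRb : R ≠ ⊥ := by
        intro hb
        have h1 : (P : Subgroup N) = ⊥ :=
          (Subgroup.map_eq_bot_iff_of_injective _ N.subtype_injective).mp hb
        exact P.ne_bot_of_dvd_card (Nat.mem_primeFactors.mp hpmem).2.1 h1
      have h2 : N ≤ R := hmin ⟨hRn, hRb⟩ (Subgroup.map_subtype_le _)
      have hNp : IsPGroup p N := by
        have : (R : Subgroup G) = N := le_antisymm (Subgroup.map_subtype_le _) h2
        exact this ▸ P.2.map N.subtype
      haveI := hNp.isNilpotent
      infer_instance
    obtain ⟨M, hM, hle⟩ := (eq_top_or_exists_le_coatom _).resolve_left htop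
    have hNM : ¬ N ≤ M := fun hc => hM.1 (top_le_iff.mp (hfr ▸ sup_le hle hc))
    have hMN : M ⊔ N = ⊤ := hM.2 _ (left_lt_sup.mpr hNM)
    -- the index of `M` seen in `N`
    have hidx : (M.subgroupOf N).index = M.index := by
      change M.relIndex N = M.index
      have e0 : N.relIndex M = N.index := by
        rw [← Subgroup.relIndex_sup_right, hMN, Subgroup.relIndex_top_right]
      have e1 := Subgroup.relIndex_mul_index (inf_le_left : M ⊓ N ≤ M)
      have e2 := Subgroup.relIndex_mul_index (inf_le_right : M ⊓ N ≤ N)
      rw [Subgroup.inf_relIndex_left, e0] at e1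
      rw [Subgroup.inf_relIndex_right, ← e1, mul_comm N.index] at e2
      exact Nat.eq_of_mul_eq_mul_right (Nat.pos_of_ne_zero N.index_ne_zero_of_finite) e2
    have hmod : M.index ≡ 1 [MOD p] := by
      rw [← hidx]
      refine index_modEq_one P fun x hx => ?_
      rw [Subgroup.mem_subgroupOf]
      exact hle (Subgroup.le_normalizer_map N.subtype ⟨x, hx, rfl⟩)
    obtain ⟨r, hr, hri⟩ := h M hM
    have hrp : r ≤ p := by
      refine hpmax r (Nat.mem_primeFactors.mpr ⟨hr, ?_, Nat.card_pos.ne'⟩)
      refine Dvd.dvd.trans ?_ (Subgroup.index_dvd_card (M.subgroupOf N))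
      rw [hidx]
      rcases hri with e | e <;> rw [e]
      exact dvd_pow_self r two_ne_zero
    have h2 := hr.two_le
    have hfour : M.index = 4 := by
      rcases hri with e | e
      · rw [e, Nat.ModEq, Nat.one_mod_eq_one.mpr hp.ne_one] at hmod
        rcases hrp.lt_or_eq with hlt | rfl
        · rw [Nat.mod_eq_of_lt hlt] at hmod; omega
        · simp at hmod
      · rw [e] at hmod
        have h3 : p ∣ (r - 1) * (r + 1) := by
          have h4 := (Nat.modEq_iff_dvd' (Nat.one_le_pow _ _ hr.pos)).mp hmod.symm
          rwa [show (r - 1) * (r + 1) = r ^ 2 - 1 by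
            rw [mul_comm, ← Nat.sq_sub_sq, one_pow]]
        rcases hp.dvd_mul.mp h3 with h4 | h4
        · have := Nat.le_of_dvd (by omega) h4; omega
        · have h5 := Nat.le_of_dvd (by omega) h4
          have hr2 : r = 2 := by
            rcases hr.eq_two_or_odd with h6 | h6
            · exact h6
            · rcases hp.eq_two_or_odd with h7 | h7
              · omega
              · rcases hrp.lt_or_eq with hlt | rfl
                · omega
                · have h8 : r ∣ 1 := (Nat.dvd_add_right dvd_rfl).mp h4
                  exact absurd (Nat.dvd_one.mp h8) hr.ne_one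
          rw [e, hr2]; norm_num
    -- `N` embeds in the symmetric group of degree four
    let f := (MulAction.toPermHom G (G ⧸ M)).comp N.subtype
    have hker : f.ker = ⊥ := by
      rw [eq_bot_iff]
      intro x hx
      have h3 : N ⊓ M.normalCore = ⊥ := by
        by_contra hne
        exact hNM ((hmin ⟨inferInstance, hne⟩ inf_le_left).trans
          (inf_le_right.trans M.normalCore_le))
      have h4 : (x : G) ∈ N ⊓ M.normalCore := ⟨x.2, by rw [Subgroup.normalCore_eq_ker]; exact hx⟩
      rw [h3, Subgroup.mem_bot] at h4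
      exact Subtype.ext h4
    refine SolvStruct.isSolvable_of_primeFactors_card_le_two ?_
    have h24 : Nat.card N ∣ 24 := by
      have h5 := Subgroup.card_dvd_of_injective f ((MonoidHom.ker_eq_bot_iff f).mp hker)
      rwa [Nat.card_perm, ← Subgroup.index_eq_card, hfour] at h5
    refine (Finset.card_le_card (Nat.primeFactors_mono h24 (by norm_num))).trans ?_
    have : (24 : ℕ).primeFactors ⊆ {2, 3} := by
      intro r hr
      obtain ⟨h6, h7, -⟩ := Nat.mem_primeFactors.mp hr
      have h8 : r ∣ 2 ^ 3 * 3 := h7
      rcases h6.dvd_mul.mp h8 with h9 | h9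
      · simp [(Nat.prime_dvd_prime_iff_eq h6 Nat.prime_two).mp (h6.dvd_of_dvd_pow h9)]
      · simp [(Nat.prime_dvd_prime_iff_eq h6 Nat.prime_three).mp h9]
    exact (Finset.card_le_card this).trans (by simp)

end Cfsg.Agent.GroupStructure3.MaximalIndex
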