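import Mathlib
import Cfsg.Prelude.Def_CaseTheorems
import Cfsg.Prelude.Def_OddOrderLocal
import Cfsg.Agent.Lib.Coprime.PGroup
import Cfsg.Agent.Lib.Cores.Nilpotent
import Cfsg.Agent.GroupStructure3.FrattiniAut

/-!
A `2`-group of sectional rank at most two is metacyclic.
-/

set_option autoImplicit false
set_option linter.unusedSectionVars false

namespace Cfsg.Agent.GroupStructure3.MetacyclicRankTwo

open scoped commutatorElement
open Subgroup

universe u

theorem prank_of_equiv {p k : ℕ} {G H : Type*} [Group G] [Group H] (e : G ≃* H)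
    (h : Cfsg.PRankLE p k H) : Cfsg.PRankLE p k G := by
  intro A hA hpow
  haveI := hA
  have hA' : IsMulCommutative (A.map e.toMonoidHom) := by
    refine ⟨⟨fun ⟨x, hx⟩ ⟨y, hy⟩ => ?_⟩⟩
    obtain ⟨a, ha, rfl⟩ := mem_map.mp hx
    obtain ⟨b, hb, rfl⟩ := mem_map.mp hy
    have hab : a * b = b * a :=
      congrArg Subtype.val (hA.is_comm.comm (⟨a, ha⟩ : A) ⟨b, hb⟩)
    exact Subtype.ext (by simp only [Subgroup.coe_mul, ← map_mul, hab])
  rw [Nat.card_congr (A.equivMapOfInjective e.toMonoidHom e.injective).toEquiv]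
  refine h _ hA' ?_
  intro a ha
  obtain ⟨b, hb, rfl⟩ := mem_map.mp ha
  rw [← map_pow, hpow b hb, map_one]

theorem sectional_quotient {p k : ℕ} {G : Type*} [Group G] (N : Subgroup G) [N.Normal]
    (h : Cfsg.SectionalPRankLE p k G) : Cfsg.SectionalPRankLE p k (G ⧸ N) := by
  intro H M _
  let H' := H.comap (QuotientGroup.mk' N)
  let f : H' →* H ⧸ M := (QuotientGroup.mk' M).comp
    (((QuotientGroup.mk' N).comp H'.subtype).codRestrict H fun x => x.2)
  have hf : Function.Surjective f := by
    intro y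
    obtain ⟨⟨y, hy⟩, rfl⟩ := QuotientGroup.mk'_surjective M y
    obtain ⟨g, rfl⟩ := QuotientGroup.mk'_surjective N y
    exact ⟨⟨g, hy⟩, rfl⟩
  exact prank_of_equiv (QuotientGroup.quotientKerEquivOfSurjective f hf).symm (h H' f.ker)

variable {G : Type*} [Group G] [Finite G]

/-- Three commuting elements satisfy a relation with some exponent odd. -/
theorem relation (hr : Cfsg.SectionalPRankLE 2 2 G) {p q r : G} (hpq : Commute p q)
    (hpr : Commute p r) (hqr : Commute q r) :
    ∃ i j k : ℤ, (¬ (2 : ℤ) ∣ i ∨ ¬ (2 : ℤ) ∣ j ∨ ¬ (2 : ℤ) ∣ k) ∧ p ^ i * q ^ j * r ^ k = 1 := by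
  let A : Subgroup G :=
    { carrier := {g | ∃ i j k : ℤ, g = p ^ i * q ^ j * r ^ k}
      one_mem' := ⟨0, 0, 0, by simp⟩
      mul_mem' := by
        rintro _ _ ⟨i, j, k, rfl⟩ ⟨i', j', k', rfl⟩
        refine ⟨i + i', j + j', k + k', ?_⟩
        rw [zpow_add, zpow_add, zpow_add]
        calc p ^ i * q ^ j * r ^ k * (p ^ i' * q ^ j' * r ^ k')
            = p ^ i * q ^ j * (r ^ k * p ^ i') * q ^ j' * r ^ k' := by group
          _ = p ^ i * (q ^ j * p ^ i') * (r ^ k * q ^ j') * r ^ k' := by
            rw [(hpr.symm.zpow_zpow k i').eq]; group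
          _ = _ := by rw [(hpq.symm.zpow_zpow j i').eq, (hqr.symm.zpow_zpow k j').eq]; group
      inv_mem' := by
        rintro _ ⟨i, j, k, rfl⟩
        refine ⟨-i, -j, -k, ?_⟩
        rw [mul_inv_rev, mul_inv_rev, ← zpow_neg, ← zpow_neg, ← zpow_neg]
        rw [(hpq.symm.zpow_zpow (-j) (-i)).eq, ← mul_assoc, (hpr.symm.zpow_zpow (-k) (-i)).eq,
          mul_assoc, (hqr.symm.zpow_zpow (-k) (-j)).eq, ← mul_assoc] }
  have hcomm : ∀ a b : A, a * b = b * a := by
    rintro ⟨_, i, j, k, rfl⟩ ⟨_, i', j', k', rfl⟩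
    refine Subtype.ext ?_
    show p ^ i * q ^ j * r ^ k * (p ^ i' * q ^ j' * r ^ k') =
      p ^ i' * q ^ j' * r ^ k' * (p ^ i * q ^ j * r ^ k)
    have hp' : ∀ i : ℤ, ∀ g : G, Commute p g → Commute (p ^ i) g := fun i g h => h.zpow_left i
    exact (((Commute.zpow_zpow_self p i i').mul_right (hpq.zpow_zpow i j')).mul_right
        (hpr.zpow_zpow i k')).mul_left
      (((hpq.symm.zpow_zpow j i').mul_right (Commute.zpow_zpow_self q j j')).mul_right
        (hqr.zpow_zpow j k'))
      |>.mul_left (((hpr.symm.zpow_zpow k i').mul_right (hqr.symm.zpow_zpow k j')).mul_right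
        (Commute.zpow_zpow_self r k k')) |>.eq
  letI : CommGroup A := { (inferInstance : Group A) with mul_comm := hcomm }
  let sqh : A →* A := powMonoidHom 2
  have hcard : Nat.card (A ⧸ sqh.range) ≤ 4 := by
    have h := hr A sqh.range ⊤ ⟨⟨fun a b => Subtype.ext (mul_comm _ _)⟩⟩ (fun a _ => by
      induction a using QuotientGroup.induction_on with
      | _ a => exact (QuotientGroup.eq_one_iff _).mpr ⟨a, rfl⟩)
    simpa using h
  have hmem : ∀ e : Fin 2 × Fin 2 × Fin 2,
      p ^ ((e.1 : ℕ) : ℤ) * q ^ ((e.2.1 : ℕ) : ℤ) * r ^ ((e.2.2 : ℕ) : ℤ) ∈ A := fun e =>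
    ⟨_, _, _, rfl⟩
  let f : Fin 2 × Fin 2 × Fin 2 → A ⧸ sqh.range := fun e => QuotientGroup.mk ⟨_, hmem e⟩
  have hninj : ¬ Function.Injective f := fun h => by
    have := Nat.card_le_card_of_injective f h
    simp at this
    omega
  obtain ⟨e, e', hee, hne⟩ := Function.not_injective_iff.mp hninj
  obtain ⟨⟨_, i, j, k, rfl⟩, hs⟩ := QuotientGroup.eq.mp hee
  have hs' : (p ^ i * q ^ j * r ^ k) ^ 2 =
      (p ^ ((e.1 : ℕ) : ℤ) * q ^ ((e.2.1 : ℕ) : ℤ) * r ^ ((e.2.2 : ℕ) : ℤ))⁻¹ *
        (p ^ ((e'.1 : ℕ) : ℤ) * q ^ ((e'.2.1 : ℕ) : ℤ) * r ^ ((e'.2.2 : ℕ) : ℤ)) :=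
    congrArg Subtype.val hs
  have hadd : ∀ i j k i' j' k' : ℤ, p ^ i * q ^ j * r ^ k * (p ^ i' * q ^ j' * r ^ k') =
      p ^ (i + i') * q ^ (j + j') * r ^ (k + k') := by
    intro i j k i' j' k'
    rw [zpow_add, zpow_add, zpow_add]
    calc p ^ i * q ^ j * r ^ k * (p ^ i' * q ^ j' * r ^ k')
        = p ^ i * q ^ j * (r ^ k * p ^ i') * q ^ j' * r ^ k' := by group
      _ = p ^ i * (q ^ j * p ^ i') * (r ^ k * q ^ j') * r ^ k' := by
        rw [(hpr.symm.zpow_zpow k i').eq]; group
      _ = _ := by rw [(hpq.symm.zpow_zpow j i').eq, (hqr.symm.zpow_zpow k j').eq]; group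
  refine ⟨e.1 + (i + i) - e'.1, e.2.1 + (j + j) - e'.2.1, e.2.2 + (k + k) - e'.2.2, ?_, ?_⟩
  · by_contra hc
    simp only [not_or, not_not] at hc
    refine hne ?_
    have h1 := e.1.isLt
    have h2 := e.2.1.isLt
    have h3 := e.2.2.isLt
    have h1' := e'.1.isLt
    have h2' := e'.2.1.isLt
    have h3' := e'.2.2.isLt
    refine Prod.ext (Fin.ext ?_) (Prod.ext (Fin.ext ?_) (Fin.ext ?_)) <;> omega
  · rw [sq, hadd] at hs'
    obtain ⟨E, hE⟩ : ∃ E, E = p ^ ((e.1 : ℕ) : ℤ) * q ^ ((e.2.1 : ℕ) : ℤ) * r ^ ((e.2.2 : ℕ) : ℤ) :=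
      ⟨_, rfl⟩
    rw [← hE] at hs'
    have h2 := congrArg (fun g => E * g) hs'
    simp only [mul_inv_cancel_left] at h2
    rw [hE, hadd] at h2
    have h3 : p ^ (((e.1 : ℕ) : ℤ) + (i + i)) * q ^ (((e.2.1 : ℕ) : ℤ) + (j + j)) *
        r ^ (((e.2.2 : ℕ) : ℤ) + (k + k)) * (p ^ (-((e'.1 : ℕ) : ℤ)) * q ^ (-((e'.2.1 : ℕ) : ℤ)) *
          r ^ (-((e'.2.2 : ℕ) : ℤ))) = 1 := by
      rw [h2, hadd]; simp
    rw [hadd] at h3
    simpa [sub_eq_add_neg] using h3

theorem zpow_odd_gen (h2 : IsPGroup 2 G) {g : G} {i : ℤ} (hi : ¬ (2 : ℤ) ∣ i) :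
    g ∈ zpowers (g ^ i) := by
  obtain ⟨k, hk⟩ := h2 g
  obtain ⟨u, v, huv⟩ : IsCoprime i ((2 : ℤ) ^ k) :=
    ((Int.prime_two.coprime_iff_not_dvd).mpr hi).symm.pow_right
  refine mem_zpowers_iff.mpr ⟨u, ?_⟩
  have h1 : g ^ ((2 : ℤ) ^ k) = 1 := by
    rw [show ((2 : ℤ) ^ k) = ((2 ^ k : ℕ) : ℤ) by push_cast; rfl, zpow_natCast, hk]
  rw [← zpow_mul]
  calc g ^ (i * u) = g ^ (i * u) * (g ^ ((2 : ℤ) ^ k)) ^ v := by rw [h1, one_zpow, mul_one]
    _ = g := by
      rw [← zpow_mul, ← zpow_add, show i * u + 2 ^ k * v = 1 by linarith, zpow_one]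

theorem metacyclic_of_gen {x y z : G} (hz : ∀ g, Commute g z) (hxy : ⁅x, y⁆ ∈ zpowers z)
    (hzx : z ∈ zpowers x) (hgen : closure {x, y} = ⊤) : Cfsg.IsMetacyclic G := by
  have hn : (zpowers x).Normal := by
    refine normalizer_eq_top_iff.mp (top_le_iff.mp ?_)
    rw [← hgen, closure_le]
    have key : y * x * y⁻¹ ∈ zpowers x := by
      have : ⁅x, y⁆ ∈ zpowers x := zpowers_le.mpr hzx hxy
      have h2 := mul_mem (inv_mem this) (mem_zpowers x)
      rwa [show (⁅x, y⁆)⁻¹ * x = y * x * y⁻¹ by rw [commutatorElement_def]; group] at h2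
    rintro g (rfl | rfl)
    · exact le_normalizer (mem_zpowers g)
    · refine mem_normalizer_fintype (S := (zpowers x : Set G)) ?_
      intro n hn
      obtain ⟨i, rfl⟩ := mem_zpowers_iff.mp hn
      rw [← conj_zpow]
      exact zpow_mem key i
  refine ⟨zpowers x, hn, isCyclic_zpowers x, ⟨QuotientGroup.mk y, fun g => ?_⟩⟩
  induction g using QuotientGroup.induction_on with
  | _ g =>
    have : g ∈ (zpowers (QuotientGroup.mk y : G ⧸ zpowers x)).comap (QuotientGroup.mk' _) := by
      have hle : closure {x, y} ≤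
          (zpowers (QuotientGroup.mk y : G ⧸ zpowers x)).comap (QuotientGroup.mk' _) := by
        rw [closure_le]
        rintro w (rfl | rfl)
        · refine mem_comap.mpr ?_
          rw [QuotientGroup.mk'_apply, (QuotientGroup.eq_one_iff _).mpr (mem_zpowers w)]
          exact one_mem _
        · exact mem_comap.mpr (mem_zpowers _)
      exact hle (hgen ▸ mem_top g)
    exact mem_zpowers_iff.mp (mem_comap.mp this)

theorem class_two (h2 : IsPGroup 2 G) (hr : Cfsg.SectionalPRankLE 2 2 G) {a b z : G}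
    (hgen : closure {a, b} = ⊤) (hz : ∀ g, Commute g z) (hzz : z * z = 1) (hz1 : z ≠ 1)
    (hba : ⁅b, a⁆ = z) : Cfsg.IsMetacyclic G := by
  have hzinv : z⁻¹ = z := inv_eq_of_mul_eq_one_left hzz
  have hzpow : ∀ i : ℤ, ¬ (2 : ℤ) ∣ i → z ^ i = z := by
    intro i hi
    obtain ⟨k, rfl⟩ : ∃ k, i = 2 * k + 1 := ⟨i / 2, by omega⟩
    rw [zpow_add, zpow_mul, zpow_two, hzz, one_zpow, one_mul, zpow_one]
  have hzpow' : ∀ i : ℤ, (2 : ℤ) ∣ i → z ^ i = 1 := by
    rintro _ ⟨k, rfl⟩
    rw [zpow_mul, zpow_two, hzz, one_zpow]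
  -- `b aⁱ = zⁱ aⁱ b`
  have hswap : ∀ i j : ℤ, b ^ j * a ^ i = z ^ (i * j) * (a ^ i * b ^ j) := by
    have h1 : ∀ i : ℤ, b * a ^ i * b⁻¹ = z ^ i * a ^ i := by
      intro i
      rw [← conj_zpow, show b * a * b⁻¹ = z * a by rw [← hba, commutatorElement_def]; group,
        ((hz a).symm).mul_zpow]
    intro i j
    have h3 : (a ^ i)⁻¹ * b * a ^ i = z ^ i * b := by
      have h := h1 i
      calc (a ^ i)⁻¹ * b * a ^ i = (a ^ i)⁻¹ * (b * a ^ i * b⁻¹) * b := by group
        _ = (a ^ i)⁻¹ * (z ^ i * a ^ i) * b := by rw [h]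
        _ = _ := by rw [((hz (a ^ i)).symm.zpow_left i).eq]; group
    have h4 : (a ^ i)⁻¹ * b ^ j * a ^ i = z ^ (i * j) * b ^ j := by
      have := congrArg (fun g => g ^ j) h3
      simp only [((hz b).symm.zpow_left i).mul_zpow, ← zpow_mul] at this
      rw [← this, show (a ^ i)⁻¹ * b * a ^ i = (a ^ i)⁻¹ * b * ((a ^ i)⁻¹)⁻¹ by rw [inv_inv],
        conj_zpow, inv_inv]
    calc b ^ j * a ^ i = a ^ i * ((a ^ i)⁻¹ * b ^ j * a ^ i) := by group
      _ = _ := by rw [h4, ← mul_assoc, ((hz (a ^ i)).zpow_right (i * j)).eq, mul_assoc]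
  have hsq : ∀ u w : ℤ, (a ^ u * b ^ w) ^ (2 : ℤ) = a ^ (2 * u) * b ^ (2 * w) * z ^ (u * w) := by
    intro u w
    rw [zpow_two, show a ^ u * b ^ w * (a ^ u * b ^ w) = a ^ u * (b ^ w * a ^ u) * b ^ w by group,
      hswap, show a ^ u * (z ^ (u * w) * (a ^ u * b ^ w)) * b ^ w =
        (a ^ u * z ^ (u * w)) * (a ^ u * b ^ w * b ^ w) by group,
      ((hz (a ^ u)).zpow_right (u * w)).eq,
      show z ^ (u * w) * a ^ u * (a ^ u * b ^ w * b ^ w) =
        z ^ (u * w) * ((a ^ u * a ^ u) * (b ^ w * b ^ w)) by group,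
      ← zpow_add, ← zpow_add, ← two_mul, ← two_mul]
    exact (((hz _).zpow_right _).symm).eq
  have hab2 : ∀ u w : ℤ, Commute (a ^ (2 * u)) (b ^ w) := by
    intro u w
    have := hswap (2 * u) w
    rw [hzpow' _ ⟨u * w, by ring⟩, one_mul] at this
    exact this.symm
  have hb2a : ∀ w : ℤ, Commute a (b ^ (2 * w)) := by
    intro w
    have := hswap 1 (2 * w)
    rw [zpow_one, hzpow' _ ⟨w, by ring⟩, one_mul] at this
    exact this.symm
  -- involution with a partner
  have hinv : ∀ x y : G, x * x = 1 → closure {x, y} = ⊤ → ⁅x, y⁆ = z →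
      Cfsg.IsMetacyclic G := by
    intro x y hxx hxy hc
    have hxy' : x * y = z * (y * x) := by rw [← hc, commutatorElement_def]; group
    have hcy : Commute (y * y) x := by
      show y * y * x = x * (y * y)
      symm
      calc x * (y * y) = (x * y) * y := by group
        _ = z * (y * x) * y := by rw [hxy']
        _ = z * (y * (x * y)) := by group
        _ = z * (y * (z * (y * x))) := by rw [hxy']
        _ = z * ((y * z) * (y * x)) := by group
        _ = z * ((z * y) * (y * x)) := by rw [(hz y).eq]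
        _ = y * y * x := by rw [← mul_assoc z, ← mul_assoc z z, hzz, one_mul]; group
    obtain ⟨i, j, k, hodd, he⟩ := relation hr hcy ((hz _)) (hz x)
    by_cases hj : (2 : ℤ) ∣ j
    · obtain ⟨j, rfl⟩ := hj
      rw [zpow_mul, show x ^ (2 : ℤ) = 1 by rw [zpow_two]; exact hxx, one_zpow, mul_one] at he
      by_cases hk : (2 : ℤ) ∣ k
      · rw [hzpow' k hk, mul_one] at he
        have hi : ¬ (2 : ℤ) ∣ i := by
          rcases hodd with h | h | h
          · exact h
          · exact absurd (dvd_mul_right 2 j) h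
          · exact absurd hk h
        have hyy : y * y = 1 := by
          have := zpow_odd_gen h2 (g := y * y) hi
          rw [he, zpowers_one_eq_bot, mem_bot] at this
          exact this
        refine metacyclic_of_gen hz (x := x * y) (y := y) ?_ ?_ ?_
        · refine mem_zpowers_iff.mpr ⟨1, ?_⟩
          rw [zpow_one, show ⁅x * y, y⁆ = x * y * x⁻¹ * y⁻¹ by
            rw [commutatorElement_def]; group, ← commutatorElement_def, hc]
        · refine mem_zpowers_iff.mpr ⟨2, ?_⟩
          rw [zpow_two, hxy', mul_assoc z, ← hxy',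
            show y * x * (x * y) = y * (x * x) * y by group, hxx, mul_one, hyy, mul_one]
        · rw [eq_top_iff, ← hxy, closure_le]
          rintro g (rfl | rfl)
          · have h3 : g * y ∈ closure ({g * y, y} : Set G) := subset_closure (by simp)
            have h4 : y ∈ closure ({g * y, y} : Set G) := subset_closure (by simp)
            simpa using mul_mem h3 (inv_mem h4)
          · exact subset_closure (by simp)
      · rw [hzpow k hk] at he
        refine metacyclic_of_gen hz (x := y) (y := x) ?_ ?_ (by rw [Set.pair_comm]; exact hxy)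
        · rw [← commutatorElement_inv, hc]; exact inv_mem (mem_zpowers z)
        · rw [← hzinv, show z⁻¹ = (y * y) ^ i from (eq_inv_of_mul_eq_one_left he).symm]
          exact zpow_mem (mul_mem (mem_zpowers y) (mem_zpowers y)) i
    · exfalso
      refine hz1 ?_
      have hx : x ^ j = x := by
        obtain ⟨m, rfl⟩ : ∃ m, j = 2 * m + 1 := ⟨j / 2, by omega⟩
        rw [zpow_add, zpow_mul, zpow_two, hxx, one_zpow, one_mul, zpow_one]
      rw [hx] at he
      have hx' : x = ((y * y) ^ i)⁻¹ * (z ^ k)⁻¹ := by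
        calc x = ((y * y) ^ i)⁻¹ * ((y * y) ^ i * x * z ^ k) * (z ^ k)⁻¹ := by group
          _ = _ := by rw [he, mul_one]
      have hcx : Commute x y := by
        rw [hx']
        exact (((Commute.refl y).mul_left (Commute.refl y)).zpow_left i).inv_left.mul_left
          ((hz y).symm.zpow_left k).inv_left
      rw [← hc, commutatorElement_eq_one_iff_commute]
      exact hcx
  have hmid : ∀ u w : ℤ, (¬ (2 : ℤ) ∣ u ∨ ¬ (2 : ℤ) ∣ w) → ∀ x, x = a ^ u * b ^ w →
      ∃ y, closure {x, y} = ⊤ ∧ ⁅x, y⁆ = z := by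
    intro u w huw x hx
    have hcom : ∀ i j i' j' : ℤ, ⁅a ^ i * b ^ j, a ^ i' * b ^ j'⁆ = z ^ (i' * j - i * j') := by
      intro i j i' j'
      have e1 : a ^ i * b ^ j * (a ^ i' * b ^ j') =
          z ^ (i' * j) * (a ^ (i + i') * b ^ (j + j')) := by
        calc a ^ i * b ^ j * (a ^ i' * b ^ j') = a ^ i * (b ^ j * a ^ i') * b ^ j' := by group
          _ = a ^ i * z ^ (i' * j) * (a ^ i' * b ^ j * b ^ j') := by rw [hswap]; group
          _ = _ := by rw [((hz (a ^ i)).zpow_right _).eq, zpow_add, zpow_add]; group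
      have e2 : a ^ i' * b ^ j' * (a ^ i * b ^ j) =
          z ^ (i * j') * (a ^ (i + i') * b ^ (j + j')) := by
        calc a ^ i' * b ^ j' * (a ^ i * b ^ j) = a ^ i' * (b ^ j' * a ^ i) * b ^ j := by group
          _ = a ^ i' * z ^ (i * j') * (a ^ i * b ^ j' * b ^ j) := by rw [hswap]; group
          _ = _ := by
            rw [((hz (a ^ i')).zpow_right _).eq, add_comm i, add_comm j, zpow_add, zpow_add]
            group
      rw [commutatorElement_def, mul_assoc _ (a ^ i * b ^ j)⁻¹, ← mul_inv_rev, e1, e2,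
        mul_inv_rev, ← mul_assoc, mul_inv_cancel_right, ← zpow_sub]
    rcases huw with hu | hw
    · refine ⟨b, ?_, ?_⟩
      · rw [eq_top_iff, ← hgen, closure_le]
        rintro g (rfl | rfl)
        · have h3 : x ∈ closure ({x, b} : Set G) := subset_closure (by simp)
          have h4 : b ∈ closure ({x, b} : Set G) := subset_closure (by simp)
          have h5 : g ^ u ∈ closure ({x, b} : Set G) := by
            have e : x * (b ^ w)⁻¹ = g ^ u := by rw [hx, mul_inv_cancel_right]
            exact e ▸ mul_mem h3 (inv_mem (zpow_mem h4 w))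
          exact zpowers_le.mpr h5 (zpow_odd_gen h2 hu)
        · exact subset_closure (by simp)
      · have e := hcom u w 0 1
        simp only [zpow_zero, one_mul, zpow_one] at e
        rw [hx, e]
        simp only [zero_mul, mul_one, zero_sub]
        rw [zpow_neg, hzpow u hu, hzinv]
    · refine ⟨a, ?_, ?_⟩
      · rw [eq_top_iff, ← hgen, closure_le]
        rintro g (rfl | rfl)
        · exact subset_closure (by simp)
        · have h3 : x ∈ closure ({x, a} : Set G) := subset_closure (by simp)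
          have h4 : a ∈ closure ({x, a} : Set G) := subset_closure (by simp)
          have h5 : g ^ w ∈ closure ({x, a} : Set G) := by
            have e : (a ^ u)⁻¹ * x = g ^ w := by rw [hx, inv_mul_cancel_left]
            exact e ▸ mul_mem (inv_mem (zpow_mem h4 u)) h3
          exact zpowers_le.mpr h5 (zpow_odd_gen h2 hw)
      · have e := hcom u w 1 0
        simp only [zpow_zero, mul_one, zpow_one] at e
        rw [hx, e]
        simp only [one_mul, mul_zero, sub_zero]
        exact hzpow w hw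
  have hfinish : ∀ u w : ℤ, (¬ (2 : ℤ) ∣ u ∨ ¬ (2 : ℤ) ∣ w) → ∀ s : ℕ,
      (a ^ (2 * u) * b ^ (2 * w) * z ^ (u * w)) ^ ((2 : ℤ) ^ s) = z →
      Cfsg.IsMetacyclic G := by
    intro u w huw s he
    obtain ⟨y, hy, hyc⟩ := hmid u w huw _ rfl
    refine metacyclic_of_gen hz (hyc.symm ▸ mem_zpowers z) ?_ hy
    rw [← hsq, ← zpow_mul] at he
    exact mem_zpowers_iff.mpr ⟨_, he⟩
  have hone : ∀ u w : ℤ, (¬ (2 : ℤ) ∣ u ∨ ¬ (2 : ℤ) ∣ w) →
      a ^ (2 * u) * b ^ (2 * w) * z ^ (u * w) = 1 → Cfsg.IsMetacyclic G := by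
    intro u w huw he
    obtain ⟨y, hy, hyc⟩ := hmid u w huw _ rfl
    refine hinv _ y ?_ hy hyc
    rw [← zpow_two, hsq, he]
  -- `z` as a square
  have hdesc : ∀ N : ℕ, ∀ u w : ℤ, u.natAbs + w.natAbs ≤ N → ∀ s : ℕ,
      (a ^ (2 * u) * b ^ (2 * w)) ^ ((2 : ℤ) ^ s) = z → Cfsg.IsMetacyclic G := by
    intro N
    induction N with
    | zero =>
      intro u w h s he
      obtain ⟨rfl, rfl⟩ : u = 0 ∧ w = 0 := ⟨by omega, by omega⟩
      simp at he
      exact absurd he.symm hz1
    | succ N ih =>
      intro u w h s he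
      by_cases huw : ¬ (2 : ℤ) ∣ u ∨ ¬ (2 : ℤ) ∣ w
      · rcases Nat.eq_zero_or_pos s with rfl | hs
        · rw [pow_zero, zpow_one] at he
          by_cases hp : (2 : ℤ) ∣ u * w
          · exact hfinish u w huw 0 (by rw [hzpow' _ hp, mul_one, pow_zero, zpow_one, he])
          · exact hone u w huw (by rw [hzpow _ hp, he, hzz])
        · refine hfinish u w huw s ?_
          rw [((hz _).zpow_right _).mul_zpow, he, ← zpow_mul,
            hzpow' _ (Dvd.dvd.mul_left (dvd_pow_self (2 : ℤ) (by omega)) _), mul_one]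
      · simp only [not_or, not_not] at huw
        obtain ⟨⟨u', rfl⟩, ⟨w', rfl⟩⟩ := huw
        by_cases h0 : u' = 0 ∧ w' = 0
        · obtain ⟨rfl, rfl⟩ := h0
          simp at he
          exact absurd he.symm hz1
        refine ih u' w' (by omega) (s + 1) ?_
        rw [pow_succ', zpow_mul, zpow_two]
        have hcc : Commute (a ^ (2 * u')) (b ^ (2 * w')) := hab2 _ _
        rw [show a ^ (2 * u') * b ^ (2 * w') * (a ^ (2 * u') * b ^ (2 * w')) =
          a ^ (2 * (2 * u')) * b ^ (2 * (2 * w')) by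
            rw [two_mul (2 * u'), two_mul (2 * w'), zpow_add, zpow_add]
            calc _ = a ^ (2 * u') * (b ^ (2 * w') * a ^ (2 * u')) * b ^ (2 * w') := by group
              _ = _ := by rw [← hcc.eq]; group, he]
  obtain ⟨i, j, k, hodd, he⟩ := relation hr (p := a) (q := b ^ (2 * (1 : ℤ))) (r := z)
    (hb2a 1) (hz a) ((hz _))
  rw [mul_one, ← zpow_mul] at he
  by_cases hi : (2 : ℤ) ∣ i
  swap
  · exfalso
    refine hz1 ?_
    have e : a ^ i = (z ^ k)⁻¹ * (b ^ (2 * j))⁻¹ := by
      rw [← mul_inv_rev]; exact eq_inv_of_mul_eq_one_left (by rw [← mul_assoc]; exact he)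
    have hc : Commute (a ^ i) b := by
      rw [e]
      exact ((hz b).symm.zpow_left k).inv_left.mul_left
        ((Commute.refl b).zpow_left (2 * j)).inv_left
    have h1 := hswap i 1
    rw [zpow_one, mul_one, hzpow i hi, ← hc.eq, eq_comm, mul_eq_right] at h1
    exact h1
  obtain ⟨u, rfl⟩ := hi
  by_cases hk : (2 : ℤ) ∣ k
  · rw [hzpow' k hk, mul_one] at he
    have hj : ¬ (2 : ℤ) ∣ j := by
      rcases hodd with h | h | h
      · exact absurd (dvd_mul_right 2 u) h
      · exact h
      · exact absurd hk h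
    by_cases hp : (2 : ℤ) ∣ u * j
    · exact hone u j (Or.inr hj) (by rw [he, hzpow' _ hp, one_mul])
    · exact hfinish u j (Or.inr hj) 0 (by rw [he, hzpow _ hp, one_mul, pow_zero, zpow_one])
  · rw [hzpow k hk] at he
    refine hdesc _ u j le_rfl 0 ?_
    rw [pow_zero, zpow_one, eq_inv_of_mul_eq_one_left he, hzinv]

theorem main : ∀ (n : ℕ) {S : Type u} [Group S] [Finite S], Nat.card S ≤ n → IsPGroup 2 S →
    Cfsg.SectionalPRankLE 2 2 S → Cfsg.IsMetacyclic S := by
  haveI : Fact (Nat.Prime 2) := ⟨Nat.prime_two⟩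
  intro n
  induction n with
  | zero =>
    intro S _ _ h _ _
    have := Nat.card_pos (α := S)
    omega
  | succ n ih =>
    intro S _ _ hn h2 hr
    haveI := h2.isNilpotent
    haveI : (frattini S).Normal := inferInstance
    -- two generators
    obtain ⟨a₀, b₀, hgen⟩ : ∃ a b : S, closure {a, b} = ⊤ := by
      have hel : ∀ g : S ⧸ frattini S, g ^ 2 = 1 := by
        intro g
        induction g using QuotientGroup.induction_on with
        | _ g =>
          exact (QuotientGroup.eq_one_iff _).mpr (FrattiniAut.pow_mem_frattini h2 g)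
      have hab : ∀ g h : S ⧸ frattini S, g * h = h * g := fun g h => by
        have hi : ∀ g : S ⧸ frattini S, g⁻¹ = g := fun g =>
          inv_eq_of_mul_eq_one_left (by rw [← sq]; exact hel g)
        calc g * h = (g * h)⁻¹ := (hi _).symm
          _ = h * g := by rw [mul_inv_rev, hi, hi]
      have hcard : Nat.card (S ⧸ frattini S) ≤ 2 ^ 2 := by
        have := prank_of_equiv (p := 2) (k := 2) ((QuotientGroup.quotientMulEquivOfEq rfl).trans
          (QuotientGroup.quotientKerEquivOfSurjective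
            ((QuotientGroup.mk' (frattini S)).comp (⊤ : Subgroup S).subtype) fun y => by
              obtain ⟨g, rfl⟩ := QuotientGroup.mk'_surjective _ y
              exact ⟨⟨g, mem_top g⟩, rfl⟩)).symm (hr ⊤ _) ⊤ ⟨⟨fun x y => Subtype.ext (hab _ _)⟩⟩
            (fun x _ => hel x)
        simpa using this
      by_cases htriv : ∀ g : S, g ∈ frattini S
      · refine ⟨1, 1, frattini_nongenerating ?_⟩
        rw [(eq_top_iff' _).mpr htriv, sup_top_eq]
      push Not at htriv
      obtain ⟨a, ha⟩ := htriv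
      by_cases hcy : ∀ g : S, g ∈ frattini S ⊔ zpowers a
      · refine ⟨a, a, frattini_nongenerating (top_le_iff.mp fun g _ => ?_)⟩
        rw [sup_comm]
        exact sup_le_sup_left (zpowers_le.mpr (subset_closure (by simp))) _ (hcy g)
      push Not at hcy
      obtain ⟨b, hb⟩ := hcy
      refine ⟨a, b, frattini_nongenerating ?_⟩
      rw [sup_comm]
      have l1 : frattini S ≤ frattini S ⊔ zpowers a := le_sup_left
      have l2 : frattini S ⊔ zpowers a ≤ frattini S ⊔ closure {a, b} :=
        sup_le_sup_left (zpowers_le.mpr (subset_closure (by simp))) _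
      have e1 := relIndex_mul_relIndex _ _ _ l1 l2
      have e2 := relIndex_mul_index (l1.trans l2)
      have n1 : (frattini S).relIndex (frattini S ⊔ zpowers a) ≠ 1 := fun h =>
        ha (relIndex_eq_one.mp h (le_sup_right (a := frattini S) (mem_zpowers a)))
      have n2 : (frattini S ⊔ zpowers a).relIndex (frattini S ⊔ closure {a, b}) ≠ 1 := fun h =>
        hb (relIndex_eq_one.mp h (le_sup_right (a := frattini S) (subset_closure (by simp))))
      have z1 : (frattini S).relIndex (frattini S ⊔ zpowers a) ≠ 0 := index_ne_zero_of_finite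
      have z2 : (frattini S ⊔ zpowers a).relIndex (frattini S ⊔ closure {a, b}) ≠ 0 :=
        index_ne_zero_of_finite
      have z3 : (frattini S ⊔ closure {a, b}).index ≠ 0 := index_ne_zero_of_finite
      rw [← index_eq_one]
      rw [← index_eq_card, ← e2, ← e1] at hcard
      have h4 : 4 ≤ (frattini S).relIndex (frattini S ⊔ zpowers a) *
          (frattini S ⊔ zpowers a).relIndex (frattini S ⊔ closure {a, b}) :=
        Nat.mul_le_mul (show 2 ≤ _ by omega) (show 2 ≤ _ by omega)
      by_contra hne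
      have := Nat.mul_le_mul h4 (show 2 ≤ (frattini S ⊔ closure {a, b}).index by omega)
      omega
    by_cases hab : Commute a₀ b₀
    · exact metacyclic_of_gen (z := 1) (fun g => Commute.one_right g)
        (by rw [commutatorElement_eq_one_iff_commute.mpr hab]; exact one_mem _) (one_mem _) hgen
    -- a central involution in the derived group
    obtain ⟨z, hzc, hzD, hz1, hzz⟩ : ∃ z : S, z ∈ center S ∧ z ∈ commutator S ∧ z ≠ 1 ∧
        z * z = 1 := by
      have hD : commutator S ≠ ⊥ := fun h => hab (commutatorElement_eq_one_iff_commute.mp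
        (by rw [← mem_bot, ← h]; exact commutator_mem_commutator (mem_top _) (mem_top _)))
      have hne : commutator S ⊓ center S ≠ ⊥ := by
        haveI : Nontrivial (commutator S) := (Subgroup.nontrivial_iff_ne_bot _).mpr hD
        exact Cfsg.Agent.Cores.inf_center_ne_bot hD
      obtain ⟨w, hw⟩ := exists_prime_orderOf_dvd_card' 2 (by
        obtain ⟨k, hk⟩ := (h2.to_subgroup (commutator S ⊓ center S)).exists_card_eq
        rw [hk]
        refine dvd_pow_self 2 ?_
        rintro rfl
        exact hne (Subgroup.eq_bot_of_card_eq _ (by simpa using hk)))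
      refine ⟨w, w.2.2, w.2.1, ?_, ?_⟩
      · intro h
        rw [← Subgroup.orderOf_coe, h, orderOf_one] at hw
        omega
      · have := pow_orderOf_eq_one w
        rw [hw, sq] at this
        exact congrArg Subtype.val this
    have hz : ∀ g, Commute g z := fun g => mem_center_iff.mp hzc g
    haveI hZn : (zpowers z).Normal := ⟨fun x hx g => by
      obtain ⟨i, rfl⟩ := mem_zpowers_iff.mp hx
      rw [((hz g).zpow_right i).eq, mul_inv_cancel_right]
      exact zpow_mem (mem_zpowers z) i⟩
    have hlt : Nat.card (S ⧸ zpowers z) ≤ n := by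
      have e := Subgroup.card_eq_card_quotient_mul_card_subgroup (zpowers z)
      have h2le : 2 ≤ Nat.card (zpowers z) := by
        rw [Nat.card_zpowers]
        have h0 := orderOf_pos z
        have h1' : orderOf z ≠ 1 := fun h => hz1 (orderOf_eq_one_iff.mp h)
        omega
      have h3 := Nat.mul_le_mul_left (Nat.card (S ⧸ zpowers z)) h2le
      have := Nat.card_pos (α := S ⧸ zpowers z)
      omega
    obtain ⟨N, hNn, hNc, hQc⟩ := ih hlt (h2.to_quotient _) (sectional_quotient _ hr)
    haveI := hNn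
    obtain ⟨abar, habar⟩ := (Subgroup.isCyclic_iff_exists_zpowers_eq_top N).mp hNc
    obtain ⟨a, rfl⟩ := QuotientGroup.mk'_surjective _ abar
    obtain ⟨bbar, hbbar⟩ := hQc.exists_generator
    obtain ⟨bq, rfl⟩ := QuotientGroup.mk'_surjective _ bbar
    obtain ⟨b, rfl⟩ := QuotientGroup.mk'_surjective _ bq
    -- `a` and `b` generate
    have hzf : z ∈ frattini S := Coprime.commutator_le_frattini S hzD
    have hgen' : closure {a, b} = ⊤ := by
      refine frattini_nongenerating (top_le_iff.mp fun g _ => ?_)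
      rw [sup_comm]
      obtain ⟨i, hi⟩ := mem_zpowers_iff.mp (hbbar (QuotientGroup.mk' N (QuotientGroup.mk' _ g)))
      rw [← map_zpow, ← map_zpow] at hi
      have h3 := QuotientGroup.eq.mp hi
      rw [← map_inv, ← map_mul, ← habar] at h3
      obtain ⟨j, hj⟩ := mem_zpowers_iff.mp h3
      rw [← map_zpow] at hj
      have h4 := QuotientGroup.eq.mp hj
      obtain ⟨k, hk⟩ := mem_zpowers_iff.mp h4
      have e : g = b ^ i * (a ^ j * z ^ k) := by rw [hk]; group
      rw [e]
      have hS : ∀ x ∈ ({a, b} : Set S), x ∈ frattini S ⊔ closure {a, b} := fun x hx =>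
        mem_sup_right (subset_closure hx)
      exact mul_mem (zpow_mem (hS b (by simp)) i)
        (mul_mem (zpow_mem (hS a (by simp)) j) (zpow_mem (mem_sup_left hzf) k))
    have hconj : ∃ r e : ℤ, b * a * b⁻¹ = a ^ r * z ^ e := by
      have h3 : QuotientGroup.mk' (zpowers z) (b * a * b⁻¹) ∈ zpowers (QuotientGroup.mk' (zpowers z) a) := by
        rw [habar, map_mul, map_mul, map_inv]
        exact hNn.conj_mem _ (habar ▸ mem_zpowers _) _
      obtain ⟨r, hr'⟩ := mem_zpowers_iff.mp h3
      rw [← map_zpow] at hr'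
      obtain ⟨e, he⟩ := mem_zpowers_iff.mp (QuotientGroup.eq.mp hr')
      exact ⟨r, e, by rw [he, mul_inv_cancel_left]⟩
    obtain ⟨r, e, hba⟩ := hconj
    by_cases hza : z ∈ zpowers a
    · -- the cyclic normal subgroup is generated by `a`
      obtain ⟨t, ht⟩ := mem_zpowers_iff.mp hza
      have hn : (zpowers a).Normal := by
        refine normalizer_eq_top_iff.mp (top_le_iff.mp ?_)
        rw [← hgen', closure_le]
        rintro g (rfl | rfl)
        · exact le_normalizer (mem_zpowers g)
        · refine mem_normalizer_fintype (S := (zpowers a : Set S)) ?_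
          intro x hx
          obtain ⟨i, rfl⟩ := mem_zpowers_iff.mp hx
          rw [← conj_zpow, hba]
          exact zpow_mem (mul_mem (zpow_mem (mem_zpowers a) r) (zpow_mem hza e)) i
      haveI := hn
      refine ⟨zpowers a, hn, isCyclic_zpowers a, ⟨QuotientGroup.mk b, fun g => ?_⟩⟩
      induction g using QuotientGroup.induction_on with
      | _ g =>
        have hle : closure {a, b} ≤
            (zpowers (QuotientGroup.mk b : S ⧸ zpowers a)).comap (QuotientGroup.mk' _) := by
          rw [closure_le]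
          rintro w (rfl | rfl)
          · refine mem_comap.mpr ?_
            rw [QuotientGroup.mk'_apply, (QuotientGroup.eq_one_iff _).mpr (mem_zpowers w)]
            exact one_mem _
          · exact mem_comap.mpr (mem_zpowers _)
        exact mem_zpowers_iff.mp (mem_comap.mp (hle (hgen' ▸ mem_top g)))
    -- the derived group is generated by `z`
    have hzinv : z⁻¹ = z := inv_eq_of_mul_eq_one_left hzz
    have hze : ∀ i : ℤ, z ^ i = 1 ∨ z ^ i = z := by
      intro i
      rcases Int.even_or_odd i with ⟨k, rfl⟩ | ⟨k, rfl⟩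
      · left; rw [← two_mul, zpow_mul, zpow_two, hzz, one_zpow]
      · right; rw [zpow_add, zpow_mul, zpow_two, hzz, one_zpow, one_mul, zpow_one]
    obtain ⟨m, hm⟩ := h2 a
    have ha1 : a ≠ 1 := by
      rintro rfl
      have hc : Commute (1 : S) b := Commute.one_left b
      refine hab ?_
      have hall : ∀ g h : S, Commute g h := by
        intro g h
        have hle : closure ({1, b} : Set S) ≤ zpowers b := by
          rw [closure_le]; rintro w (rfl | rfl)
          · exact one_mem _
          · exact mem_zpowers _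
        obtain ⟨i, rfl⟩ := mem_zpowers_iff.mp (hle (hgen' ▸ mem_top g))
        obtain ⟨j, rfl⟩ := mem_zpowers_iff.mp (hle (hgen' ▸ mem_top h))
        exact Commute.zpow_zpow_self b i j
      exact hall a₀ b₀
    -- `r` may be taken odd
    have hrodd : ¬ (2 : ℤ) ∣ r ∨ a * a = 1 := by
      by_contra hcon
      simp only [not_or, not_not] at hcon
      obtain ⟨⟨r', rfl⟩, ha2⟩ := hcon
      obtain ⟨m', hm'⟩ : ∃ m' : ℕ, orderOf a = 2 ^ (m' + 2) := by
        obtain ⟨q, hq, hqe⟩ := (Nat.dvd_prime_pow Nat.prime_two).mp (orderOf_dvd_of_pow_eq_one hm)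
        refine ⟨q - 2, ?_⟩
        have h2q : 2 ≤ q := by
          by_contra hc
          refine ha2 ?_
          rw [← sq]
          exact orderOf_dvd_iff_pow_eq_one.mp
            (hqe ▸ (pow_dvd_pow 2 (show q ≤ 1 by omega)).trans (pow_one 2).dvd)
        rw [hqe]; congr 1; omega
      have h3 : (b * a * b⁻¹) ^ 2 ^ (m' + 1) = 1 := by
        rw [hba, ((hz _).zpow_right e).mul_pow]
        rw [show (a ^ (2 * r')) ^ 2 ^ (m' + 1) = (a ^ 2 ^ (m' + 2)) ^ r' by
          rw [← zpow_natCast, ← zpow_mul, ← zpow_natCast a, ← zpow_mul]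
          congr 1; push_cast; ring, ← hm', pow_orderOf_eq_one, one_zpow, one_mul, pow_succ',
          pow_mul]
        rcases hze e with h | h <;> rw [h]
        · simp
        · rw [sq, hzz, one_pow]
      rw [conj_pow, mul_inv_eq_one, mul_eq_left, ← orderOf_dvd_iff_pow_eq_one, hm',
        Nat.pow_dvd_pow_iff_le_right one_lt_two] at h3
      omega
    obtain ⟨r, hba, hr1⟩ : ∃ r : ℤ, b * a * b⁻¹ = a ^ r * z ^ e ∧ ¬ (2 : ℤ) ∣ r := by
      by_cases h : (2 : ℤ) ∣ r
      · obtain ⟨k, rfl⟩ := h
        have ha2 : a * a = 1 := hrodd.resolve_left (by simp)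
        exfalso
        rw [zpow_mul, zpow_two, ha2, one_zpow, one_mul] at hba
        rcases hze e with he | he <;> rw [he] at hba
        · exact ha1 (by
            calc a = b⁻¹ * (b * a * b⁻¹) * b := by group
              _ = 1 := by rw [hba]; group)
        · refine hza ?_
          have : a = z := by
            calc a = b⁻¹ * (b * a * b⁻¹) * b := by group
              _ = b⁻¹ * (z * b) := by rw [hba]; group
              _ = _ := by rw [← (hz b).eq, inv_mul_cancel_left]
          exact this ▸ mem_zpowers a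
      · exact ⟨r, hba, h⟩
    obtain ⟨c, hc⟩ : ∃ c, c = ⁅b, a⁆ := ⟨_, rfl⟩
    have hce : c = a ^ (r - 1) * z ^ e := by
      rw [hc, commutatorElement_def, hba, mul_assoc, ((hz a⁻¹).zpow_right e).symm.eq, ← mul_assoc,
        ← zpow_sub_one]
    have hbc : b * c * b⁻¹ = c ^ r := by
      have hz' : z ^ (e * r) = z ^ e := by
        obtain ⟨k, rfl⟩ : ∃ k, r = 2 * k + 1 := ⟨r / 2, by omega⟩
        rw [show e * (2 * k + 1) = 2 * (e * k) + e by ring, zpow_add, zpow_mul, zpow_two, hzz,
          one_zpow, one_mul]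
      have hz'' : z ^ (e * (r - 1)) = 1 := by
        rw [mul_sub, mul_one, zpow_sub, hz', mul_inv_cancel]
      rw [hce, ((hz _).zpow_right e).mul_zpow, ← zpow_mul, ← zpow_mul z, hz']
      calc b * (a ^ (r - 1) * z ^ e) * b⁻¹ = (b * a ^ (r - 1) * b⁻¹) * (b * z ^ e * b⁻¹) := by group
        _ = _ := by
          rw [← conj_zpow, hba, ((hz _).zpow_right e).mul_zpow, ← zpow_mul, ← zpow_mul z, hz'',
            mul_one, ((hz b).zpow_right e).eq, mul_inv_cancel_right, mul_comm r]
    have hcn : (zpowers c).Normal := by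
      refine normalizer_eq_top_iff.mp (top_le_iff.mp ?_)
      rw [← hgen', closure_le]
      rintro g (rfl | rfl)
      · refine mem_normalizer_fintype (S := (zpowers c : Set S)) ?_
        intro x hx
        obtain ⟨i, rfl⟩ := mem_zpowers_iff.mp hx
        have : Commute g c := by
          rw [hce]; exact ((Commute.refl g).zpow_right _).mul_right ((hz g).zpow_right e)
        rw [(this.zpow_right i).eq, mul_inv_cancel_right]
        exact zpow_mem (mem_zpowers c) i
      · refine mem_normalizer_fintype (S := (zpowers c : Set S)) ?_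
        intro x hx
        obtain ⟨i, rfl⟩ := mem_zpowers_iff.mp hx
        rw [← conj_zpow, hbc]
        exact zpow_mem (zpow_mem (mem_zpowers c) r) i
    haveI := hcn
    have hDle : commutator S ≤ zpowers c := by
      have hcab : Commute (QuotientGroup.mk' (zpowers c) a) (QuotientGroup.mk' (zpowers c) b) := by
        refine (commutatorElement_eq_one_iff_commute.mp ?_).symm
        rw [← map_commutatorElement, ← hc]
        exact (QuotientGroup.eq_one_iff _).mpr (mem_zpowers c)
      rw [_root_.commutator_def, commutator_le]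
      intro g _ h _
      rw [← QuotientGroup.eq_one_iff]
      change QuotientGroup.mk' (zpowers c) ⁅g, h⁆ = 1
      rw [map_commutatorElement, commutatorElement_eq_one_iff_commute]
      have hle : ∀ w ∈ ({a, b} : Set S), closure {a, b} ≤
          (centralizer {QuotientGroup.mk' (zpowers c) w}).comap (QuotientGroup.mk' (zpowers c)) := by
        intro w hw
        rw [closure_le]
        intro v hv
        refine mem_comap.mpr (mem_centralizer_singleton_iff.mpr ?_)
        rcases hw with rfl | rfl <;> rcases hv with rfl | rfl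
        exacts [rfl, hcab.symm.eq, hcab.eq, rfl]
      have hle2 : closure {a, b} ≤
          (centralizer {QuotientGroup.mk' (zpowers c) g}).comap (QuotientGroup.mk' (zpowers c)) := by
        rw [closure_le]
        intro v hv
        exact mem_comap.mpr (mem_centralizer_singleton_iff.mpr
          (mem_centralizer_singleton_iff.mp (mem_comap.mp (hle v hv (hgen' ▸ mem_top g)))).symm)
      exact (mem_centralizer_singleton_iff.mp (mem_comap.mp (hle2 (hgen' ▸ mem_top h)))).symm
    obtain ⟨k, hk⟩ := mem_zpowers_iff.mp (hDle hzD)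
    have hcz : ⁅b, a⁆ = z := by
      rw [← hc]
      rw [hce, ((hz _).zpow_right e).mul_zpow, ← zpow_mul, ← zpow_mul z] at hk
      have hza' : a ^ ((r - 1) * k) = z * (z ^ (e * k))⁻¹ := eq_mul_inv_of_mul_eq hk
      rcases hze (e * k) with h | h <;> rw [h] at hza'
      · rw [inv_one, mul_one] at hza'
        exact absurd (hza' ▸ zpow_mem (mem_zpowers a) _) hza
      · have hkodd : ¬ (2 : ℤ) ∣ k := by
          rintro ⟨k', rfl⟩
          rw [show e * (2 * k') = 2 * (e * k') by ring, zpow_mul, zpow_two, hzz, one_zpow] at h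
          exact hz1 h.symm
        have heodd : ¬ (2 : ℤ) ∣ e := by
          rintro ⟨e', rfl⟩
          rw [show 2 * e' * k = 2 * (e' * k) by ring, zpow_mul, zpow_two, hzz, one_zpow] at h
          exact hz1 h.symm
        rw [mul_inv_cancel, zpow_mul] at hza'
        have h5 : a ^ (r - 1) = 1 := by
          have := zpow_odd_gen h2 (g := a ^ (r - 1)) hkodd
          rw [hza', zpowers_one_eq_bot, mem_bot] at this
          exact this
        rw [hce, h5, one_mul]
        rcases hze e with he | he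
        · obtain ⟨e', rfl⟩ : ∃ e', e = 2 * e' + 1 := ⟨e / 2, by omega⟩
          rw [zpow_add, zpow_mul, zpow_two, hzz, one_zpow, one_mul, zpow_one] at he
          exact absurd he hz1
        · exact he
    exact class_two h2 hr hgen' hz hzz hz1 hcz

end Cfsg.Agent.GroupStructure3.MetacyclicRankTwo
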