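import Mathlib.GroupTheory.Nilpotent
import Mathlib.GroupTheory.QuotientGroup.Basic

/-!
Commutators modulo a normal subgroup, Fitting's theorem, powers in nilpotent groups.
-/

set_option autoImplicit false

namespace Cfsg.Agent.GroupStructure3.NormalNilp

open Subgroup

set_option linter.style.haveILetI false

variable {G : Type*} [Group G]

theorem commutator_le_iff_map (A B N : Subgroup G) [N.Normal] :
    ⁅A, B⁆ ≤ N ↔
      A.map (QuotientGroup.mk' N) ≤ centralizer ((B.map (QuotientGroup.mk' N) : Subgroup _) :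
        Set (G ⧸ N)) := by
  rw [← commutator_eq_bot_iff_le_centralizer, ← map_commutator, Subgroup.map_eq_bot_iff,
    QuotientGroup.ker_mk']

theorem commutator_sup_left_le {A B C N : Subgroup G} [N.Normal] (h1 : ⁅A, C⁆ ≤ N)
    (h2 : ⁅B, C⁆ ≤ N) : ⁅A ⊔ B, C⁆ ≤ N := by
  rw [commutator_le_iff_map] at h1 h2 ⊢
  rw [Subgroup.map_sup]
  exact sup_le h1 h2

theorem commutator_sup_right_le {A B C N : Subgroup G} [N.Normal] (h1 : ⁅A, B⁆ ≤ N)
    (h2 : ⁅A, C⁆ ≤ N) : ⁅A, B ⊔ C⁆ ≤ N := by
  rw [commutator_comm] at h1 h2 ⊢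
  exact commutator_sup_left_le h1 h2

theorem commutator_iSup_left_le {ι : Sort*} {A : ι → Subgroup G} {C N : Subgroup G} [N.Normal]
    (h : ∀ i, ⁅A i, C⁆ ≤ N) : ⁅⨆ i, A i, C⁆ ≤ N := by
  rw [commutator_le_iff_map, Subgroup.map_iSup]
  exact iSup_le fun i => (commutator_le_iff_map _ _ _).1 (h i)

/-- Three subgroup lemma modulo a normal subgroup. -/
theorem commutator_commutator_le_of_rotate {A B C N : Subgroup G} [N.Normal]
    (h1 : ⁅⁅B, C⁆, A⁆ ≤ N) (h2 : ⁅⁅C, A⁆, B⁆ ≤ N) : ⁅⁅A, B⁆, C⁆ ≤ N := by
  have key : ∀ X Y Z : Subgroup G, (⁅⁅X, Y⁆, Z⁆ ≤ N ↔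
      ⁅⁅X.map (QuotientGroup.mk' N), Y.map (QuotientGroup.mk' N)⁆,
        Z.map (QuotientGroup.mk' N)⁆ = ⊥) := by
    intro X Y Z
    rw [← map_commutator, ← map_commutator, Subgroup.map_eq_bot_iff, QuotientGroup.ker_mk']
  rw [key] at h1 h2 ⊢
  exact commutator_commutator_eq_bot_of_rotate h1 h2

theorem lcs_normal (H : Subgroup G) [H.Normal] : ∀ n, (H.lowerCentralSeries n).Normal
  | 0 => by simpa
  | n + 1 => by
    haveI := lcs_normal H n
    rw [Subgroup.lowerCentralSeries_succ]; infer_instance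

/-- `⊤, γ₁ H, γ₂ H, ...` -/
def lcsExt (H : Subgroup G) : ℕ → Subgroup G
  | 0 => ⊤
  | n + 1 => H.lowerCentralSeries n

theorem lcsExt_normal (H : Subgroup G) [H.Normal] : ∀ n, (lcsExt H n).Normal
  | 0 => inferInstanceAs (Subgroup.Normal (⊤ : Subgroup G))
  | n + 1 => lcs_normal H n

theorem commutator_lcsExt_le (H : Subgroup G) [H.Normal] :
    ∀ i, ⁅lcsExt H i, H⁆ ≤ lcsExt H (i + 1)
  | 0 => by
    show ⁅lcsExt H 0, H⁆ ≤ H.lowerCentralSeries 0
    rw [Subgroup.lowerCentralSeries_zero]; exact commutator_le_right _ _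
  | i + 1 => le_of_eq rfl

theorem lowerCentralSeries_sup_eq_bot {H K : Subgroup G} [H.Normal] [K.Normal] {c d : ℕ}
    (hH : H.lowerCentralSeries c = ⊥) (hK : K.lowerCentralSeries d = ⊥) :
    (H ⊔ K).lowerCentralSeries (c + d) = ⊥ := by
  haveI hA := lcsExt_normal H
  haveI hB := lcsExt_normal K
  have hT : ∀ n, (⨆ i : ℕ, lcsExt H i ⊓ lcsExt K (n - i)).Normal := fun n => by
    haveI : ∀ i : ℕ, (lcsExt H i ⊓ lcsExt K (n - i)).Normal := fun i => by
      haveI := hA i; haveI := hB (n - i)
      infer_instance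
    exact Subgroup.iSup_normal _
  have main : ∀ n, (H ⊔ K).lowerCentralSeries n ≤
      ⨆ i : ℕ, lcsExt H i ⊓ lcsExt K (n + 1 - i) := by
    intro n
    induction n with
    | zero =>
      rw [Subgroup.lowerCentralSeries_zero]
      refine sup_le ?_ ?_
      · refine le_trans ?_ (le_iSup _ 1)
        simp [lcsExt]
      · refine le_trans ?_ (le_iSup _ 0)
        simp [lcsExt]
    | succ n ih =>
      rw [Subgroup.lowerCentralSeries_succ]
      refine le_trans (commutator_mono ih le_rfl) ?_
      haveI := hT (n + 1 + 1)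
      refine commutator_iSup_left_le fun i => commutator_sup_right_le ?_ ?_
      · refine le_trans ?_ (le_iSup _ (i + 1))
        haveI := hB (n + 1 - i)
        rw [show n + 1 + 1 - (i + 1) = n + 1 - i by omega]
        exact le_inf ((commutator_mono inf_le_left le_rfl).trans (commutator_lcsExt_le H i))
          ((commutator_mono inf_le_right le_rfl).trans (commutator_le_left _ _))
      · refine le_trans ?_ (le_iSup _ i)
        haveI := hA i
        refine le_inf ((commutator_mono inf_le_left le_rfl).trans (commutator_le_left _ _)) ?_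
        rcases le_or_gt i (n + 1) with hi | hi
        · rw [show n + 1 + 1 - i = (n + 1 - i) + 1 by omega]
          exact (commutator_mono inf_le_right le_rfl).trans (commutator_lcsExt_le K _)
        · rw [show n + 1 + 1 - i = 0 by omega]
          exact le_top
  rw [eq_bot_iff]
  refine (main (c + d)).trans (iSup_le fun i => ?_)
  rcases le_or_gt i c with h | h
  · obtain ⟨j, hj⟩ : ∃ j, c + d + 1 - i = j + 1 := ⟨c + d - i, by omega⟩
    refine inf_le_right.trans ?_
    rw [hj]
    exact (K.lowerCentralSeries_antitone (show d ≤ j by omega)).trans hK.le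
  · obtain ⟨j, rfl⟩ : ∃ j, i = j + 1 := ⟨i - 1, by omega⟩
    exact inf_le_left.trans ((H.lowerCentralSeries_antitone (show c ≤ j by omega)).trans hH.le)

theorem isNilpotent_sup {H K : Subgroup G} [H.Normal] [K.Normal] (hH : Group.IsNilpotent H)
    (hK : Group.IsNilpotent K) : Group.IsNilpotent ↥(H ⊔ K) := by
  rw [isNilpotent_iff_lowerCentralSeries] at hH hK ⊢
  obtain ⟨c, hc⟩ := hH
  obtain ⟨d, hd⟩ := hK
  exact ⟨c + d, lowerCentralSeries_sup_eq_bot hc hd⟩

theorem isNilpotent_sSup_normal [Finite G] :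
    Group.IsNilpotent ↥(sSup {N : Subgroup G | N.Normal ∧ Group.IsNilpotent N}) := by
  classical
  set S := {N : Subgroup G | N.Normal ∧ Group.IsNilpotent N}
  have hfin : S.Finite := Set.toFinite S
  suffices h : ∀ T : Finset (Subgroup G), (∀ N ∈ T, N ∈ S) →
      (T.sup id).Normal ∧ Group.IsNilpotent ↥(T.sup id) by
    have := (h hfin.toFinset (fun N hN => hfin.mem_toFinset.1 hN)).2
    rwa [Finset.sup_id_eq_sSup, Set.Finite.coe_toFinset] at this
  intro T
  induction T using Finset.induction with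
  | empty =>
    intro _
    rw [Finset.sup_empty]
    exact ⟨inferInstance, inferInstance⟩
  | insert a s _ ih =>
    intro hT
    obtain ⟨hn, hnil⟩ := ih fun N hN => hT N (Finset.mem_insert_of_mem hN)
    obtain ⟨han, hanil⟩ := hT a (Finset.mem_insert_self _ _)
    haveI := han; haveI := hn
    rw [Finset.sup_insert, id_eq]
    exact ⟨inferInstance, isNilpotent_sup hanil hnil⟩

theorem relIndex_sup_of_normal_right [Finite G] (H F : Subgroup G) [F.Normal] :
    H.relIndex (H ⊔ F) = H.relIndex F := by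
  have h1 : F.relIndex (H ⊔ F) = F.relIndex H := relIndex_sup_right H F
  have hF := relIndex_mul_relIndex ⊥ (H ⊓ F) F bot_le inf_le_right
  have hH := relIndex_mul_relIndex ⊥ (H ⊓ F) H bot_le inf_le_left
  have hS := relIndex_mul_relIndex ⊥ F (H ⊔ F) bot_le le_sup_right
  have hS' := relIndex_mul_relIndex ⊥ H (H ⊔ F) bot_le le_sup_left
  rw [relIndex_bot_left, relIndex_bot_left, inf_relIndex_right] at hF
  rw [relIndex_bot_left, relIndex_bot_left, inf_relIndex_left] at hH
  rw [relIndex_bot_left, relIndex_bot_left, h1, ← hF] at hS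
  rw [relIndex_bot_left, relIndex_bot_left, ← hH] at hS'
  have hpos : 0 < Nat.card ↥(H ⊓ F) * F.relIndex H :=
    Nat.mul_pos Nat.card_pos (Nat.pos_of_dvd_of_pos (relIndex_dvd_card _ _) Nat.card_pos)
  refine Nat.eq_of_mul_eq_mul_left hpos ?_
  rw [hS', ← hS]; ring

theorem relIndex_dvd_index_of_normal_right [Finite G] (H F : Subgroup G) [F.Normal] :
    H.relIndex F ∣ H.index := by
  rw [← relIndex_sup_of_normal_right H F]
  exact relIndex_dvd_index_of_le le_sup_left

/-- In a finite nilpotent group, every element raised to the index of a subgroup lies in it. -/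
theorem pow_index_mem_of_isNilpotent [Finite G] [Group.IsNilpotent G] (x : G) (H : Subgroup G) :
    x ^ H.index ∈ H := by
  induction hk : H.index using Nat.strong_induction_on generalizing H with
  | _ k ih =>
    by_cases hH : H = ⊤
    · subst hH; exact mem_top _
    have hlt : H < normalizer (H : Set G) :=
      Group.normalizerCondition_of_isNilpotent H (lt_top_iff_ne_top.2 hH)
    have hmul := relIndex_mul_index hlt.le
    rw [hk] at hmul
    have h1 : (normalizer (H : Set G)).index < k := by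
      rw [← hk]; exact index_strictAnti hlt
    have hx := ih _ h1 _ rfl
    have := pow_index_mem (H.subgroupOf (normalizer (H : Set G)))
      ⟨x ^ (normalizer (H : Set G)).index, hx⟩
    rw [mem_subgroupOf] at this
    rw [← hmul, mul_comm, pow_mul]
    simpa [relIndex] using this

end Cfsg.Agent.GroupStructure3.NormalNilp
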