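import Mathlib
import Cfsg.Agent.S0799
import Cfsg.Agent.Lib.Forms.DicksonCor
import Cfsg.Agent.Lib.Classical.Linear
import Cfsg.Agent.Lib.Classical.SylowSL2

/-!
Normalizers of subgroups of `PSL(2,13)`.
-/

set_option autoImplicit false

namespace Cfsg.Agent.GroupStructure3.PSLThirteen

open scoped MatrixGroups

/-- `PSL(2, 13)`. -/
abbrev PG : Type := Matrix.ProjectiveSpecialLinearGroup (Fin 2) (ZMod 13)

instance fact13 : Fact (Nat.Prime 13) := ⟨by norm_num⟩

theorem card_pg : Nat.card PG = 1092 := by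
  have h := Forms.DicksonCor.gcd_mul_natCard (F := ZMod 13)
  rw [ZMod.card] at h
  rw [show Nat.gcd 2 (13 - 1) = 2 from rfl] at h
  show Nat.card (Matrix.ProjectiveSpecialLinearGroup (Fin 2) (ZMod 13)) = 1092
  omega

theorem simple_pg : IsSimpleGroup PG :=
  Classical.Linear.isSimpleGroup_PSL_fin (le_refl 2) fun _ => by rw [ZMod.card]; norm_num

theorem not_comm_pg : ¬ IsMulCommutative PG := by
  intro h
  haveI := simple_pg
  letI : CommGroup PG := { (inferInstance : Group PG) with mul_comm := fun a b => mul_comm' a b }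
  have := IsSimpleGroup.prime_card (α := PG)
  rw [card_pg] at this
  norm_num at this

/-- The diagonal generator. -/
def g6 : SL(2, ZMod 13) := ⟨!![2, 0; 0, 7], by rw [Matrix.det_fin_two_of]; decide⟩

/-- A unipotent element. -/
def u1 : SL(2, ZMod 13) := ⟨!![1, 1; 0, 1], by rw [Matrix.det_fin_two_of]; decide⟩

theorem g6_facts : g6 ^ 2 * u1 ≠ u1 * g6 ^ 2 ∧ g6 ^ 3 * u1 ≠ u1 * g6 ^ 3 ∧
    g6 * u1 ≠ u1 * g6 ∧ g6 ^ 6 = -1 := by
  decide +kernel

theorem exists_order_six : ∃ x : PG, orderOf x = 6 := by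
  obtain ⟨h2, h3, h1, h6⟩ := g6_facts
  refine ⟨QuotientGroup.mk' _ g6, ?_⟩
  have hne : ∀ k : ℕ, g6 ^ k * u1 ≠ u1 * g6 ^ k →
      (QuotientGroup.mk' (Subgroup.center SL(2, ZMod 13)) g6) ^ k ≠ 1 := by
    intro k hk h
    rw [← map_pow, ← MonoidHom.mem_ker, QuotientGroup.ker_mk', Subgroup.mem_center_iff] at h
    exact hk (h u1).symm
  rw [orderOf_eq_iff (by norm_num)]
  refine ⟨?_, fun m hm hm0 h => ?_⟩
  · rw [← map_pow, ← MonoidHom.mem_ker, QuotientGroup.ker_mk', Subgroup.mem_center_iff, h6]
    intro x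
    simp
  · have hcase : m = 1 ∨ m = 2 ∨ m = 3 ∨ m = 4 ∨ m = 5 := by omega
    have h6' : (QuotientGroup.mk' (Subgroup.center SL(2, ZMod 13)) g6) ^ 6 = 1 := by
      rw [← map_pow, ← MonoidHom.mem_ker, QuotientGroup.ker_mk', Subgroup.mem_center_iff, h6]
      intro x
      simp
    rcases hcase with rfl | rfl | rfl | rfl | rfl
    · exact hne 1 (by rwa [pow_one]) h
    · exact hne 2 h2 h
    · exact hne 3 h3 h
    · refine hne 2 h2 ?_
      rwa [pow_add _ 4 2, h, one_mul] at h6'
    · refine hne 1 (by rwa [pow_one]) ?_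
      rwa [pow_add _ 5 1, h, one_mul] at h6'

theorem normalizer_ne_top {H : Subgroup PG} (h1 : H ≠ ⊥) (h2 : H ≠ ⊤) :
    Subgroup.normalizer (H : Set PG) ≠ ⊤ := by
  intro h
  haveI : H.Normal := Subgroup.normalizer_eq_top_iff.mp h
  haveI := simple_pg
  rcases Subgroup.Normal.eq_bot_or_eq_top (inferInstance : H.Normal) with e | e
  · exact h1 e
  · exact h2 e

theorem sylow_normalizer_card_dvd {p : ℕ} [Fact p.Prime] (P : Sylow p PG) :
    Nat.card (Sylow p PG) * Nat.card (Subgroup.normalizer ((P : Subgroup PG) : Set PG)) = 1092 ∧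
      Nat.card (Sylow p PG) % p = 1 := by
  refine ⟨?_, ?_⟩
  · rw [P.card_eq_index_normalizer, mul_comm]
    exact (Subgroup.card_mul_index _).trans card_pg
  · have h := card_sylow_modEq_one p PG
    rwa [Nat.ModEq, Nat.mod_eq_of_lt (Fact.out : p.Prime).one_lt] at h

theorem sylow_card {p : ℕ} [Fact p.Prime] (P : Sylow p PG) (k : ℕ) (hk : p ^ k ∣ 1092)
    (hk' : ¬ p ^ (k + 1) ∣ 1092) : Nat.card (P : Subgroup PG) = p ^ k := by
  obtain ⟨j, hj⟩ := P.2.exists_card_eq
  have h1 : p ^ j ∣ 1092 := hj ▸ card_pg ▸ Subgroup.card_subgroup_dvd_card (P : Subgroup PG)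
  have h2 : p ^ k ∣ Nat.card (P : Subgroup PG) := P.pow_dvd_card_of_pow_dvd_card (card_pg ▸ hk)
  rw [hj] at h2 ⊢
  congr 1
  refine le_antisymm ?_ ((Nat.pow_dvd_pow_iff_le_right (Fact.out : p.Prime).one_lt).mp h2)
  by_contra h
  exact hk' ((pow_dvd_pow p (by omega)).trans h1)

theorem normalizer_thirteen_card (P : Sylow 13 PG) :
    Nat.card (Subgroup.normalizer ((P : Subgroup PG) : Set PG)) = 78 := by
  obtain ⟨h, hm⟩ := sylow_normalizer_card_dvd P
  have hc := sylow_card P 1 (by norm_num) (by norm_num)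
  rw [pow_one] at hc
  have hd : Nat.card (Sylow 13 PG) ∣ 84 := by
    have h13 : 13 ∣ Nat.card (Subgroup.normalizer ((P : Subgroup PG) : Set PG)) :=
      hc.symm.dvd.trans (Subgroup.card_dvd_of_le Subgroup.le_normalizer)
    obtain ⟨c, hc'⟩ := h13
    rw [hc'] at h
    exact ⟨c, by linarith⟩
  have hne : Nat.card (Sylow 13 PG) ≠ 1 := by
    intro h1
    rw [h1, one_mul] at h
    refine normalizer_ne_top ?_ ?_ (Subgroup.eq_top_of_card_eq _ (h.trans card_pg.symm))
    · intro e; rw [e, Subgroup.card_bot] at hc; omega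
    · intro e; rw [e, Subgroup.card_top, card_pg] at hc; omega
  have hle := Nat.le_of_dvd (by norm_num) hd
  interval_cases hn : Nat.card (Sylow 13 PG) <;> omega

theorem card_mem {H : Subgroup PG} (hH : H ≠ ⊤) :
    Nat.card H ∈ ({1, 2, 3, 4, 6, 7, 12, 13, 14, 26, 39, 78} : Finset ℕ) := by
  have hdvd : Nat.card H ∣ 1092 := card_pg ▸ Subgroup.card_subgroup_dvd_card H
  rcases S0799.result (F := ZMod 13) (q := 13) (ZMod.card 13) 13 H with
    ⟨k, hk, hk'⟩ | ⟨P, K, hK, ⟨e⟩⟩ | ⟨⟨e⟩⟩ | ⟨⟨e⟩⟩ | ⟨⟨e⟩⟩ | ⟨K, _, _, m, hm, h⟩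
  · norm_num at hk
    rcases hk' with ⟨-, hc⟩ | ⟨⟨e⟩⟩
    · rw [hc]
      rcases hk with hk | hk <;>
        · have := Nat.le_of_dvd (by norm_num) hk
          interval_cases k <;> simp_all
    · rw [Nat.card_congr e.toEquiv, DihedralGroup.nat_card]
      rcases hk with hk | hk <;>
        · have := Nat.le_of_dvd (by norm_num) hk
          interval_cases k <;> simp_all
  · rw [Nat.card_congr e.toEquiv]
    have h78 : Nat.card K ∣ 78 := normalizer_thirteen_card P ▸ Subgroup.card_dvd_of_le hK
    have := Nat.le_of_dvd (by norm_num) h78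
    interval_cases hc : Nat.card K <;> simp_all
  · rw [Nat.card_congr e.toEquiv]
    haveI : Nontrivial (Fin 4) := Fin.nontrivial_iff_two_le.mpr (by omega)
    have h := two_mul_nat_card_alternatingGroup (α := Fin 4)
    rw [Nat.card_perm, Nat.card_fin, show Nat.factorial 4 = 24 from rfl] at h
    rw [show Nat.card (alternatingGroup (Fin 4)) = 12 by omega]
    decide
  · rw [Nat.card_congr e.toEquiv, Nat.card_perm, Nat.card_fin,
      show Nat.factorial 4 = 24 from rfl] at hdvd
    norm_num at hdvd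
  · haveI : Nontrivial (Fin 5) := Fin.nontrivial_iff_two_le.mpr (by omega)
    have h := two_mul_nat_card_alternatingGroup (α := Fin 5)
    rw [Nat.card_perm, Nat.card_fin, show Nat.factorial 5 = 120 from rfl] at h
    rw [Nat.card_congr e.toEquiv, show Nat.card (alternatingGroup (Fin 5)) = 60 by omega] at hdvd
    norm_num at hdvd
  · exfalso
    have hm' : Fintype.card K ^ m = Fintype.card (ZMod 13) := hm.trans (ZMod.card 13).symm
    obtain ⟨hm2, -⟩ := Forms.DicksonCor.subfield_bound H hH K m hm' h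
    have hK2 : 2 ≤ Fintype.card K := Fintype.one_lt_card
    have h4 : Fintype.card K ^ 2 ≤ 13 := hm ▸ Nat.pow_le_pow_right (by omega) hm2
    have hK3 : Fintype.card K ≤ 3 := by nlinarith
    have hm4 : m ≤ 3 := by
      by_contra hlt
      have : 2 ^ 4 ≤ Fintype.card K ^ m :=
        le_trans (Nat.pow_le_pow_left hK2 4) (Nat.pow_le_pow_right (by omega) (by omega))
      omega
    interval_cases m <;> interval_cases hc : Fintype.card K <;> norm_num at hm

theorem normalizer_proper_card {H : Subgroup PG} (h1 : H ≠ ⊥) (h2 : H ≠ ⊤) :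
    Nat.card (Subgroup.normalizer (H : Set PG)) ∈
      ({1, 2, 3, 4, 6, 7, 12, 13, 14, 26, 39, 78} : Finset ℕ) :=
  card_mem (normalizer_ne_top h1 h2)

theorem sylow_not_central {p : ℕ} [Fact p.Prime] (P : Sylow p PG) (hp : p ∣ 1092)
    (hp' : Nat.card (P : Subgroup PG) ≠ 1092) :
    ¬ Subgroup.normalizer ((P : Subgroup PG) : Set PG) ≤
      Subgroup.centralizer ((P : Subgroup PG) : Set PG) := by
  intro hP
  haveI := simple_pg
  have hc := MonoidHom.ker_transferSylow_isComplement' P hP
  rcases Subgroup.Normal.eq_bot_or_eq_top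
    (inferInstance : (MonoidHom.transferSylow P hP).ker.Normal) with h | h
  · rw [h] at hc
    exact hp' (by rw [Subgroup.isComplement'_bot_left.mp hc, Subgroup.card_top, card_pg])
  · rw [h] at hc
    have h1 := Subgroup.isComplement'_top_left.mp hc
    exact (P.ne_bot_of_dvd_card (card_pg ▸ hp)) h1

/-- The Sylow 2-normalizers have order twelve. -/
theorem normalizer_two_card (P : Sylow 2 PG) :
    Nat.card (P : Subgroup PG) = 4 ∧ IsMulCommutative (P : Subgroup PG) ∧
      Nat.card (Subgroup.normalizer ((P : Subgroup PG) : Set PG)) = 12 := by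
  have hc : Nat.card (P : Subgroup PG) = 4 := sylow_card P 2 (by norm_num) (by norm_num)
  have hcomm : IsMulCommutative (P : Subgroup PG) :=
    IsPGroup.isMulCommutative_of_card_eq_prime_sq (p := 2) (by rw [hc]; rfl)
  refine ⟨hc, hcomm, ?_⟩
  have hne : (P : Subgroup PG) ≠ ⊥ := fun e => by rw [e, Subgroup.card_bot] at hc; omega
  have hnt : (P : Subgroup PG) ≠ ⊤ := fun e => by rw [e, Subgroup.card_top, card_pg] at hc; omega
  have hmem := normalizer_proper_card hne hnt
  have h4 : 4 ∣ Nat.card (Subgroup.normalizer ((P : Subgroup PG) : Set PG)) :=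
    hc ▸ Subgroup.card_dvd_of_le Subgroup.le_normalizer
  simp only [Finset.mem_insert, Finset.mem_singleton] at hmem
  rcases hmem with h | h | h | h | h | h | h | h | h | h | h | h <;> rw [h] at h4 <;>
    norm_num at h4
  · exfalso
    refine sylow_not_central P (by norm_num) (by omega) ?_
    have he : (P : Subgroup PG) = Subgroup.normalizer ((P : Subgroup PG) : Set PG) :=
      Subgroup.eq_of_le_of_card_ge Subgroup.le_normalizer (by omega)
    intro x hx y hy
    have hx' : x ∈ (P : Subgroup PG) := he ▸ hx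
    exact congrArg Subtype.val (hcomm.is_comm.comm ⟨y, hy⟩ ⟨x, hx'⟩)
  · exact h

theorem centralizer_involution_card (t : PG) (ht : orderOf t = 2) :
    Nat.card (Subgroup.centralizer ({t} : Set PG)) = 12 := by
  haveI : Fact (Nat.Prime 2) := ⟨Nat.prime_two⟩
  have ht1 : t ≠ 1 := fun e => by rw [e, orderOf_one] at ht; omega
  -- an involution with an element of order three in its centralizer
  obtain ⟨x, hx⟩ := exists_order_six
  have ht0 : orderOf (x ^ 3) = 2 := by rw [orderOf_pow' x (by norm_num), hx]; rfl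
  have hC0 : 6 ∣ Nat.card (Subgroup.centralizer ({x ^ 3} : Set PG)) := by
    rw [← hx]
    refine Subgroup.orderOf_dvd_natCard _ ?_
    rw [Subgroup.mem_centralizer_singleton_iff]
    exact (Commute.self_pow x 3).eq
  -- all involutions are conjugate
  have hconj : ∀ a b : PG, orderOf a = 2 → orderOf b = 2 → ∃ g : PG, g * a * g⁻¹ = b := by
    intro a b ha hb
    obtain ⟨P, hP⟩ := (IsPGroup.of_card (n := 1) (by rw [Nat.card_zpowers, ha, pow_one]) :
      IsPGroup 2 (Subgroup.zpowers a)).exists_le_sylow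
    obtain ⟨Q, hQ⟩ := (IsPGroup.of_card (n := 1) (by rw [Nat.card_zpowers, hb, pow_one]) :
      IsPGroup 2 (Subgroup.zpowers b)).exists_le_sylow
    obtain ⟨g, hg⟩ := MulAction.exists_smul_eq PG P Q
    have ha' : g * a * g⁻¹ ∈ (Q : Subgroup PG) := by
      rw [← hg]
      exact ⟨a, hP (Subgroup.mem_zpowers a), rfl⟩
    have hao : orderOf (g * a * g⁻¹) = 2 := by
      rw [← MulAut.conj_apply, MulEquiv.orderOf_eq, ha]
    obtain ⟨hQc, hQcomm, hN⟩ := normalizer_two_card Q
    set N := Subgroup.normalizer ((Q : Subgroup PG) : Set PG) with hNdef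
    haveI : Fact (Nat.Prime 3) := ⟨Nat.prime_three⟩
    obtain ⟨y, hy⟩ := exists_prime_orderOf_dvd_card' (G := N) 3 (by rw [hN]; norm_num)
    rw [← Subgroup.orderOf_coe] at hy
    have hyN : ∀ q ∈ (Q : Subgroup PG), (y : PG) * q * (y : PG)⁻¹ ∈ (Q : Subgroup PG) :=
      fun q hq => (Subgroup.mem_normalizer_iff.mp y.2 q).mp hq
    set c := g * a * g⁻¹ with hc
    have hbQ : b ∈ (Q : Subgroup PG) := hQ (Subgroup.mem_zpowers b)
    -- the conjugates of `c` by `y` exhaust the involutions of `Q`
    by_contra hcon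
    push Not at hcon
    have hc1 : c ≠ 1 := fun e => by rw [e, orderOf_one] at hao; omega
    have hb1 : b ≠ 1 := fun e => by rw [e, orderOf_one] at hb; omega
    have hbc : c ≠ b := hcon g
    have hyc : (y : PG) * c * (y : PG)⁻¹ ≠ b := fun e => hcon ((y : PG) * g) (by
      rw [← e, hc]; group)
    have hy3 : (y : PG) ^ 3 = 1 := by rw [← hy, pow_orderOf_eq_one]
    have hcfix : (y : PG) * c * (y : PG)⁻¹ ≠ c := by
      intro e
      -- `y` centralizes `Q`
      have hyb : (y : PG) * b * (y : PG)⁻¹ ≠ c := fun e' => hcon ((y : PG)⁻¹ * g) (by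
        rw [mul_inv_rev, inv_inv, show (y : PG)⁻¹ * g * a * (g⁻¹ * y) = (y : PG)⁻¹ * c * y by
          rw [hc]; group, ← e']
        group)
      have hcase : ∀ q ∈ (Q : Subgroup PG), q = 1 ∨ q = c ∨ q = b ∨ q = c * b := by
        intro q hq
        have hsq : ∀ z ∈ ({1, c, b, c * b} : Set PG), z ∈ (Q : Subgroup PG) := by
          rintro z (rfl | rfl | rfl | rfl)
          exacts [one_mem _, ha', hbQ, Subgroup.mul_mem _ ha' hbQ]
        have hcb1 : c * b ≠ 1 := fun e1 => hbc (by
          rw [eq_inv_of_mul_eq_one_left e1, inv_eq_of_mul_eq_one_right (by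
            rw [← pow_two, orderOf_dvd_iff_pow_eq_one.mp hb.dvd])])
        have h4 : ({1, c, b, c * b} : Set PG).ncard = 4 := by
          rw [Set.ncard_insert_of_notMem (by simp [Ne.symm hc1, Ne.symm hb1, Ne.symm hcb1]),
            Set.ncard_insert_of_notMem (by simp [hbc, hb1]), Set.ncard_pair (by simp [hc1])]
        have heq := Set.eq_of_subset_of_ncard_le (fun z hz => hsq z hz : _ ⊆ ((Q : Subgroup PG) : Set PG))
          (by rw [h4, ← Nat.card_coe_set_eq]; exact hQc.le) (Set.toFinite _)
        rw [← SetLike.mem_coe, ← heq] at hq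
        simpa using hq
      have hyb' : (y : PG) * b * (y : PG)⁻¹ = b := by
        rcases hcase _ (hyN b hbQ) with h | h | h | h
        · exact absurd (conj_eq_one_iff.mp h) hb1
        · exact absurd h hyb
        · exact h
        · exfalso
          have h2 : (y : PG) ^ 2 * b * ((y : PG) ^ 2)⁻¹ = b := by
            calc (y : PG) ^ 2 * b * ((y : PG) ^ 2)⁻¹
                = (y : PG) * ((y : PG) * b * (y : PG)⁻¹) * (y : PG)⁻¹ := by rw [pow_two]; group
              _ = (y : PG) * (c * b) * (y : PG)⁻¹ := by rw [h]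
              _ = ((y : PG) * c * (y : PG)⁻¹) * ((y : PG) * b * (y : PG)⁻¹) := by group
              _ = b := by
                  rw [e, h, ← mul_assoc, ← pow_two, orderOf_dvd_iff_pow_eq_one.mp hao.dvd, one_mul]
          have h5 : (y : PG) * b * (y : PG)⁻¹ = b := by
            have : (y : PG) = (y : PG) ^ 2 * (y : PG) ^ 2 := by
              rw [← pow_add, show 2 + 2 = 3 + 1 from rfl, pow_succ, hy3, one_mul]
            rw [this]
            calc (y : PG) ^ 2 * (y : PG) ^ 2 * b * ((y : PG) ^ 2 * (y : PG) ^ 2)⁻¹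
                = (y : PG) ^ 2 * ((y : PG) ^ 2 * b * ((y : PG) ^ 2)⁻¹) * ((y : PG) ^ 2)⁻¹ := by group
              _ = b := by rw [h2, h2]
          exact hc1 (mul_eq_right.mp (h.symm.trans h5))
      refine sylow_not_central Q (by norm_num) (by omega) ?_
      have hQy : (Q : Subgroup PG) ⊔ Subgroup.zpowers (y : PG) = N := by
        refine Subgroup.eq_of_le_of_card_ge
          (sup_le Subgroup.le_normalizer (Subgroup.zpowers_le.mpr y.2)) ?_
        rw [hN]
        have h4' := Subgroup.card_dvd_of_le (le_sup_left : (Q : Subgroup PG) ≤ (Q : Subgroup PG) ⊔ Subgroup.zpowers (y : PG))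
        have h3' := Subgroup.card_dvd_of_le (le_sup_right : Subgroup.zpowers (y : PG) ≤ (Q : Subgroup PG) ⊔ Subgroup.zpowers (y : PG))
        rw [hQc] at h4'
        rw [Nat.card_zpowers, hy] at h3'
        exact Nat.le_of_dvd Nat.card_pos (Nat.Coprime.mul_dvd_of_dvd_of_dvd (by norm_num : Nat.Coprime 4 3) h4' h3')
      rw [← hNdef, ← hQy, sup_le_iff]
      refine ⟨fun p hp q hq => congrArg Subtype.val (hQcomm.is_comm.comm ⟨q, hq⟩ ⟨p, hp⟩), ?_⟩
      rw [Subgroup.zpowers_le]
      intro q hq
      have hyc' : (y : PG) * c = c * y := mul_inv_eq_iff_eq_mul.mp e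
      have hyb'' : (y : PG) * b = b * y := mul_inv_eq_iff_eq_mul.mp hyb'
      rcases hcase q hq with rfl | rfl | rfl | rfl
      · simp
      · exact hyc'.symm
      · exact hyb''.symm
      · rw [mul_assoc, ← hyb'', ← mul_assoc, ← hyc', mul_assoc]
    set d := (y : PG) * c * (y : PG)⁻¹ with hd
    have hdQ : d ∈ (Q : Subgroup PG) := hyN c ha'
    have hd1 : d ≠ 1 := fun e => hc1 (conj_eq_one_iff.mp e)
    set f := (y : PG) * d * (y : PG)⁻¹ with hf
    have hfQ : f ∈ (Q : Subgroup PG) := hyN d hdQ
    have hf1 : f ≠ 1 := fun e => hd1 (conj_eq_one_iff.mp e)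
    have hfd : f ≠ d := fun e => hcfix (mul_left_cancel (mul_right_cancel e))
    have hfc : f ≠ c := by
      intro e
      refine hcfix ?_
      calc d = (y : PG) * f * (y : PG)⁻¹ := by rw [e, hd]
        _ = (y : PG) ^ 3 * c * ((y : PG) ^ 3)⁻¹ := by rw [hf, hd, pow_succ, pow_two]; group
        _ = c := by rw [hy3]; group
    have hfb : f ≠ b := fun e => hcon ((y : PG) * (y : PG) * g) (by
      rw [← e, hf, hd, hc]; group)
    have h5 : ({1, c, d, f, b} : Set PG).ncard = 5 := by
      rw [Set.ncard_insert_of_notMem (by simp [Ne.symm hc1, Ne.symm hd1, Ne.symm hf1, Ne.symm hb1]),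
        Set.ncard_insert_of_notMem (by simp [Ne.symm hcfix, Ne.symm hfc, hbc]),
        Set.ncard_insert_of_notMem (by simp [Ne.symm hfd, hyc]), Set.ncard_pair hfb]
    have hle := Set.ncard_le_ncard (s := ({1, c, d, f, b} : Set PG))
      (t := ((Q : Subgroup PG) : Set PG)) (by
        rintro z (rfl | rfl | rfl | rfl | rfl)
        exacts [one_mem _, ha', hdQ, hfQ, hbQ]) (Set.toFinite _)
    rw [h5, ← Nat.card_coe_set_eq, show Nat.card ((Q : Subgroup PG) : Set PG) = 4 from hQc] at hle
    omega
  obtain ⟨g, hg⟩ := hconj _ _ ht0 ht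
  have heq : Nat.card (Subgroup.centralizer ({t} : Set PG)) =
      Nat.card (Subgroup.centralizer ({x ^ 3} : Set PG)) := by
    have hmap : (Subgroup.centralizer ({x ^ 3} : Set PG)).map (MulAut.conj g).toMonoidHom =
        Subgroup.centralizer ({t} : Set PG) := by
      ext z
      rw [Subgroup.mem_map_equiv, Subgroup.mem_centralizer_singleton_iff,
        Subgroup.mem_centralizer_singleton_iff, MulAut.conj_symm_apply, ← hg]
      constructor <;> intro h
      · calc z * (g * x ^ 3 * g⁻¹) = g * ((g⁻¹ * z * g) * x ^ 3) * g⁻¹ := by group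
          _ = g * (x ^ 3 * (g⁻¹ * z * g)) * g⁻¹ := by rw [h]
          _ = g * x ^ 3 * g⁻¹ * z := by group
      · calc g⁻¹ * z * g * x ^ 3 = g⁻¹ * (z * (g * x ^ 3 * g⁻¹)) * g := by group
          _ = g⁻¹ * (g * x ^ 3 * g⁻¹ * z) * g := by rw [h]
          _ = x ^ 3 * (g⁻¹ * z * g) := by group
    rw [← hmap, Subgroup.card_map_of_injective (MulEquiv.injective _)]
  rw [← heq] at hC0
  have hne : Subgroup.centralizer ({t} : Set PG) ≠ ⊤ := by
    intro e
    haveI := simple_pg
    rcases Subgroup.Normal.eq_bot_or_eq_top (inferInstance : (Subgroup.center PG).Normal) with h | h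
    · exact ht1 (Subgroup.mem_bot.mp (h ▸ Subgroup.mem_center_iff.mpr fun z =>
        (Subgroup.mem_centralizer_singleton_iff.mp (e ▸ Subgroup.mem_top z))))
    · exact not_comm_pg ⟨⟨fun a b => (Subgroup.mem_center_iff.mp (h ▸ Subgroup.mem_top b) a)⟩⟩
  have h4 : 4 ∣ Nat.card (Subgroup.centralizer ({t} : Set PG)) := by
    obtain ⟨P, hP⟩ := (IsPGroup.of_card (n := 1) (by rw [Nat.card_zpowers, ht, pow_one]) :
      IsPGroup 2 (Subgroup.zpowers t)).exists_le_sylow
    obtain ⟨hPc, hPcomm, -⟩ := normalizer_two_card P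
    refine hPc ▸ Subgroup.card_dvd_of_le fun q hq => ?_
    rw [Subgroup.mem_centralizer_singleton_iff]
    exact congrArg Subtype.val (hPcomm.is_comm.comm ⟨q, hq⟩ ⟨t, hP (Subgroup.mem_zpowers t)⟩)
  have hmem := card_mem hne
  simp only [Finset.mem_insert, Finset.mem_singleton] at hmem
  rcases hmem with h | h | h | h | h | h | h | h | h | h | h | h <;> rw [h] at hC0 h4 ⊢ <;>
    omega

theorem normalizer_three_card (T : Sylow 3 PG) :
    Nat.card (T : Subgroup PG) = 3 ∧
      Nat.card (Subgroup.normalizer ((T : Subgroup PG) : Set PG)) = 12 := by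
  have hc : Nat.card (T : Subgroup PG) = 3 := sylow_card T 1 (by norm_num) (by norm_num)
  refine ⟨hc, ?_⟩
  obtain ⟨hN, hm⟩ := sylow_normalizer_card_dvd T
  obtain ⟨x, hx⟩ := exists_order_six
  have ho : orderOf (x ^ 2) = 3 := by rw [orderOf_pow' x (by norm_num), hx]; rfl
  obtain ⟨S, hS⟩ := (IsPGroup.of_card (n := 1) (by rw [Nat.card_zpowers, ho, pow_one]) :
    IsPGroup 3 (Subgroup.zpowers (x ^ 2))).exists_le_sylow
  have hSe : (S : Subgroup PG) = Subgroup.zpowers (x ^ 2) :=
    (Subgroup.eq_of_le_of_card_ge hS (by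
      rw [Nat.card_zpowers, ho, sylow_card S 1 (by norm_num) (by norm_num)]; norm_num)).symm
  have h6 : 6 ∣ Nat.card (Subgroup.normalizer ((S : Subgroup PG) : Set PG)) := by
    rw [← hx, hSe]
    refine Subgroup.orderOf_dvd_natCard _ (Subgroup.centralizer_le_normalizer _ ?_)
    intro z hz
    obtain ⟨i, rfl⟩ := Subgroup.mem_zpowers_iff.mp hz
    exact ((Commute.pow_self x 2).zpow_left i).eq
  have hsame : Nat.card (Subgroup.normalizer ((T : Subgroup PG) : Set PG)) =
      Nat.card (Subgroup.normalizer ((S : Subgroup PG) : Set PG)) := by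
    have h1 := (sylow_normalizer_card_dvd S).1
    refine Nat.eq_of_mul_eq_mul_left (Nat.card_pos (α := Sylow 3 PG)) ?_
    rw [hN, h1]
  rw [← hsame] at h6
  have hmem := normalizer_proper_card (H := (T : Subgroup PG))
    (fun e => by rw [e, Subgroup.card_bot] at hc; omega)
    (fun e => by rw [e, Subgroup.card_top, card_pg] at hc; omega)
  simp only [Finset.mem_insert, Finset.mem_singleton] at hmem
  rcases hmem with h | h | h | h | h | h | h | h | h | h | h | h <;> rw [h] at h6 hN ⊢ <;>
    norm_num at h6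
  all_goals omega

theorem thirteen_quotient (P : Sylow 13 PG) (H : Subgroup PG)
    (hPH : (P : Subgroup PG) ≤ H) (hH : H ≤ Subgroup.normalizer ((P : Subgroup PG) : Set PG)) :
    Subgroup.normalizer ((P : Subgroup PG) : Set PG) ≤ Subgroup.normalizer (H : Set PG) := by
  set N := Subgroup.normalizer ((P : Subgroup PG) : Set PG) with hNdef
  have hc := sylow_card P 1 (by norm_num) (by norm_num)
  rw [pow_one] at hc
  have hN := normalizer_thirteen_card P
  haveI hPcyc : IsCyclic (P : Subgroup PG) := isCyclic_of_prime_card hc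
  -- the centralizer of `P` is `P`
  set C := N ⊓ Subgroup.centralizer ((P : Subgroup PG) : Set PG) with hC
  have hPC : (P : Subgroup PG) ≤ C := le_inf Subgroup.le_normalizer
    (fun a ha b hb => congrArg Subtype.val (mul_comm' (⟨b, hb⟩ : (P : Subgroup PG)) ⟨a, ha⟩))
  have hC13 : Nat.card C = 13 := by
    have h13 : 13 ∣ Nat.card C := hc.symm.dvd.trans (Subgroup.card_dvd_of_le hPC)
    have h78 : Nat.card C ∣ 78 := hN ▸ Subgroup.card_dvd_of_le inf_le_left
    obtain ⟨c, hc'⟩ := h13
    rw [hc'] at h78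
    have hc6 : c ∣ 6 := Nat.dvd_of_mul_dvd_mul_left (show 0 < 13 by norm_num) h78
    have hno : ∀ p : ℕ, p.Prime → p ∣ c → False := by
      intro p hp hpc
      haveI : Fact p.Prime := ⟨hp⟩
      obtain ⟨t, ht⟩ := exists_prime_orderOf_dvd_card' (G := C) p (hc' ▸ hpc.mul_left 13)
      rw [← Subgroup.orderOf_coe] at ht
      have htC : (P : Subgroup PG) ≤ Subgroup.centralizer ({(t : PG)} : Set PG) := fun a ha => by
        rw [Subgroup.mem_centralizer_singleton_iff]
        exact t.2.2 a ha
      have hd : 13 ∣ Nat.card (Subgroup.centralizer ({(t : PG)} : Set PG)) :=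
        hc.symm.dvd.trans (Subgroup.card_dvd_of_le htC)
      rcases (show p = 2 ∨ p = 3 by
        have := Nat.le_of_dvd (by norm_num) (hpc.trans hc6)
        have h6 : p ∣ 6 := hpc.trans hc6
        interval_cases p <;> first | omega | (norm_num at hp)) with rfl | rfl
      · rw [centralizer_involution_card _ ht] at hd
        norm_num at hd
      · obtain ⟨T, hT⟩ := (IsPGroup.of_card (n := 1) (by rw [Nat.card_zpowers, ht, pow_one]) :
          IsPGroup 3 (Subgroup.zpowers (t : PG))).exists_le_sylow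
        obtain ⟨hTc, hTN⟩ := normalizer_three_card T
        have hTe : Subgroup.zpowers (t : PG) = T := Subgroup.eq_of_le_of_card_ge hT (by
          rw [Nat.card_zpowers, ht, hTc])
        have hle : Subgroup.centralizer ({(t : PG)} : Set PG) ≤
            Subgroup.normalizer ((T : Subgroup PG) : Set PG) := by
          rw [← hTe]
          refine le_trans ?_ (Subgroup.centralizer_le_normalizer _)
          intro z hz w hw
          obtain ⟨i, rfl⟩ := Subgroup.mem_zpowers_iff.mp hw
          exact ((show Commute z (t : PG) from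
            Subgroup.mem_centralizer_singleton_iff.mp hz).zpow_right i).eq.symm
        have := hd.trans (Subgroup.card_dvd_of_le hle)
        rw [hTN] at this
        norm_num at this
    have hc1 : c = 1 := by
      by_contra h
      obtain ⟨p, hp, hpc⟩ := Nat.exists_prime_and_dvd h
      exact hno p hp hpc
    rw [hc', hc1]
  have hCP : C = (P : Subgroup PG) :=
    (Subgroup.eq_of_le_of_card_ge hPC (by rw [hC13, hc])).symm
  -- commutators of `N` lie in `P`
  have hcomm : ∀ a ∈ N, ∀ b ∈ N, a * b * a⁻¹ * b⁻¹ ∈ (P : Subgroup PG) := by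
    intro a ha b hb
    rw [← hCP]
    refine ⟨N.mul_mem (N.mul_mem (N.mul_mem ha hb) (N.inv_mem ha)) (N.inv_mem hb), ?_⟩
    intro z hz
    obtain ⟨w, hw⟩ := IsCyclic.exists_generator (α := (P : Subgroup PG))
    have hex : ∀ g ∈ N, ∃ i : ℤ, ∀ u ∈ (P : Subgroup PG), g * u * g⁻¹ = u ^ i := by
      intro g hg
      obtain ⟨i, hi⟩ := Subgroup.mem_zpowers_iff.mp
        (hw ⟨g * (w : PG) * g⁻¹, (Subgroup.mem_normalizer_iff.mp hg _).mp w.2⟩)
      refine ⟨i, fun u hu => ?_⟩
      obtain ⟨j, hj⟩ := Subgroup.mem_zpowers_iff.mp (hw ⟨u, hu⟩)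
      have hj' : (w : PG) ^ j = u := congrArg Subtype.val hj
      have hi' : (w : PG) ^ i = g * (w : PG) * g⁻¹ := congrArg Subtype.val hi
      rw [← hj', ← conj_zpow, ← hi', ← zpow_mul, ← zpow_mul, mul_comm]
    obtain ⟨i, hi⟩ := hex a ha
    obtain ⟨j, hj⟩ := hex b hb
    have hab : ∀ u ∈ (P : Subgroup PG), a * b * u * (a * b)⁻¹ = b * a * u * (b * a)⁻¹ := by
      intro u hu
      calc a * b * u * (a * b)⁻¹ = a * (b * u * b⁻¹) * a⁻¹ := by group
        _ = a * u ^ j * a⁻¹ := by rw [hj u hu]
        _ = (u ^ i) ^ j := by rw [← conj_zpow, hi u hu]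
        _ = (u ^ j) ^ i := by rw [← zpow_mul, ← zpow_mul, mul_comm]
        _ = b * (u ^ i) * b⁻¹ := by rw [← hj u hu, conj_zpow]
        _ = b * a * u * (b * a)⁻¹ := by rw [← hi u hu]; group
    have hz' : a⁻¹ * b⁻¹ * z * (b * a) ∈ (P : Subgroup PG) := by
      have := (Subgroup.mem_normalizer_iff.mp (N.inv_mem (N.mul_mem hb ha)) z).mp hz
      simpa [mul_assoc] using this
    have h := hab _ hz'
    calc z * (a * b * a⁻¹ * b⁻¹) = (b * a * (a⁻¹ * b⁻¹ * z * (b * a)) * (b * a)⁻¹) *
          (a * b * a⁻¹ * b⁻¹) := by group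
      _ = (a * b * (a⁻¹ * b⁻¹ * z * (b * a)) * (a * b)⁻¹) * (a * b * a⁻¹ * b⁻¹) := by rw [h]
      _ = a * b * a⁻¹ * b⁻¹ * z := by group
  intro g hg
  rw [Subgroup.mem_normalizer_iff]
  intro h
  constructor
  · intro hh
    simpa [mul_assoc] using H.mul_mem (hPH (hcomm g hg h (hH hh))) hh
  · intro hh
    have h1 := H.mul_mem (hPH (hcomm g⁻¹ (N.inv_mem hg) _ (hH hh))) hh
    simpa [mul_assoc] using h1

/-- Every non-trivial proper subgroup has a maximal normalizer. -/
theorem isCoatom_normalizer {H : Subgroup PG} (h1 : H ≠ ⊥) (h2 : H ≠ ⊤) :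
    IsCoatom (Subgroup.normalizer (H : Set PG)) := by
  have key : Nat.card (Subgroup.normalizer (H : Set PG)) ∈ ({12, 14, 78} : Finset ℕ) := by
    have hN := normalizer_proper_card h1 h2
    simp only [Finset.mem_insert, Finset.mem_singleton] at hN
    have hle := Subgroup.card_dvd_of_le (Subgroup.le_normalizer (H := H))
    have hmem := card_mem h2
    simp only [Finset.mem_insert, Finset.mem_singleton] at hmem ⊢
    by_cases h13 : 13 ∣ Nat.card H
    · haveI : Fact (Nat.Prime 13) := fact13
      obtain ⟨x, hx⟩ := exists_prime_orderOf_dvd_card' (G := H) 13 h13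
      rw [← Subgroup.orderOf_coe] at hx
      obtain ⟨P, hP⟩ := (IsPGroup.of_card (n := 1) (by rw [Nat.card_zpowers, hx, pow_one]) :
        IsPGroup 13 (Subgroup.zpowers (x : PG))).exists_le_sylow
      have hPc := sylow_card P 1 (by norm_num) (by norm_num)
      have hPe : Subgroup.zpowers (x : PG) = P := Subgroup.eq_of_le_of_card_ge hP (by
        rw [Nat.card_zpowers, hx, hPc]; norm_num)
      have hPH : (P : Subgroup PG) ≤ H := hPe ▸ Subgroup.zpowers_le.mpr x.2
      -- `P` is normal in `H`
      have hHN : H ≤ Subgroup.normalizer ((P : Subgroup PG) : Set PG) := by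
        let PH : Sylow 13 H := P.subtype hPH
        have hn : Nat.card (Sylow 13 H) = 1 := by
          have hm : Nat.card (Sylow 13 H) % 13 = 1 := card_sylow_modEq_one 13 H
          have hd : Nat.card (Sylow 13 H) * 13 ∣ Nat.card H := by
            rw [PH.card_eq_index_normalizer]
            have h3 := Subgroup.card_dvd_of_le (Subgroup.le_normalizer (H := (PH : Subgroup H)))
            rw [show Nat.card (PH : Subgroup H) = 13 by
              rw [show (PH : Subgroup H) = (P : Subgroup PG).subgroupOf H from rfl,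
                Nat.card_congr (Subgroup.subgroupOfEquivOfLe hPH).toEquiv, hPc, pow_one]] at h3
            rw [mul_comm]
            exact (Nat.mul_dvd_mul_right h3 _).trans (Subgroup.card_mul_index _).dvd
          have hpos : 0 < Nat.card (Sylow 13 H) := Nat.card_pos
          obtain ⟨c, hc⟩ := hd
          rcases hmem with h | h | h | h | h | h | h | h | h | h | h | h <;> rw [h] at hc h13
          all_goals (try omega)
          all_goals
            have hle' : Nat.card (Sylow 13 H) * 13 ≤ 78 := by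
              have : 0 < c := by
                rcases Nat.eq_zero_or_pos c with rfl | hc0
                · omega
                · exact hc0
              nlinarith
            omega
        haveI : Subsingleton (Sylow 13 H) := (Nat.card_eq_one_iff_unique.mp hn).1
        have hnorm : (PH : Subgroup H).Normal := Sylow.normal_of_subsingleton PH
        exact (Subgroup.normal_subgroupOf_iff_le_normalizer hPH).mp hnorm
      have hd := Subgroup.card_dvd_of_le (thirteen_quotient P H hPH hHN)
      rw [normalizer_thirteen_card P] at hd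
      omega
    by_cases h7 : 7 ∣ Nat.card H
    · rcases hmem with h | h | h | h | h | h | h | h | h | h | h | h <;> rw [h] at h7 <;>
        norm_num at h7
      all_goals rw [h] at h13 hle
      all_goals (try omega)
      · haveI : Fact (Nat.Prime 7) := ⟨by norm_num⟩
        obtain ⟨P, hP⟩ := (IsPGroup.of_card (n := 1) (by rw [h, pow_one]) :
          IsPGroup 7 H).exists_le_sylow
        have hPc := sylow_card P 1 (by norm_num) (by norm_num)
        have hPe : H = P := Subgroup.eq_of_le_of_card_ge hP (by rw [hPc, h]; norm_num)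
        obtain ⟨hn, hm⟩ := sylow_normalizer_card_dvd P
        rw [← hPe] at hn
        rcases hN with e | e | e | e | e | e | e | e | e | e | e | e <;> rw [e] at hle hn <;> omega
    by_cases h12 : 12 ∣ Nat.card H
    · have := h12.trans hle
      omega
    haveI : Fact (Nat.Prime 2) := ⟨Nat.prime_two⟩
    haveI : Fact (Nat.Prime 3) := ⟨Nat.prime_three⟩
    rcases hmem with h | h | h | h | h | h | h | h | h | h | h | h <;> rw [h] at h7 h12 h13 hle
    all_goals (try omega)
    · exact absurd (Subgroup.card_eq_one.mp h) h1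
    · -- order two
      obtain ⟨t, ht⟩ := exists_prime_orderOf_dvd_card' (G := H) 2 (by rw [h])
      rw [← Subgroup.orderOf_coe] at ht
      have hC := centralizer_involution_card (t : PG) ht
      have hle' : Subgroup.centralizer ({(t : PG)} : Set PG) ≤ Subgroup.normalizer (H : Set PG) := by
        have he : Subgroup.zpowers (t : PG) = H := Subgroup.eq_of_le_of_card_ge
          (Subgroup.zpowers_le.mpr t.2) (by rw [Nat.card_zpowers, ht, h])
        refine le_of_le_of_eq (le_trans ?_ (Subgroup.centralizer_le_normalizer _))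
          (congrArg (fun K : Subgroup PG => Subgroup.normalizer (K : Set PG)) he)
        intro z hz w hw
        obtain ⟨i, rfl⟩ := Subgroup.mem_zpowers_iff.mp hw
        exact ((show Commute z (t : PG) from
          Subgroup.mem_centralizer_singleton_iff.mp hz).zpow_right i).eq.symm
      have hd := Subgroup.card_dvd_of_le hle'
      rw [hC] at hd
      omega
    · -- order three
      obtain ⟨T, hT⟩ := (IsPGroup.of_card (n := 1) (by rw [h, pow_one]) :
        IsPGroup 3 H).exists_le_sylow
      obtain ⟨hTc, hTN⟩ := normalizer_three_card T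
      have hTe : H = T := Subgroup.eq_of_le_of_card_ge hT (by rw [hTc, h])
      rw [hTe, hTN]
      omega
    · -- order four
      obtain ⟨P, hP⟩ := (IsPGroup.of_card (n := 2) (by rw [h]; norm_num) :
        IsPGroup 2 H).exists_le_sylow
      obtain ⟨hPc, -, hPN⟩ := normalizer_two_card P
      have hPe : H = P := Subgroup.eq_of_le_of_card_ge hP (by rw [hPc, h])
      rw [hPe, hPN]
      omega
    · -- order six
      obtain ⟨t, ht⟩ := exists_prime_orderOf_dvd_card' (G := H) 3 (by rw [h]; norm_num)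
      rw [← Subgroup.orderOf_coe] at ht
      obtain ⟨T, hT⟩ := (IsPGroup.of_card (n := 1) (by rw [Nat.card_zpowers, ht, pow_one]) :
        IsPGroup 3 (Subgroup.zpowers (t : PG))).exists_le_sylow
      obtain ⟨hTc, hTN⟩ := normalizer_three_card T
      have hTe : Subgroup.zpowers (t : PG) = T := Subgroup.eq_of_le_of_card_ge hT (by
        rw [Nat.card_zpowers, ht, hTc])
      have hTH : (T : Subgroup PG) ≤ H := hTe ▸ Subgroup.zpowers_le.mpr t.2
      haveI hn1 : ((T : Subgroup PG).subgroupOf H).Normal := Subgroup.normal_of_index_eq_two (by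
        have h3 := ((T : Subgroup PG).subgroupOf H).card_mul_index
        rw [Nat.card_congr (Subgroup.subgroupOfEquivOfLe hTH).toEquiv, hTc, h] at h3
        omega)
      have hHN : H ≤ Subgroup.normalizer ((T : Subgroup PG) : Set PG) :=
        (Subgroup.normal_subgroupOf_iff_le_normalizer hTH).mp hn1
      have hidx : (H.subgroupOf (Subgroup.normalizer ((T : Subgroup PG) : Set PG))).Normal :=
        Subgroup.normal_of_index_eq_two (by
          have h3 := (H.subgroupOf (Subgroup.normalizer ((T : Subgroup PG) : Set PG))).card_mul_index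
          rw [Nat.card_congr (Subgroup.subgroupOfEquivOfLe hHN).toEquiv, hTN, h] at h3
          omega)
      have hd := Subgroup.card_dvd_of_le
        ((Subgroup.normal_subgroupOf_iff_le_normalizer hHN).mp hidx)
      rw [hTN] at hd
      omega
  refine ⟨normalizer_ne_top h1 h2, fun M hM => ?_⟩
  by_contra hMt
  have hmem := card_mem hMt
  have hd := Subgroup.card_dvd_of_le hM.le
  have hne : Nat.card (Subgroup.normalizer (H : Set PG)) ≠ Nat.card M := fun e =>
    hM.ne (Subgroup.eq_of_le_of_card_ge hM.le e.ge)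
  simp only [Finset.mem_insert, Finset.mem_singleton] at hmem key
  rcases key with e | e | e <;> rw [e] at hd hne <;> omega

end Cfsg.Agent.GroupStructure3.PSLThirteen
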