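import Mathlib

/-!
Small facts on permutation groups.
-/

set_option autoImplicit false

namespace Cfsg.Agent.GroupStructure3.PermNormal

open Equiv Subgroup

variable {α : Type*}

theorem eq_bot_of_coprime [Finite α] [DecidableEq α] (N : Subgroup (Perm α)) [N.Normal]
    (h : (Nat.card N).Coprime (Nat.card α)) : N = ⊥ := by
  haveI : MulAction.IsPretransitive (Perm α) α := ⟨fun a b => ⟨swap a b, swap_apply_left a b⟩⟩
  refine eq_bot_iff.2 fun n hn => mem_bot.2 (Equiv.ext fun a => ?_)
  have h1 : (MulAction.orbit N a).ncard ∣ Nat.card α :=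
    (MulAction.IsBlock.orbit_of_normal (G := Perm α) a).ncard_dvd_card (MulAction.nonempty_orbit a)
  have h2 : (MulAction.orbit N a).ncard ∣ Nat.card N := by
    rw [← MulAction.index_stabilizer]
    exact index_dvd_card _
  obtain ⟨b, hb⟩ := Set.ncard_eq_one.1 (Nat.eq_one_of_dvd_coprimes h h2 h1)
  have e1 : n a ∈ MulAction.orbit N a := ⟨⟨n, hn⟩, rfl⟩
  have e2 := MulAction.mem_orbit_self (M := N) a
  rw [hb, Set.mem_singleton_iff] at e1 e2
  rw [e1, Perm.one_apply, e2]

theorem cycleType_prod_formPerm [Fintype α] [DecidableEq α] :
    ∀ (l : List (List α)), l.flatten.Nodup → (∀ x ∈ l, 2 ≤ x.length) →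
      ((l.map List.formPerm).prod).cycleType = ((l.map List.length : List ℕ) : Multiset ℕ) ∧
        ∀ a, (l.map List.formPerm).prod a ≠ a → a ∈ l.flatten
  | [], _, _ => by simp
  | x :: l, hnd, hlen => by
    rw [List.flatten_cons, List.nodup_append] at hnd
    obtain ⟨hx, hl, hdisj⟩ := hnd
    obtain ⟨ih1, ih2⟩ := cycleType_prod_formPerm l hl fun y hy => hlen y (List.mem_cons_of_mem _ hy)
    have hd : Perm.Disjoint x.formPerm (l.map List.formPerm).prod := by
      intro a
      by_contra hc
      push Not at hc
      exact hdisj a (List.mem_of_formPerm_apply_ne hc.1) a (ih2 a hc.2) rfl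
    have h2 : 2 ≤ x.length := hlen x List.mem_cons_self
    refine ⟨?_, fun a ha => ?_⟩
    · rw [List.map_cons, List.prod_cons, hd.cycleType_mul, ih1,
        (List.isCycle_formPerm hx h2).cycleType, List.support_formPerm_of_nodup x hx (by
          rintro y rfl; simp at h2), List.toFinset_card_of_nodup hx]
      rfl
    · rw [List.flatten_cons, List.mem_append]
      by_contra hc
      push Not at hc
      apply ha
      rw [List.map_cons, List.prod_cons, Perm.mul_apply]
      rw [not_not.1 fun h => hc.2 (ih2 a h)]
      exact List.formPerm_apply_of_notMem hc.1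

/-- A labelling preserved by every transposition of a list, with few coincidences. -/
theorem exists_label [Fintype α] [DecidableEq α] :
    ∀ (l : List (Perm α)), (∀ s ∈ l, s.IsSwap) →
      ∃ f : α → α, (∀ s ∈ l, ∀ a, f (s a) = f a) ∧
        Fintype.card α ≤ (Finset.univ.image f).card + l.length
  | [], _ => ⟨id, by simp, by simp⟩
  | t :: l, ht => by
    obtain ⟨f, hf, hc⟩ := exists_label l fun s hs => ht s (List.mem_cons_of_mem _ hs)
    obtain ⟨a, b, hab, rfl⟩ := ht t List.mem_cons_self
    by_cases hfab : f a = f b
    · refine ⟨f, ?_, by simp only [List.length_cons]; omega⟩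
      intro s hs' c
      rcases List.mem_cons.1 hs' with rfl | hs'
      · rcases eq_or_ne c a with rfl | hca
        · rw [swap_apply_left, hfab]
        rcases eq_or_ne c b with rfl | hcb
        · rw [swap_apply_right, hfab]
        · rw [swap_apply_of_ne_of_ne hca hcb]
      · exact hf s hs' c
    refine ⟨fun c => if f c = f a then f b else f c, ?_, ?_⟩
    · intro s hs' c
      rcases List.mem_cons.1 hs' with rfl | hs'
      · rcases eq_or_ne c a with rfl | hca
        · rw [swap_apply_left]
          simp
        rcases eq_or_ne c b with rfl | hcb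
        · rw [swap_apply_right]
          simp
        · rw [swap_apply_of_ne_of_ne hca hcb]
      · simp only [hf s hs' c]
    · have h1 : Finset.univ.image f ⊆
          insert (f a) (Finset.univ.image fun c => if f c = f a then f b else f c) := by
        intro y hy
        obtain ⟨c, -, rfl⟩ := Finset.mem_image.1 hy
        by_cases h : f c = f a
        · rw [h]; exact Finset.mem_insert_self _ _
        · exact Finset.mem_insert_of_mem (Finset.mem_image.2 ⟨c, Finset.mem_univ _, by simp [h]⟩)
      have h2 := (Finset.card_le_card h1).trans (Finset.card_insert_le _ _)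
      simp only [List.length_cons]
      omega

/-- The fibres of such a labelling are small. -/
theorem card_fiber_le [Fintype α] [DecidableEq α] {f : α → α} {k : ℕ}
    (h : Fintype.card α ≤ (Finset.univ.image f).card + k) (v : α) :
    (Finset.univ.filter fun d => f d = v).card ≤ k + 1 := by
  have h1 : Finset.univ.image f ⊆ insert v ((Finset.univ.filter fun d => ¬ f d = v).image f) := by
    intro y hy
    obtain ⟨c, -, rfl⟩ := Finset.mem_image.1 hy
    by_cases hc : f c = v
    · rw [hc]; exact Finset.mem_insert_self _ _
    · exact Finset.mem_insert_of_mem (Finset.mem_image_of_mem _ (by simp [hc]))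
  have h2 := (Finset.card_le_card h1).trans (Finset.card_insert_le _ _)
  have h3 : ((Finset.univ.filter fun d => ¬ f d = v).image f).card ≤
      (Finset.univ.filter fun d => ¬ f d = v).card := Finset.card_image_le
  have h4 := Finset.card_filter_add_card_filter_not (s := (Finset.univ : Finset α))
    (fun d => f d = v)
  rw [Finset.card_univ] at h4
  omega

/-- The permutations preserving every fibre of `f`. -/
def fiberSub (f : α → α) : Subgroup (Perm α) where
  carrier := {s | ∀ a, f (s a) = f a}
  one_mem' := fun _ => rfl
  mul_mem' := fun {s t} hs ht a => (hs _).trans (ht a)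
  inv_mem' := fun {s} hs a => by
    have h := hs (s⁻¹ a)
    rw [← Perm.mul_apply, mul_inv_cancel, Perm.one_apply] at h
    exact h.symm

theorem mem_fiberSub {f : α → α} {s : Perm α} : s ∈ fiberSub f ↔ ∀ a, f (s a) = f a := Iff.rfl

end Cfsg.Agent.GroupStructure3.PermNormal
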