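import Mathlib
import Cfsg.Prelude.Def_KGroupFacts

/-!
The outer automorphism group of a simple group with a subgroup of prime index is solvable: the
automorphisms centralizing a Sylow subgroup of that order are realized by commuting operators on
the permutation module in characteristic `p`.
-/

set_option autoImplicit false

namespace Cfsg.Agent.GroupStructure3.PrimeIndexOut

variable {G : Type*} [Group G] [Finite G] {p : ℕ} [hp : Fact p.Prime]

/-- The permutation operators on functions. -/
def op (H : Subgroup G) (g : G) : ((G ⧸ H) → ZMod p) →ₗ[ZMod p] ((G ⧸ H) → ZMod p) where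
  toFun f x := f (g⁻¹ • x)
  map_add' _ _ := rfl
  map_smul' _ _ := rfl

theorem op_mul (H : Subgroup G) (g h : G) (f : (G ⧸ H) → ZMod p) :
    op H (g * h) f = op H g (op H h f) := by
  funext x; simp [op, mul_smul]

theorem op_one (H : Subgroup G) (f : (G ⧸ H) → ZMod p) : op H 1 f = f := by
  funext x; simp [op]

theorem op_injective {H : Subgroup G} (hcore : H.normalCore = ⊥) {g h : G}
    (he : ∀ f : (G ⧸ H) → ZMod p, op H g f = op H h f) : g = h := by
  classical
  have hfix : ∀ x : G ⧸ H, g⁻¹ • x = h⁻¹ • x := by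
    intro x
    have := congrFun (he (fun y => if y = h⁻¹ • x then 1 else 0)) x
    by_contra hne
    simp [op, hne] at this
  have : (h * g⁻¹) ∈ (MulAction.toPermHom G (G ⧸ H)).ker := by
    rw [MonoidHom.mem_ker]
    ext x
    simp [MulAction.toPermHom_apply, mul_smul, hfix]
  rw [← Subgroup.normalCore_eq_ker, hcore, Subgroup.mem_bot, mul_inv_eq_one] at this
  exact this.symm

variable {H : Subgroup G}

/-- A bijective intertwiner of the permutation module with its twist by an automorphism fixing
`P` pointwise, commuting with `P`. -/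
theorem exists_intertwiner (hH : ¬ p ∣ Nat.card H) (hidx : H.index = p) {P : Subgroup G}
    (hP : Nat.card P = p) (c : MulAut G) (hc : ∀ u ∈ P, c u = u) :
    ∃ φ : ((G ⧸ H) → ZMod p) →ₗ[ZMod p] ((G ⧸ H) → ZMod p), Function.Bijective φ ∧
      (∀ g f, φ (op H g f) = op H (c g) (φ f)) ∧ ∀ u ∈ P, ∀ f, φ (op H u f) = op H u (φ f) := by
  classical
  haveI := Fintype.ofFinite (G ⧸ H)
  haveI := Fintype.ofFinite H
  set o : G ⧸ H := ((1 : G) : G ⧸ H) with ho
  let δ : (G ⧸ H) → ZMod p := fun y => if y = o then 1 else 0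
  let w : (G ⧸ H) → ZMod p := ∑ h : H, op H (c h) δ
  have hw : ∀ h : H, op H (c h) w = w := by
    intro h
    simp only [w, map_sum, ← op_mul, ← map_mul]
    exact Fintype.sum_equiv (Equiv.mulLeft h) _ _ (fun k => rfl)
  let v : G ⧸ H → ((G ⧸ H) → ZMod p) := fun x => op H (c x.out) w
  have hv : ∀ g : G, v (g : G ⧸ H) = op H (c g) w := by
    intro g
    obtain ⟨h, hh⟩ := QuotientGroup.mk_out_eq_mul H g
    change op H (c (Quotient.out (g : G ⧸ H))) w = _
    rw [hh, map_mul, op_mul, hw]
  have hvsmul : ∀ (g : G) (x : G ⧸ H), v (g • x) = op H (c g) (v x) := by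
    intro g x
    induction x using QuotientGroup.induction_on with | _ a => ?_
    rw [MulAction.Quotient.smul_coe, smul_eq_mul, hv, hv, map_mul, op_mul]
  let φ : ((G ⧸ H) → ZMod p) →ₗ[ZMod p] ((G ⧸ H) → ZMod p) :=
    { toFun := fun f => ∑ x, f x • v x
      map_add' := fun f g => by simp [add_smul, Finset.sum_add_distrib]
      map_smul' := fun a f => by simp [Finset.smul_sum, smul_smul] }
  have hint : ∀ g f, φ (op H g f) = op H (c g) (φ f) := by
    intro g f
    change ∑ x, f (g⁻¹ • x) • v x = op H (c g) (∑ x, f x • v x)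
    rw [map_sum]
    refine (Fintype.sum_equiv (MulAction.toPerm g) (fun x => op H (c g) (f x • v x))
      (fun x => f (g⁻¹ • x) • v x) fun x => ?_).symm
    rw [MulAction.toPerm_apply, inv_smul_smul, hvsmul, map_smul]
  have hPeq : ∀ u ∈ P, ∀ f, φ (op H u f) = op H u (φ f) := fun u hu f => by rw [hint, hc u hu]
  refine ⟨φ, ?_, hint, hPeq⟩
  rw [← Finite.injective_iff_bijective, injective_iff_map_eq_zero]
  by_contra hker
  push Not at hker
  obtain ⟨f₀, hf₀, hne⟩ := hker
  -- a non-zero fixed point of `P` in the kernel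
  letI : MulAction P (LinearMap.ker φ) :=
    { smul := fun u f => ⟨op H u f.1, by
        rw [LinearMap.mem_ker, hPeq u u.2, LinearMap.mem_ker.mp f.2, map_zero]⟩
      one_smul := fun f => Subtype.ext (op_one H f.1)
      mul_smul := fun a b f => Subtype.ext (op_mul H a b f.1) }
  have hdvd : p ∣ Nat.card (LinearMap.ker φ) := by
    rw [Module.natCard_eq_pow_finrank (K := ZMod p), Nat.card_zmod]
    refine dvd_pow_self p fun h0 => hne ?_
    have hbot := Submodule.finrank_eq_zero.mp h0
    have : f₀ ∈ LinearMap.ker φ := hf₀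
    rw [hbot, Submodule.mem_bot] at this
    exact this
  obtain ⟨⟨f, hf⟩, hfix, hne0⟩ :=
    (IsPGroup.of_card (G := P) (n := 1) (by rw [hP, pow_one])).exists_fixed_point_of_prime_dvd_card_of_fixed_point
      _ hdvd (a := (0 : LinearMap.ker φ)) (fun u => Subtype.ext (map_zero (op H (u : G))))
  have htrans : ∀ x : G ⧸ H, ∃ u : P, (u : G) • o = x := by
    have hinj : Function.Injective fun u : P => (u : G) • o := by
      intro a b hab
      simp only [ho, MulAction.Quotient.smul_coe, smul_eq_mul, mul_one, QuotientGroup.eq] at hab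
      have h1 : orderOf ((a : G)⁻¹ * b) ∣ Nat.gcd p (Nat.card H) := Nat.dvd_gcd
        (hP ▸ P.orderOf_dvd_natCard (mul_mem (inv_mem a.2) b.2)) (H.orderOf_dvd_natCard hab)
      rw [(hp.out.coprime_iff_not_dvd.mpr hH).gcd_eq_one, Nat.dvd_one, orderOf_eq_one_iff,
        inv_mul_eq_one] at h1
      exact Subtype.ext h1
    have hb : Function.Bijective fun u : P => (u : G) • o :=
      (Nat.bijective_iff_injective_and_card _).mpr ⟨hinj, by rw [hP, ← Subgroup.index_eq_card, hidx]⟩
    exact hb.2
  have hconst : f = fun _ => f o := by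
    funext x
    obtain ⟨u, rfl⟩ := htrans x
    have h1 : op H u f = f := congrArg Subtype.val (hfix u)
    have h2 := congrFun h1 ((u : G) • o)
    simp only [op, LinearMap.coe_mk, AddHom.coe_mk, inv_smul_smul] at h2
    exact h2.symm
  have h0 : φ f = 0 := hf
  apply hne0
  refine Subtype.ext ?_
  change (0 : (G ⧸ H) → ZMod p) = f
  have hwsum : ∑ x, w x = (Fintype.card H : ZMod p) := by
    simp only [w, Finset.sum_apply]
    rw [Finset.sum_comm]
    have : ∀ h : H, ∑ x, op H (c h) δ x = 1 := fun h => by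
      simp only [op, LinearMap.coe_mk, AddHom.coe_mk, δ, inv_smul_eq_iff]
      simp
    simp [this]
  have hone : φ f o = f o * (Fintype.card H : ZMod p) := by
    conv_lhs => rw [hconst]
    change (∑ x, f o • v x) o = _
    rw [Finset.sum_apply]
    simp only [Pi.smul_apply, smul_eq_mul, ← Finset.mul_sum]
    congr 1
    rw [← hwsum]
    choose u hu using htrans
    refine Fintype.sum_bijective (fun x => (u x : G)⁻¹ • o) ?_ _ _ fun x => ?_
    · rw [← Finite.injective_iff_bijective]
      intro x y hxy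
      simp only [ho, MulAction.Quotient.smul_coe, smul_eq_mul, mul_one, QuotientGroup.eq,
        inv_inv] at hxy
      have h1 : orderOf ((u x : G) * (u y : G)⁻¹) ∣ Nat.gcd p (Nat.card H) := Nat.dvd_gcd
        (hP ▸ P.orderOf_dvd_natCard (mul_mem (u x).2 (inv_mem (u y).2))) (H.orderOf_dvd_natCard hxy)
      rw [(hp.out.coprime_iff_not_dvd.mpr hH).gcd_eq_one, Nat.dvd_one, orderOf_eq_one_iff,
        mul_inv_eq_one] at h1
      rw [← hu x, h1, hu y]
    · conv_lhs => rw [← hu x]
      rw [ho, MulAction.Quotient.smul_coe, smul_eq_mul, mul_one, hv, hc _ (u x).2]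
      rfl
  rw [h0, Pi.zero_apply] at hone
  have hH' : (Fintype.card H : ZMod p) ≠ 0 := by
    rwa [← Nat.card_eq_fintype_card, Ne, ZMod.natCast_eq_zero_iff]
  have : f o = 0 := (mul_eq_zero.mp hone.symm).resolve_right hH'
  funext x
  rw [hconst]
  exact this.symm

/-- Two such automorphisms commute. -/
theorem commute_of_fixing (hcore : H.normalCore = ⊥) (hH : ¬ p ∣ Nat.card H) (hidx : H.index = p)
    {P : Subgroup G} (hP : Nat.card P = p) (c d : MulAut G) (hc : ∀ u ∈ P, c u = u)
    (hd : ∀ u ∈ P, d u = u) : c * d = d * c := by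
  classical
  obtain ⟨φ, hφb, hφ, hφP⟩ := exists_intertwiner hH hidx hP c hc
  obtain ⟨ψ, hψb, hψ, hψP⟩ := exists_intertwiner hH hidx hP d hd
  haveI := Fintype.ofFinite P
  set o : G ⧸ H := ((1 : G) : G ⧸ H)
  have hb : Function.Bijective fun u : P => (u : G) • o := by
    refine (Nat.bijective_iff_injective_and_card _).mpr ⟨?_, by rw [hP, ← Subgroup.index_eq_card, hidx]⟩
    intro a b hab
    simp only [o, MulAction.Quotient.smul_coe, smul_eq_mul, mul_one, QuotientGroup.eq] at hab
    have h1 : orderOf ((a : G)⁻¹ * b) ∣ Nat.gcd p (Nat.card H) := Nat.dvd_gcd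
      (hP ▸ P.orderOf_dvd_natCard (mul_mem (inv_mem a.2) b.2)) (H.orderOf_dvd_natCard hab)
    rw [(hp.out.coprime_iff_not_dvd.mpr hH).gcd_eq_one, Nat.dvd_one, orderOf_eq_one_iff,
      inv_mul_eq_one] at h1
    exact Subtype.ext h1
  let δ : (G ⧸ H) → ZMod p := fun y => if y = o then 1 else 0
  have hdec : ∀ f : (G ⧸ H) → ZMod p, f = ∑ u : P, f ((u : G) • o) • op H (u : G) δ := by
    intro f
    funext x
    obtain ⟨u, rfl⟩ := hb.2 x
    rw [Finset.sum_apply, Finset.sum_eq_single u]
    · simp [op, δ]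
    · intro b _ hbu
      have : (b : G)⁻¹ • ((u : G) • o) ≠ o := fun h => hbu (hb.1 (inv_smul_eq_iff.mp h).symm)
      simp [op, δ, this]
    · exact fun h => absurd (Finset.mem_univ u) h
  have hψe : ∀ f, ψ f = ∑ u : P, (ψ δ) ((u : G) • o) • op H (u : G) f := by
    intro f
    conv_lhs => rw [hdec f, map_sum]
    conv_rhs => enter [2, u]; rw [hdec f, map_sum, Finset.smul_sum]
    rw [Finset.sum_comm]
    refine Finset.sum_congr rfl fun t _ => ?_
    rw [map_smul, hψP _ t.2]
    conv_lhs => rw [hdec (ψ δ), map_sum, Finset.smul_sum]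
    refine Finset.sum_congr rfl fun u _ => ?_
    rw [map_smul, map_smul, smul_comm, ← op_mul, ← op_mul]
    have hcomm : (u : G) * t = t * u := by
      haveI : IsCyclic P := isCyclic_of_prime_card hP
      exact congrArg Subtype.val ((IsCyclic.commGroup (α := P)).mul_comm u t)
    rw [hcomm]
  have hcomm : ∀ f, φ (ψ f) = ψ (φ f) := by
    intro f
    rw [hψe f, hψe (φ f), map_sum]
    exact Finset.sum_congr rfl fun u _ => by rw [map_smul, hφP _ u.2]
  ext g
  change c (d g) = d (c g)
  refine op_injective (H := H) (p := p) hcore fun f => ?_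
  obtain ⟨f, rfl⟩ := (hφb.comp hψb).2 f
  change op H (c (d g)) (φ (ψ f)) = op H (d (c g)) (φ (ψ f))
  calc op H (c (d g)) (φ (ψ f)) = φ (ψ (op H g f)) := by rw [hψ, hφ]
    _ = ψ (φ (op H g f)) := hcomm _
    _ = op H (d (c g)) (ψ (φ f)) := by rw [hφ, hψ]
    _ = _ := by rw [hcomm]

/-- The outer automorphism group is solvable. -/
theorem isSolvable_out [IsSimpleGroup G] (H : Subgroup G) (hidx : H.index = p) :
    Group.IsSolvable (Cfsg.Out G) := by
  classical
  have hHtop : H ≠ ⊤ := fun h => hp.out.ne_one (by rw [← hidx, h, Subgroup.index_top])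
  have hcore : H.normalCore = ⊥ := (H.normalCore_normal.eq_bot_or_eq_top).resolve_right fun h =>
    hHtop (top_le_iff.mp (h ▸ H.normalCore_le))
  have hfact : Nat.card G ∣ p.factorial := by
    have h1 := Subgroup.card_dvd_of_injective (MulAction.toPermHom G (G ⧸ H))
      ((MonoidHom.ker_eq_bot_iff _).mp (by rw [← Subgroup.normalCore_eq_ker, hcore]))
    rwa [Nat.card_perm, ← Subgroup.index_eq_card, hidx] at h1
  have hsq : ¬ p ^ 2 ∣ Nat.card G := by
    intro h
    have h1 := h.trans hfact
    rw [sq, ← Nat.mul_factorial_pred hp.out.ne_zero] at h1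
    have h2 := (hp.out.dvd_factorial).mp (Nat.dvd_of_mul_dvd_mul_left hp.out.pos h1)
    have := hp.out.pos
    omega
  have hcard : Nat.card G = Nat.card H * p := by rw [← hidx, Subgroup.card_mul_index]
  have hH : ¬ p ∣ Nat.card H := fun h => hsq (by rw [sq, hcard]; exact mul_dvd_mul_right h p)
  have hpG : p ∣ Nat.card G := hcard ▸ dvd_mul_left _ _
  obtain ⟨P⟩ := (inferInstance : Nonempty (Sylow p G))
  have hP : Nat.card (P : Subgroup G) = p := by
    obtain ⟨v, hv⟩ := P.2.exists_card_eq
    have h1 : 1 ≤ v := by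
      have := P.pow_dvd_card_of_pow_dvd_card (show p ^ 1 ∣ Nat.card G by rwa [pow_one])
      rw [hv, Nat.pow_dvd_pow_iff_le_right hp.out.one_lt] at this
      exact this
    have h2 : v < 2 := by
      by_contra h2
      exact hsq ((pow_dvd_pow p (not_lt.mp h2)).trans (hv ▸ Subgroup.card_subgroup_dvd_card _))
    rw [hv, show v = 1 by omega, pow_one]
  let N : Subgroup (MulAut G) :=
    { carrier := {α | ∀ x, α x ∈ (P : Subgroup G) ↔ x ∈ (P : Subgroup G)}
      one_mem' := fun x => Iff.rfl
      mul_mem' := fun {a b} ha hb x => (ha (b x)).trans (hb x)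
      inv_mem' := fun {a} ha x => by
        have := ha (a⁻¹ x)
        rw [MulAut.apply_inv_self] at this
        exact this.symm }
  let res : N →* MulAut (P : Subgroup G) :=
    { toFun := fun α =>
        { toFun := fun u => ⟨(α : MulAut G) u, (α.2 u).mpr u.2⟩
          invFun := fun u => ⟨(α : MulAut G).symm u, (α.2 _).mp (by simp)⟩
          left_inv := fun u => Subtype.ext (by simp)
          right_inv := fun u => Subtype.ext (by simp)
          map_mul' := fun u v => Subtype.ext (by simp) }
      map_one' := rfl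
      map_mul' := fun α β => rfl }
  have hker : ∀ α ∈ res.ker, ∀ u ∈ (P : Subgroup G), (α : MulAut G) u = u := fun α hα u hu =>
    congrArg Subtype.val (DFunLike.congr_fun hα ⟨u, hu⟩)
  haveI : Group.IsSolvable res.ker := Group.isSolvable_of_comm fun a b =>
    Subtype.ext (Subtype.ext (commute_of_fixing hcore hH hidx hP _ _ (hker a.1 a.2) (hker b.1 b.2)))
  haveI : IsCyclic (P : Subgroup G) := isCyclic_of_prime_card hP
  haveI : Group.IsSolvable (MulAut (P : Subgroup G)) := by
    refine Group.isSolvable_of_comm fun a b => ?_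
    obtain ⟨g, hg⟩ := IsCyclic.exists_generator (α := (P : Subgroup G))
    ext u
    obtain ⟨k, rfl⟩ := Subgroup.mem_zpowers_iff.mp (hg u)
    obtain ⟨i, hi⟩ := Subgroup.mem_zpowers_iff.mp (hg (a g))
    obtain ⟨j, hj⟩ := Subgroup.mem_zpowers_iff.mp (hg (b g))
    have : a (b (g ^ k)) = b (a (g ^ k)) := by
      simp only [map_zpow, ← hi, ← hj, ← zpow_mul]
      rw [show i * (j * k) = j * (i * k) by ring]
    exact congrArg Subtype.val this
  haveI : Group.IsSolvable N :=
    Group.isSolvable_of_ker_le_range res.ker.subtype res (by rw [Subgroup.range_subtype])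
  refine Group.isSolvable_of_surjective (f := (QuotientGroup.mk' (Cfsg.Inn G)).comp N.subtype) ?_
  intro x
  obtain ⟨α, rfl⟩ := QuotientGroup.mk'_surjective _ x
  have hQc : Nat.card ((P : Subgroup G).map α.toMonoidHom) = p ^ (Nat.card G).factorization p := by
    rw [Subgroup.card_map_of_injective α.injective, Sylow.card_eq_multiplicity]
  obtain ⟨g, hg⟩ := MulAction.exists_smul_eq G (Sylow.ofCard _ hQc) P
  have hmap : ((P : Subgroup G).map α.toMonoidHom).map (MulAut.conj g).toMonoidHom = (P : Subgroup G) :=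
    congrArg Sylow.toSubgroup hg
  refine ⟨⟨MulAut.conj g * α, fun x => ?_⟩, ?_⟩
  · conv_lhs => rw [← hmap]
    rw [Subgroup.map_map]
    exact Subgroup.mem_map_iff_mem ((MulAut.conj g).injective.comp α.injective)
  · change QuotientGroup.mk' (Cfsg.Inn G) (MulAut.conj g * α) = _
    rw [map_mul, show QuotientGroup.mk' (Cfsg.Inn G) (MulAut.conj g) = 1 from
      (QuotientGroup.eq_one_iff _).mpr (show MulAut.conj g ∈ Cfsg.Inn G from ⟨g, rfl⟩), one_mul]

end Cfsg.Agent.GroupStructure3.PrimeIndexOut
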