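import Mathlib
import Cfsg.Agent.GroupStructure3.MetacyclicRankTwo

/-!
A metacyclic 2-group containing a dihedral or quaternion group of order 8 has maximal class.
-/

set_option autoImplicit false

namespace Cfsg.Agent.GroupStructure3.RankTwoDihedral

variable {S : Type*} [Group S] [Finite S]

section Pow

variable {N : ℕ} [NeZero N] {a : S} (ha : a ^ N = 1)
include ha

theorem pow_val_add (i j : ZMod N) : a ^ (i + j).val = a ^ i.val * a ^ j.val := by
  rw [← pow_add, ZMod.val_add, ← pow_eq_pow_mod _ ha]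

theorem pow_val_neg (i : ZMod N) : a ^ (-i).val = (a ^ i.val)⁻¹ :=
  eq_inv_of_mul_eq_one_left (by rw [← pow_val_add ha, neg_add_cancel, ZMod.val_zero, pow_zero])

end Pow

theorem conj_pow {a h : S} (hc : h * a * h⁻¹ = a⁻¹) (m : ℕ) : h * a ^ m * h⁻¹ = (a ^ m)⁻¹ := by
  rw [← _root_.conj_pow, hc, inv_pow]

/-- Recognition of a dihedral group. -/
theorem dihedral_of_gens {N : ℕ} [NeZero N] {a h : S} (hcard : Nat.card S = 2 * N)
    (ha : orderOf a = N) (hh : h * h = 1) (hc : h * a * h⁻¹ = a⁻¹)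
    (hne : h ∉ Subgroup.zpowers a) : Nonempty (S ≃* DihedralGroup N) := by
  have hN : a ^ N = 1 := ha ▸ pow_orderOf_eq_one a
  have hi : h⁻¹ = h := inv_eq_of_mul_eq_one_left hh
  have hswap : ∀ m : ℕ, a ^ m * h = h * (a ^ m)⁻¹ := fun m => by
    rw [← conj_pow hc m, hi]; simp [← mul_assoc, hh]
  let φ : DihedralGroup N → S
    | .r i => a ^ i.val
    | .sr i => h * a ^ i.val
  let f : DihedralGroup N →* S := MonoidHom.mk' φ (by
    rintro (i | i) (j | j)
    · exact pow_val_add hN i j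
    · show h * a ^ (j - i).val = a ^ i.val * (h * a ^ j.val)
      rw [← mul_assoc, hswap, sub_eq_neg_add, pow_val_add hN, pow_val_neg hN, mul_assoc]
    · show h * a ^ (i + j).val = h * a ^ i.val * a ^ j.val
      rw [pow_val_add hN, mul_assoc]
    · show a ^ (j - i).val = h * a ^ i.val * (h * a ^ j.val)
      rw [mul_assoc h, ← mul_assoc (a ^ i.val), hswap, ← mul_assoc, ← mul_assoc, hh, one_mul,
        sub_eq_neg_add, pow_val_add hN, pow_val_neg hN])
  have hinj : Function.Injective f := by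
    intro x y e
    change φ x = φ y at e
    rcases x with i | i <;> rcases y with j | j <;> simp only [φ] at e
    · exact congrArg _ (ZMod.val_injective N
        ((pow_inj_iff_of_orderOf_eq ha (ZMod.val_lt i) (ZMod.val_lt j)).1 e))
    · refine absurd ?_ hne
      rw [eq_mul_inv_iff_mul_eq.2 e.symm]
      exact mul_mem (pow_mem (Subgroup.mem_zpowers a) _) (inv_mem (pow_mem (Subgroup.mem_zpowers a) _))
    · refine absurd ?_ hne
      rw [eq_mul_inv_iff_mul_eq.2 e]
      exact mul_mem (pow_mem (Subgroup.mem_zpowers a) _) (inv_mem (pow_mem (Subgroup.mem_zpowers a) _))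
    · exact congrArg _ (ZMod.val_injective N
        ((pow_inj_iff_of_orderOf_eq ha (ZMod.val_lt i) (ZMod.val_lt j)).1 (mul_left_cancel e)))
  exact ⟨(MulEquiv.ofBijective f ((Nat.bijective_iff_injective_and_card f).2
    ⟨hinj, by rw [hcard, DihedralGroup.nat_card]⟩)).symm⟩
where
  pow_inj_iff_of_orderOf_eq {a : S} {N i j : ℕ} (ha : orderOf a = N) (hi : i < N) (hj : j < N) :
      a ^ i = a ^ j ↔ i = j := by
    constructor
    · intro e
      exact pow_injOn_Iio_orderOf (ha ▸ hi) (ha ▸ hj) e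
    · rintro rfl; rfl

/-- Recognition of a generalised quaternion group. -/
theorem quaternion_of_gens {m : ℕ} [NeZero m] {a h : S} (hcard : Nat.card S = 4 * m)
    (ha : orderOf a = 2 * m) (hh : h * h = a ^ m) (hc : h * a * h⁻¹ = a⁻¹)
    (hne : h ∉ Subgroup.zpowers a) : Nonempty (S ≃* QuaternionGroup m) := by
  have hN : a ^ (2 * m) = 1 := ha ▸ pow_orderOf_eq_one a
  have hswap : ∀ t : ℕ, a ^ t * h = h * (a ^ t)⁻¹ := fun t => by
    have h1 : h * (a ^ t)⁻¹ * h⁻¹ = a ^ t := by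
      conv_rhs => rw [← inv_inv (a ^ t), ← conj_pow hc t]
      simp [mul_assoc]
    conv_lhs => rw [← h1]
    simp [mul_assoc]
  let φ : QuaternionGroup m → S
    | .a i => a ^ i.val
    | .xa i => h * a ^ i.val
  let f : QuaternionGroup m →* S := MonoidHom.mk' φ (by
    rintro (i | i) (j | j)
    · exact pow_val_add hN i j
    · show h * a ^ (j - i).val = a ^ i.val * (h * a ^ j.val)
      rw [← mul_assoc, hswap, sub_eq_neg_add, pow_val_add hN, pow_val_neg hN, mul_assoc]
    · show h * a ^ (i + j).val = h * a ^ i.val * a ^ j.val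
      rw [pow_val_add hN, mul_assoc]
    · show a ^ ((m : ZMod (2 * m)) + j - i).val = h * a ^ i.val * (h * a ^ j.val)
      have hm : a ^ (m : ZMod (2 * m)).val = a ^ m := by
        rw [ZMod.val_natCast, ← pow_eq_pow_mod _ hN]
      rw [mul_assoc h, ← mul_assoc (a ^ i.val), hswap, ← mul_assoc, ← mul_assoc, hh,
        add_sub_assoc, sub_eq_neg_add, pow_val_add hN, pow_val_add hN, pow_val_neg hN, hm, mul_assoc])
  have hinj : Function.Injective f := by
    intro x y e
    change φ x = φ y at e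
    rcases x with i | i <;> rcases y with j | j <;> simp only [φ] at e
    · exact congrArg _ (ZMod.val_injective _
        (pow_injOn_Iio_orderOf (by rw [Set.mem_Iio, ha]; exact ZMod.val_lt i)
          (by rw [Set.mem_Iio, ha]; exact ZMod.val_lt j) e))
    · refine absurd ?_ hne
      rw [eq_mul_inv_iff_mul_eq.2 e.symm]
      exact mul_mem (pow_mem (Subgroup.mem_zpowers a) _) (inv_mem (pow_mem (Subgroup.mem_zpowers a) _))
    · refine absurd ?_ hne
      rw [eq_mul_inv_iff_mul_eq.2 e]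
      exact mul_mem (pow_mem (Subgroup.mem_zpowers a) _) (inv_mem (pow_mem (Subgroup.mem_zpowers a) _))
    · exact congrArg _ (ZMod.val_injective _
        (pow_injOn_Iio_orderOf (by rw [Set.mem_Iio, ha]; exact ZMod.val_lt i)
          (by rw [Set.mem_Iio, ha]; exact ZMod.val_lt j) (mul_left_cancel e)))
  exact ⟨(MulEquiv.ofBijective f ((Nat.bijective_iff_injective_and_card f).2
    ⟨hinj, by rw [hcard, Nat.card_eq_fintype_card, QuaternionGroup.card]⟩)).symm⟩

theorem commute_of_central {H : Type*} [Group H] (N : Subgroup H) [N.Normal]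
    (hN : N ≤ Subgroup.center H) [IsCyclic (H ⧸ N)] (u v : H) : u * v = v * u := by
  exact commutative_of_cyclic_center_quotient (QuotientGroup.mk' N) (by simpa using hN) u v

theorem classify (h2 : IsPGroup 2 S) (A : Subgroup S) [A.Normal] [IsCyclic A] [IsCyclic (S ⧸ A)]
    (H : Subgroup S) (hH : Nat.card H = 8) (hnc : ∃ u v : H, u * v ≠ v * u) :
    (∃ k : ℕ, Nonempty (S ≃* DihedralGroup (2 ^ (k + 2)))) ∨
      (∃ k : ℕ, Nat.card S = 2 ^ (k + 4) ∧ ∃ a b : S, orderOf a = 2 ^ (k + 3) ∧ orderOf b = 2 ∧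
        b * a * b⁻¹ = a ^ (2 ^ (k + 2) - 1)) ∨
      (∃ k : ℕ, Nonempty (S ≃* QuaternionGroup (2 ^ (k + 1)))) := by
  classical
  haveI : Fact (Nat.Prime 2) := ⟨Nat.prime_two⟩
  let A' : Subgroup H := A.subgroupOf H
  haveI : A'.Normal := Subgroup.Normal.subgroupOf inferInstance H
  haveI : IsCyclic (H ⧸ A') :=
    isCyclic_of_injective (QuotientGroup.map A' A H.subtype (fun _ hx => hx)) (by
      rw [← MonoidHom.ker_eq_bot_iff, eq_bot_iff]
      intro q hq
      obtain ⟨g, rfl⟩ := QuotientGroup.mk_surjective q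
      rw [MonoidHom.mem_ker] at hq
      have hg : (g : S) ∈ A := (QuotientGroup.eq_one_iff _).1 hq
      rw [Subgroup.mem_bot, QuotientGroup.eq_one_iff]
      exact hg)
  -- an element of order four of `A` in `H`, and one inverting it
  have hcyc' : IsCyclic A' := isCyclic_of_injective
    ((H.subtype.comp A'.subtype).codRestrict A fun g => g.2) fun x y e =>
      Subtype.ext (Subtype.ext (congrArg (fun w => w.1) e :))
  obtain ⟨c', hc'⟩ := IsCyclic.exists_generator (α := A')
  obtain ⟨h', hnot⟩ : ∃ h : H, h * c' * h⁻¹ ≠ (c' : H) := by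
    by_contra hno
    push Not at hno
    obtain ⟨u, v, huv⟩ := hnc
    refine huv (commute_of_central A' (fun z hz => Subgroup.mem_center_iff.2 fun g => ?_) u v)
    obtain ⟨i, hi⟩ := Subgroup.mem_zpowers_iff.1 (hc' ⟨z, hz⟩)
    have e : (c' : H) ^ i = z := by rw [← SubgroupClass.coe_zpow, hi]
    have hcomm : Commute g (c' : H) := mul_inv_eq_iff_eq_mul.1 (hno g)
    rw [← e]; exact (hcomm.zpow_right i).eq
  have hdvd : orderOf (c' : H) ∣ 2 ^ 3 := by
    rw [show (2 : ℕ) ^ 3 = 8 from rfl, ← hH]; exact orderOf_dvd_natCard _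
  obtain ⟨t, ht, hto⟩ := (Nat.dvd_prime_pow Nat.prime_two).1 hdvd
  have hnorm : ∀ h : H, ∃ j : ℕ, j < orderOf (c' : H) ∧ (c' : H) ^ j = h * c' * h⁻¹ := by
    intro h
    have hmem : h * c' * h⁻¹ ∈ Subgroup.zpowers (c' : H) := by
      obtain ⟨i, hi⟩ := Subgroup.mem_zpowers_iff.1 (hc' ⟨h * c' * h⁻¹, (inferInstance : A'.Normal).conj_mem _ c'.2 h⟩)
      exact Subgroup.mem_zpowers_iff.2 ⟨i, by rw [← SubgroupClass.coe_zpow, hi]⟩
    rw [(isOfFinOrder_of_finite _).mem_zpowers_iff_mem_range_orderOf, Finset.mem_image] at hmem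
    obtain ⟨j, hj, e⟩ := hmem
    exact ⟨j, Finset.mem_range.1 hj, e⟩
  have ht2 : t = 2 := by
    obtain ⟨j, hj, e⟩ := hnorm h'
    rw [hto] at hj
    interval_cases t
    · exact absurd (orderOf_eq_one_iff.1 hto) (fun h => hnot (by rw [h]; group))
    · exfalso
      interval_cases j
      · rw [pow_zero] at e
        have : (c' : H) = 1 := by
          have := congrArg (fun z => h'⁻¹ * z * h') e
          simpa [mul_assoc] using this.symm
        rw [this, orderOf_one] at hto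
        norm_num at hto
      · exact hnot (by rw [← e, pow_one])
    · rfl
    · exfalso
      obtain ⟨u, v, huv⟩ := hnc
      haveI : IsCyclic H := isCyclic_of_orderOf_eq_card (c' : H) (by rw [hto, hH]; rfl)
      exact huv (mul_comm' u v)
  subst ht2
  set h : S := (h' : S) with hhdef
  set c : S := ((c' : H) : S) with hcdef
  have hcA : c ∈ A := c'.2
  have hc4 : orderOf c = 4 := by rw [hcdef, Subgroup.orderOf_coe, hto]; rfl
  have two_cases : ∀ y : S, y * c * y⁻¹ ∈ Subgroup.zpowers c → y * c * y⁻¹ = c ∨ y * c * y⁻¹ = c⁻¹ := by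
    intro y hy
    rw [(isOfFinOrder_of_finite _).mem_zpowers_iff_mem_range_orderOf, Finset.mem_image] at hy
    obtain ⟨j, hj, e⟩ := hy
    rw [hc4, Finset.mem_range] at hj
    have ho : orderOf (c ^ j) = 4 := by
      rw [e, ← MulAut.conj_apply, MulEquiv.orderOf_eq, hc4]
    rw [← e]
    interval_cases j
    · rw [pow_zero, orderOf_one] at ho; norm_num at ho
    · exact Or.inl (pow_one c)
    · have h22 : (c ^ 2) ^ 2 = 1 := by rw [← pow_mul, show 2 * 2 = orderOf c by rw [hc4]]; exact pow_orderOf_eq_one c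
      have := Nat.le_of_dvd two_pos (ho ▸ orderOf_dvd_of_pow_eq_one h22)
      omega
    · refine Or.inr (eq_inv_of_mul_eq_one_left ?_)
      rw [← pow_succ, show 3 + 1 = orderOf c by rw [hc4]]; exact pow_orderOf_eq_one c
  have hzc : ∀ y : S, y * c * y⁻¹ ∈ Subgroup.zpowers c := by
    intro y
    obtain ⟨g, hg⟩ := IsCyclic.exists_generator (α := A)
    have hord : orderOf (⟨c, hcA⟩ : A) = orderOf (⟨y * c * y⁻¹, (inferInstance : A.Normal).conj_mem _ hcA y⟩ : A) := by
      rw [Subgroup.orderOf_mk, Subgroup.orderOf_mk, ← MulAut.conj_apply, MulEquiv.orderOf_eq]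
    have heq : Subgroup.zpowers (⟨c, hcA⟩ : A) =
        Subgroup.zpowers (⟨y * c * y⁻¹, (inferInstance : A.Normal).conj_mem _ hcA y⟩ : A) := by
      letI : Fintype A := Fintype.ofFinite A
      let T : Finset A := Finset.univ.filter fun x => x ^ 4 = 1
      have hT : T.card ≤ 4 := IsCyclic.card_pow_eq_one_le (by norm_num)
      have key : ∀ x : A, orderOf x = 4 → (Subgroup.zpowers x : Set A) = (T : Set A) := by
        intro x hx
        refine Set.eq_of_subset_of_ncard_le ?_ ?_ (Set.toFinite _)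
        · intro w hw
          obtain ⟨i, rfl⟩ := Subgroup.mem_zpowers_iff.1 hw
          simp only [T, Finset.coe_filter, Finset.mem_univ, true_and, Set.mem_setOf_eq]
          rw [← hx, ← zpow_natCast, ← zpow_mul, mul_comm, zpow_mul, zpow_natCast, pow_orderOf_eq_one,
            one_zpow]
        · rw [Set.ncard_coe_finset, ← Nat.card_coe_set_eq]
          refine hT.trans (le_of_eq ?_)
          rw [show Nat.card ↥(Subgroup.zpowers x : Set A) = Nat.card (Subgroup.zpowers x) from rfl,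
            Nat.card_zpowers, hx]
      have hc' : orderOf (⟨c, hcA⟩ : A) = 4 := by rw [Subgroup.orderOf_mk, hc4]
      exact SetLike.coe_injective ((key _ hc').trans (key _ (hord ▸ hc')).symm)
    obtain ⟨i, hi⟩ := Subgroup.mem_zpowers_iff.1 (heq.symm ▸ Subgroup.mem_zpowers _ :
      (⟨y * c * y⁻¹, (inferInstance : A.Normal).conj_mem _ hcA y⟩ : A) ∈ Subgroup.zpowers (⟨c, hcA⟩ : A))
    exact Subgroup.mem_zpowers_iff.2 ⟨i, congrArg Subtype.val hi⟩
  have hinvc : h * c * h⁻¹ = c⁻¹ := (two_cases h (hzc h)).resolve_left fun e => hnot (Subtype.ext e)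
  have hcne : c⁻¹ ≠ c := fun e => by
    have h22 : c ^ 2 = 1 := by rw [pow_two]; exact mul_eq_one_iff_eq_inv.2 e.symm
    have := Nat.le_of_dvd two_pos (hc4 ▸ orderOf_dvd_of_pow_eq_one h22)
    omega
  have hcommA : ∀ x ∈ A, x * c * x⁻¹ = c := fun x hx => by
    have : (⟨x, hx⟩ : A) * ⟨c, hcA⟩ = ⟨c, hcA⟩ * ⟨x, hx⟩ := mul_comm' _ _
    rw [mul_inv_eq_iff_eq_mul]
    exact congrArg Subtype.val this
  have hhA : h ∉ A := fun hh => hcne (by rw [← hinvc, hcommA h hh])
  -- `h` acts as no square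
  have hnsq : ∀ y : S, ∀ x ∈ A, h ≠ y * y * x := by
    intro y x hx e
    apply hcne
    rw [← hinvc, e]
    calc y * y * x * c * (y * y * x)⁻¹ = y * (y * (x * c * x⁻¹) * y⁻¹) * y⁻¹ := by group
      _ = c := by
          rw [hcommA x hx]
          rcases two_cases y (hzc y) with h1 | h1
          · rw [h1, h1]
          · rw [h1, show y * c⁻¹ * y⁻¹ = (y * c * y⁻¹)⁻¹ by group, h1, inv_inv]
  have hsqA : h * h ∈ A := by
    have h8 : Nat.card A' = 4 := by
      rw [← orderOf_eq_card_of_forall_mem_zpowers hc', ← Subgroup.orderOf_coe, hto]; rfl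
    have hi : A'.index = 2 := by
      have := A'.card_mul_index
      rw [h8, hH] at this
      omega
    exact Subgroup.mul_self_mem_of_index_two hi h'
  obtain ⟨q, hq⟩ := IsCyclic.exists_generator (α := S ⧸ A)
  have hqo : orderOf q = A.index := by
    rw [orderOf_eq_card_of_forall_mem_zpowers hq, Subgroup.index_eq_card]
  have hidx : A.index = 2 := by
    obtain ⟨y, rfl⟩ := QuotientGroup.mk'_surjective A q
    obtain ⟨i, hi⟩ := Subgroup.mem_zpowers_iff.1 (hq (h : S ⧸ A))
    have hodd : Odd i := by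
      rcases Int.even_or_odd i with ⟨k, rfl⟩ | h'
      · exfalso
        rw [QuotientGroup.mk'_apply, ← QuotientGroup.mk_zpow, QuotientGroup.eq] at hi
        exact hnsq (y ^ k) _ hi (by rw [← zpow_add]; group)
      · exact h'
    have h2i : (A.index : ℤ) ∣ 2 * i := by
      rw [← hqo, orderOf_dvd_iff_zpow_eq_one, mul_comm, zpow_mul, hi, zpow_two, ← QuotientGroup.mk_mul,
        QuotientGroup.eq_one_iff]
      exact hsqA
    obtain ⟨m, hm⟩ := (Nat.dvd_prime_pow Nat.prime_two).1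
      (dvd_trans A.index_dvd_card (IsPGroup.iff_card.1 h2).choose_spec.dvd)
    rw [hm.2] at h2i ⊢
    rcases m with _ | _ | m
    · rw [pow_zero, Subgroup.index_eq_one] at hm
      exact absurd (hm.2 ▸ Subgroup.mem_top h) hhA
    · rfl
    · exfalso
      obtain ⟨k, rfl⟩ := hodd
      have h4 : (4 : ℤ) ∣ 2 * (2 * k + 1) := by
        refine dvd_trans ?_ h2i
        push_cast
        exact ⟨2 ^ m, by ring⟩
      omega
  -- the cyclic subgroup of index two
  obtain ⟨g, hg⟩ := IsCyclic.exists_generator (α := A)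
  set a : S := (g : S) with hadef
  obtain ⟨n, hn⟩ := IsPGroup.iff_card.1 (h2.to_subgroup A)
  have hao : orderOf a = 2 ^ n := by
    rw [hadef, Subgroup.orderOf_coe, orderOf_eq_card_of_forall_mem_zpowers hg, hn]
  have hpow : ∀ x ∈ A, ∃ j : ℤ, a ^ j = x := fun x hx => by
    obtain ⟨j, hj⟩ := Subgroup.mem_zpowers_iff.1 (hg ⟨x, hx⟩)
    exact ⟨j, by rw [hadef, ← SubgroupClass.coe_zpow, hj]⟩
  have hhz : h ∉ Subgroup.zpowers a := fun hh => hhA (Subgroup.zpowers_le.2 g.2 hh)
  have hn2 : 2 ≤ n := by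
    have h4 : 4 ∣ 2 ^ n := by
      rw [← hn, ← hc4, ← Subgroup.orderOf_mk c hcA]; exact orderOf_dvd_natCard _
    by_contra hlt
    interval_cases n <;> norm_num at h4
  have hS : Nat.card S = 2 ^ (n + 1) := by
    rw [← A.card_mul_index, hn, hidx, pow_succ]
  obtain ⟨m, rfl⟩ : ∃ m, n = m + 2 := ⟨n - 2, by omega⟩
  have haN : a ^ (2 ^ (m + 2) : ℤ) = 1 := by
    have : a ^ ((2 ^ (m + 2) : ℕ) : ℤ) = 1 := by rw [zpow_natCast, ← hao, pow_orderOf_eq_one]
    simpa using this
  have hdiv : ∀ j : ℤ, a ^ j = 1 ↔ (2 ^ (m + 2) : ℤ) ∣ j := fun j => by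
    rw [← orderOf_dvd_iff_zpow_eq_one, hao]; push_cast; rfl
  obtain ⟨u, hu⟩ := hpow (h * a * h⁻¹) ((inferInstance : A.Normal).conj_mem _ g.2 h)
  obtain ⟨j, hj⟩ := hpow (h * h) hsqA
  have hconjz : ∀ i : ℤ, h * a ^ i * h⁻¹ = a ^ (u * i) := fun i => by
    rw [← conj_zpow, ← hu, ← zpow_mul]
  obtain ⟨ic, hic⟩ := hpow c hcA
  have hu4 : (4 : ℤ) ∣ u + 1 := by
    have h1 : a ^ (u * ic + ic) = 1 := by
      rw [zpow_add, ← hconjz, hic, hinvc, inv_mul_cancel]
    obtain ⟨w, hw⟩ := (hdiv _).1 h1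
    have h4 : ¬ (2 ^ (m + 1) : ℤ) ∣ ic := by
      rintro ⟨v, hv⟩
      have : c ^ 2 = 1 := by
        rw [← hic, ← zpow_natCast, ← zpow_mul, hdiv]
        exact ⟨v, by push_cast; rw [hv]; ring⟩
      have := Nat.le_of_dvd two_pos (hc4 ▸ orderOf_dvd_of_pow_eq_one this)
      omega
    have h5 : (2 ^ m : ℤ) ∣ ic := by
      have : c ^ 4 = 1 := by rw [← hc4]; exact pow_orderOf_eq_one c
      rw [← hic, ← zpow_natCast, ← zpow_mul, hdiv] at this
      obtain ⟨v, hv⟩ := this
      refine ⟨v, ?_⟩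
      push_cast at hv
      have : (4 : ℤ) * ic = 4 * (2 ^ m * v) := by rw [← mul_comm ic, hv]; ring
      linarith
    obtain ⟨v, hv⟩ := h5
    have hvodd : ¬ (2 : ℤ) ∣ v := by
      rintro ⟨v', rfl⟩
      exact h4 ⟨v', by rw [hv]; ring⟩
    have h6 : (2 ^ m : ℤ) * ((u + 1) * v) = 2 ^ m * (4 * w) := by
      rw [hv] at hw
      linear_combination hw
    have h7 : (u + 1) * v = 4 * w := mul_left_cancel₀ (by positivity) h6
    have hco : IsCoprime (4 : ℤ) v := by
      rw [show (4 : ℤ) = 2 ^ 2 by norm_num]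
      exact IsCoprime.pow_left ((Prime.coprime_iff_not_dvd Int.prime_two).2 hvodd)
    exact hco.dvd_of_dvd_mul_right ⟨w, h7⟩
  obtain ⟨w, hw⟩ := hu4
  have hu2 : a ^ (u * u) = a := by
    have h1 : h * h * a * (h * h)⁻¹ = a := by
      rw [← hj]; group
    have h2' : h * h * a * (h * h)⁻¹ = h * (h * a * h⁻¹) * h⁻¹ := by group
    rw [h2', ← hu, hconjz] at h1
    exact h1
  have hfac : ∀ x : ℤ, (2 ^ (m + 2) : ℤ) ∣ x * (u - 1) → (2 ^ (m + 1) : ℤ) ∣ x := by
    intro x hx
    rw [show u - 1 = 2 * (2 * w - 1) by linear_combination hw] at hx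
    have h1 : (2 ^ (m + 1) : ℤ) ∣ x * (2 * w - 1) := by
      obtain ⟨y, hy⟩ := hx
      refine ⟨y, mul_left_cancel₀ (two_ne_zero) ?_⟩
      linear_combination hy
    have hco : IsCoprime (2 ^ (m + 1) : ℤ) (2 * w - 1) :=
      IsCoprime.pow_left ((Prime.coprime_iff_not_dvd Int.prime_two).2 (by omega))
    exact hco.dvd_of_dvd_mul_right h1
  have he : (2 ^ (m + 1) : ℤ) ∣ u + 1 := hfac _ (by
    have : a ^ (u * u - 1) = 1 := by rw [zpow_sub, hu2, zpow_one, mul_inv_cancel]
    have := (hdiv _).1 this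
    rwa [show u * u - 1 = (u + 1) * (u - 1) by ring] at this)
  have hf : (2 ^ (m + 1) : ℤ) ∣ j := hfac _ (by
    have : a ^ (u * j - j) = 1 := by
      rw [zpow_sub, ← hconjz, hj]; group
    have := (hdiv _).1 this
    rwa [show u * j - j = j * (u - 1) by ring] at this)
  obtain ⟨e, he⟩ := he
  obtain ⟨f, hf⟩ := hf
  set z : S := a ^ (2 ^ (m + 1)) with hzdef
  have hz : ∀ i : ℤ, a ^ (2 ^ (m + 1) * i) = z ^ i := fun i => by
    rw [zpow_mul, hzdef, ← zpow_natCast]; norm_num
  have hz2 : z ^ (2 : ℤ) = 1 := by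
    rw [← hz, hdiv]; exact ⟨1, by ring⟩
  have hzcase : ∀ i : ℤ, z ^ i = 1 ∨ z ^ i = z := fun i => by
    rcases Int.even_or_odd i with ⟨k, rfl⟩ | ⟨k, rfl⟩
    · left; rw [← two_mul, zpow_mul, hz2, one_zpow]
    · right; rw [zpow_add, zpow_mul, hz2, one_zpow, one_mul, zpow_one]
  have hzne : z ≠ 1 := fun h1 => by
    have := orderOf_dvd_of_pow_eq_one h1
    rw [hao, Nat.pow_dvd_pow_iff_le_right one_lt_two] at this
    omega
  have hconj : h * a * h⁻¹ = z ^ e * a⁻¹ := by
    rw [← hu, ← hz, ← he, ← zpow_neg_one, ← zpow_add]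
    congr 1; ring
  have hsq : h * h = z ^ f := by rw [← hj, hf, hz]
  rcases hzcase e with he1 | he1 <;> rw [he1] at hconj
  · rw [one_mul] at hconj
    rcases hzcase f with hf1 | hf1 <;> rw [hf1] at hsq
    · exact Or.inl ⟨m, dihedral_of_gens (by rw [hS, pow_succ]; ring) hao hsq hconj hhz⟩
    · refine Or.inr (Or.inr ⟨m, ?_⟩)
      exact quaternion_of_gens (by rw [hS]; ring) (by rw [hao]; ring) hsq hconj hhz
  · -- semidihedral
    obtain ⟨k, rfl⟩ : ∃ k, m = k + 1 := by
      refine ⟨m - 1, ?_⟩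
      by_contra hm
      have hm0 : m = 0 := by omega
      subst hm0
      have : z ^ e = 1 := by
        rw [show e = 2 * w by norm_num at he; omega, zpow_mul, hz2, one_zpow]
      exact hzne (he1 ▸ this)
    have hzcomm : z * a = a * z := (Commute.pow_self a _).eq
    have hza : z * a⁻¹ = a ^ (2 ^ (k + 2) - 1) := by
      rw [pow_sub _ Nat.one_le_two_pow, pow_one]
    have hba : ∃ b : S, b ∉ A ∧ b * b = 1 ∧ b * a * b⁻¹ = z * a⁻¹ := by
      rcases hzcase f with hf1 | hf1 <;> rw [hf1] at hsq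
      · exact ⟨h, hhA, hsq, hconj⟩
      · refine ⟨h * a, fun hh => hhA ?_, ?_, ?_⟩
        · have hh' := mul_mem hh (inv_mem g.2)
          rwa [← hadef, mul_inv_cancel_right] at hh'
        · calc h * a * (h * a) = h * a * h⁻¹ * (h * h) * a := by group
            _ = z * (a⁻¹ * z * a) := by rw [hconj, hsq]; group
            _ = z * z := by rw [mul_assoc a⁻¹, hzcomm, inv_mul_cancel_left]
            _ = 1 := by rw [← pow_two, ← zpow_natCast]; exact hz2
        · rw [← hconj]; group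
    obtain ⟨b, hbA, hb2, hbc⟩ := hba
    refine Or.inr (Or.inl ⟨k, by rw [hS], a, b, hao, ?_, hbc.trans hza⟩)
    exact orderOf_eq_prime (by rw [pow_two]; exact hb2) fun hb1 => hbA (hb1 ▸ A.one_mem)

theorem main (h2 : IsPGroup 2 S) (hr : Cfsg.SectionalPRankLE 2 2 S)
    (hsub : ∃ H : Subgroup S, Nonempty (↥H ≃* DihedralGroup 4) ∨ Nonempty (↥H ≃* QuaternionGroup 2)) :
    (∃ k : ℕ, Nonempty (S ≃* DihedralGroup (2 ^ (k + 2)))) ∨
      (∃ k : ℕ, Nat.card S = 2 ^ (k + 4) ∧ ∃ a b : S, orderOf a = 2 ^ (k + 3) ∧ orderOf b = 2 ∧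
        b * a * b⁻¹ = a ^ (2 ^ (k + 2) - 1)) ∨
      (∃ k : ℕ, Nonempty (S ≃* QuaternionGroup (2 ^ (k + 1)))) := by
  obtain ⟨A, hAn, hAc, hQ⟩ := MetacyclicRankTwo.main _ le_rfl h2 hr
  obtain ⟨H, he⟩ := hsub
  rcases he with he | he <;> obtain ⟨e⟩ := he
  · refine classify h2 A H (by rw [Nat.card_congr e.toEquiv, DihedralGroup.nat_card]) ?_
    obtain ⟨x, y, hxy⟩ : ∃ x y : DihedralGroup 4, x * y ≠ y * x := by decide
    exact ⟨e.symm x, e.symm y, fun h => hxy (by simpa using congrArg e h)⟩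
  · refine classify h2 A H (by rw [Nat.card_congr e.toEquiv, Nat.card_eq_fintype_card, QuaternionGroup.card]) ?_
    obtain ⟨x, y, hxy⟩ : ∃ x y : QuaternionGroup 2, x * y ≠ y * x := by decide
    exact ⟨e.symm x, e.symm y, fun h => hxy (by simpa using congrArg e h)⟩

end Cfsg.Agent.GroupStructure3.RankTwoDihedral
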