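import Mathlib
import Cfsg.Agent.Lib.Transfer.Frobenius
import Cfsg.Agent.Lib.Coprime.Action
import Cfsg.Agent.Lib.Coprime.PGroup
import Cfsg.Agent.GroupStructure3.FrattiniAut

/-!
A group without normal `p`-complement has a section `V ⋊ C_q`, `q ≠ p`, with `C_q` acting without
fixed points on the elementary abelian `p`-group `V`.
-/

set_option autoImplicit false

namespace Cfsg.Agent.GroupStructure3.SectionCriterion

open scoped commutatorElement Pointwise
open Cfsg Cfsg.Agent.Transfer.Frobenius Cfsg.Agent.Coprime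

theorem mem_normalizer_sup {G : Type*} [Group G] {g : G} {A B : Subgroup G}
    (hA : g ∈ Subgroup.normalizer (A : Set G)) (hB : g ∈ Subgroup.normalizer (B : Set G)) :
    g ∈ Subgroup.normalizer ((A ⊔ B : Subgroup G) : Set G) := by
  rw [← conj_smul_eq_self_iff] at hA hB ⊢
  rw [Subgroup.smul_sup, hA, hB]

variable {G : Type*} [Group G] [Finite G] {p : ℕ} [hp : Fact p.Prime]

/-- A minimal non-trivial coprime action on a `p`-subgroup. -/
theorem exists_minimal (h : ¬ Condition p G) :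
    ∃ (Q : Subgroup G) (x : G) (q : ℕ), IsPGroup p Q ∧ x ∈ Subgroup.normalizer (Q : Set G) ∧
      (orderOf x).Coprime p ∧ q.Prime ∧ q ≠ p ∧ x ^ q ∈ Subgroup.centralizer (Q : Set G) ∧
      x ∉ Subgroup.centralizer (Q : Set G) ∧
      ∀ R < Q, x ∈ Subgroup.normalizer (R : Set G) → x ∈ Subgroup.centralizer (R : Set G) := by
  classical
  simp only [Condition, not_forall] at h
  obtain ⟨Q₀, hQ₀, g₀, hg₀, ho₀, hc₀⟩ := h
  have hex : ∃ n, ∃ (Q : Subgroup G) (g : G), IsPGroup p Q ∧
      g ∈ Subgroup.normalizer (Q : Set G) ∧ (orderOf g).Coprime p ∧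
      g ∉ Subgroup.centralizer (Q : Set G) ∧ Nat.card Q * orderOf g = n :=
    ⟨_, Q₀, g₀, hQ₀, hg₀, ho₀, hc₀, rfl⟩
  obtain ⟨Q, x, hQ, hx, ho, hc, hn⟩ := Nat.find_spec hex
  have hmin : ∀ (R : Subgroup G) (g : G), IsPGroup p R → g ∈ Subgroup.normalizer (R : Set G) →
      (orderOf g).Coprime p → Nat.card R * orderOf g < Nat.card Q * orderOf x →
      g ∈ Subgroup.centralizer (R : Set G) := by
    intro R g hR hg hog hlt
    by_contra hgc
    exact Nat.find_min hex (hn ▸ hlt) ⟨R, g, hR, hg, hog, hgc, rfl⟩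
  have hm1 : orderOf x ≠ 1 := fun h1 => hc (orderOf_eq_one_iff.mp h1 ▸ one_mem _)
  obtain ⟨q, hq, hqm⟩ := Nat.exists_prime_and_dvd hm1
  refine ⟨Q, x, q, hQ, hx, ho, hq, ?_, ?_, hc, fun R hR hxR => hmin R x (hQ.to_le hR.le) hxR ho ?_⟩
  · rintro rfl
    exact hq.ne_one (Nat.eq_one_of_dvd_coprimes ho hqm dvd_rfl)
  · refine hmin Q _ hQ (pow_mem hx q) ?_ ?_
    · exact Nat.Coprime.coprime_dvd_left (orderOf_pow_dvd q) ho
    · rw [orderOf_pow_of_dvd hq.ne_zero hqm]
      exact Nat.mul_lt_mul_of_pos_left (Nat.div_lt_self (orderOf_pos x) hq.one_lt) Nat.card_pos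
  · refine Nat.mul_lt_mul_of_pos_right ?_ (orderOf_pos x)
    exact Set.ncard_lt_ncard (SetLike.coe_ssubset_coe.mpr hR) (Set.toFinite _) |>.trans_le' (le_of_eq
      (Nat.card_coe_set_eq _)) |>.trans_le (le_of_eq (Nat.card_coe_set_eq _).symm)

/-- The characterizing bad section. -/
theorem exists_bad_section (h : ¬ Condition p G) :
    ∃ (H : Subgroup G) (N : Subgroup H) (_ : N.Normal), pPrimeCore p (H ⧸ N) = ⊥ ∧
      ∀ k : H ⧸ N, orderOf k ≠ Monoid.exponent (H ⧸ N) := by
  obtain ⟨Q, x, q, hQ, hx, ho, hq, hqp, hxq, hxc, hmin⟩ := exists_minimal h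
  set A := Subgroup.zpowers x with hA
  set C := Q ⊓ Subgroup.centralizer ({x} : Set G) with hC
  have hAQ : A ≤ Subgroup.normalizer (Q : Set G) := Subgroup.zpowers_le.mpr hx
  have hcop : (Nat.card A).Coprime (Nat.card Q) := by
    obtain ⟨n, hn⟩ := hQ.exists_card_eq
    rw [Nat.card_zpowers, hn]
    exact Nat.Coprime.pow_right _ ho
  have hcentA : ∀ c : G, c * x = x * c → c ∈ Subgroup.centralizer (A : Set G) := by
    intro c hcx
    rw [hA, Subgroup.zpowers_eq_closure, Subgroup.centralizer_closure,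
      Subgroup.mem_centralizer_singleton_iff]
    exact hcx
  -- the Frattini subgroup of `Q` is centralized
  haveI := hQ.isNilpotent
  have hΦ : ∀ u : Q, u ∈ frattini Q → (u : G) ∈ C := by
    intro u hu
    refine ⟨u.2, ?_⟩
    have hne : frattini (Q : Subgroup G) ≠ ⊤ := by
      intro htop
      haveI : Nontrivial Q := by
        rw [Subgroup.nontrivial_iff_ne_bot]
        rintro rfl
        exact hxc (fun y hy => by rw [Subgroup.mem_bot.mp hy, one_mul, mul_one])
      obtain ⟨M, hM, -⟩ := (eq_top_or_exists_le_coatom (⊥ : Subgroup Q)).resolve_left bot_ne_top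
      exact hM.1 (top_le_iff.mp (htop ▸ frattini_le_coatom hM))
    have hlt : (frattini (Q : Subgroup G)).map Q.subtype < Q :=
      lt_of_le_of_ne (Subgroup.map_subtype_le _) fun he => hne
        (Subgroup.map_injective Q.subtype_injective (he.trans (by
          rw [← MonoidHom.range_eq_map, Subgroup.range_subtype])))
    have hxR : x ∈ Subgroup.normalizer ((frattini (Q : Subgroup G)).map Q.subtype : Set G) := by
      have key : ∀ g ∈ Subgroup.normalizer (Q : Set G), ∀ w ∈ (frattini (Q : Subgroup G)).map Q.subtype,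
          g * w * g⁻¹ ∈ (frattini (Q : Subgroup G)).map Q.subtype := by
        rintro g hg _ ⟨w, hw, rfl⟩
        refine ⟨Q.normalizerMonoidHom ⟨g, hg⟩ w, ?_, rfl⟩
        have := Subgroup.characteristic_iff_map_eq.mp (inferInstance :
          (frattini (Q : Subgroup G)).Characteristic) (Q.normalizerMonoidHom ⟨g, hg⟩)
        rw [← this]
        exact ⟨w, hw, rfl⟩
      rw [Subgroup.mem_normalizer_iff]
      intro w
      refine ⟨key x hx w, fun hw => ?_⟩
      have := key x⁻¹ (inv_mem hx) _ hw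
      simpa [mul_assoc] using this
    exact Subgroup.mem_centralizer_singleton_iff.mpr
      (hmin _ hlt hxR u.1 ⟨u, hu, rfl⟩)
  have hCQ : Q ≤ Subgroup.normalizer (C : Set G) := by
    have key : ∀ u ∈ Q, ∀ c ∈ C, u * c * u⁻¹ ∈ C := by
      intro u hu c hc
      have h1 : ⁅(⟨u, hu⟩ : Q), ⟨c, hc.1⟩⁆ ∈ frattini Q := commutator_le_frattini Q
        (Subgroup.commutator_mem_commutator (Subgroup.mem_top _) (Subgroup.mem_top _))
      have h2 : ⁅u, c⁆ ∈ C := hΦ _ h1
      rw [show u * c * u⁻¹ = ⁅u, c⁆ * c by rw [commutatorElement_def]; group]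
      exact mul_mem h2 hc
    intro u hu
    rw [Subgroup.mem_normalizer_iff]
    intro w
    refine ⟨key u hu w, fun hw => ?_⟩
    have := key u⁻¹ (inv_mem hu) _ hw
    simpa [mul_assoc] using this
  set B := Subgroup.zpowers (x ^ q) with hB
  set H := Q ⊔ A with hH
  have hBN : B ≤ Subgroup.normalizer (C : Set G) := by
    rw [hB, Subgroup.zpowers_le]
    refine pow_mem ?_ q
    rw [Subgroup.mem_normalizer_iff]
    intro w
    constructor
    · intro hw
      rwa [← Subgroup.mem_centralizer_singleton_iff.mp hw.2, mul_inv_cancel_right]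
    · intro hw
      have h5 : x * w * x⁻¹ * x = x * (x * w * x⁻¹) :=
        Subgroup.mem_centralizer_singleton_iff.mp hw.2
      have h6 : w = x * w * x⁻¹ := by
        have h7 := congrArg (x⁻¹ * ·) h5
        simpa [mul_assoc] using h7
      rw [h6]; exact hw
  have hmemN : ∀ y, y ∈ C ⊔ B ↔ ∃ c ∈ C, ∃ b ∈ B, c * b = y :=
    fun y => mem_sup_of_le_normalizer hBN
  have hQN : Q ⊓ (C ⊔ B) ≤ C := by
    rintro y ⟨hyQ, hy⟩
    obtain ⟨c, hc, b, hb, rfl⟩ := (hmemN y).mp hy
    have hbQ : b ∈ Q := by simpa using Q.mul_mem (Q.inv_mem hc.1) hyQ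
    have hbA : b ∈ A := Subgroup.zpowers_le.mpr (pow_mem (Subgroup.mem_zpowers x) q) hb
    have : b = 1 := Subgroup.mem_bot.mp
      ((disjoint_iff.mp (disjoint_of_coprime hcop)).le ⟨hbA, hbQ⟩)
    simpa [this] using hc
  have hHN : H ≤ Subgroup.normalizer ((C ⊔ B : Subgroup G) : Set G) := by
    rw [hH, sup_le_iff]
    constructor
    · intro u hu
      have hb : u ∈ Subgroup.centralizer (B : Set G) := by
        rw [hB, Subgroup.zpowers_eq_closure, Subgroup.centralizer_closure,
          Subgroup.mem_centralizer_singleton_iff]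
        exact hxq u hu
      exact mem_normalizer_sup (hCQ hu)
        ((Subgroup.centralizer_le_normalizer _) hb)
    · rw [hA, Subgroup.zpowers_le]
      refine mem_normalizer_sup ?_ ?_
      · refine (Subgroup.centralizer_le_normalizer _) ?_
        intro c hc
        exact Subgroup.mem_centralizer_singleton_iff.mp hc.2
      · refine (Subgroup.centralizer_le_normalizer _) ?_
        rw [hB, Subgroup.zpowers_eq_closure, Subgroup.centralizer_closure,
          Subgroup.mem_centralizer_singleton_iff]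
        exact (pow_mul_comm' x q).symm ▸ rfl
  have hN : ((C ⊔ B).subgroupOf H).Normal := Subgroup.normal_subgroupOf_of_le_normalizer hHN
  refine ⟨H, (C ⊔ B).subgroupOf H, hN, ?_⟩
  set π : H →* H ⧸ (C ⊔ B).subgroupOf H := QuotientGroup.mk' _ with hπ
  set xb := π ⟨x, Subgroup.mem_sup_right (Subgroup.mem_zpowers x)⟩ with hxb
  set V := (Q.subgroupOf H).map π with hV
  have hker : ∀ y : H, π y = 1 ↔ (y : G) ∈ C ⊔ B := fun y =>
    (QuotientGroup.eq_one_iff y).trans Subgroup.mem_subgroupOf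
  haveI hVn : V.Normal := by
    have : (Q.subgroupOf H).Normal := Subgroup.normal_subgroupOf_of_le_normalizer
      (sup_le Subgroup.le_normalizer hAQ)
    exact this.map π (QuotientGroup.mk'_surjective _)
  -- the action of `xb` on `V` has no fixed points
  have hfix : ∀ v ∈ V, Commute xb v → v = 1 := by
    rintro _ ⟨u, hu, rfl⟩ hc
    change (u : G) ∈ Q at hu
    have h1 : x * (u : G) * x⁻¹ * (u : G)⁻¹ ∈ C := by
      apply hQN
      refine ⟨Q.mul_mem (((Subgroup.mem_normalizer_iff.mp hx) u).mp hu) (Q.inv_mem hu), ?_⟩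
      have h2 := (hker (⟨x, Subgroup.mem_sup_right (Subgroup.mem_zpowers x)⟩ * u *
        ⟨x, Subgroup.mem_sup_right (Subgroup.mem_zpowers x)⟩⁻¹ * u⁻¹)).mp (by
          rw [map_mul, map_mul, map_mul, map_inv, map_inv, ← hxb, hc.eq]; group)
      exact h2
    have hCA : ∀ c ∈ C, c * x = x * c := fun c hc =>
      Subgroup.mem_centralizer_singleton_iff.mp hc.2
    obtain ⟨c, ⟨hcQ, hcA⟩, hcN⟩ := exists_fixed_mod (A := A) (K := Q) (N := C) hcop
      (Or.inr (isSolvable_of_isPGroup hQ)) inf_le_left hCQ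
      (Subgroup.zpowers_le.mpr ((Subgroup.centralizer_le_normalizer _)
        (fun c hc => hCA c hc)))
      hu (by
        intro a ha
        obtain ⟨i, rfl⟩ := Subgroup.mem_zpowers_iff.mp ha
        revert i
        intro i _
        induction i using Int.induction_on with
        | zero => simp
        | succ i ih =>
          have e : x ^ ((i : ℤ) + 1) * u * (x ^ ((i : ℤ) + 1))⁻¹ * (u : G)⁻¹ =
              (x * (x ^ (i : ℤ) * u * (x ^ (i : ℤ))⁻¹ * (u : G)⁻¹) * x⁻¹) *
                (x * u * x⁻¹ * (u : G)⁻¹) := by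
            rw [zpow_add_one]; group
          rw [e]
          refine mul_mem ?_ h1
          rw [← hCA _ (ih (Subgroup.zpow_mem _ (Subgroup.mem_zpowers x) _)), mul_inv_cancel_right]
          exact ih (Subgroup.zpow_mem _ (Subgroup.mem_zpowers x) _)
        | pred i ih =>
          have e : x ^ (-(i : ℤ) - 1) * u * (x ^ (-(i : ℤ) - 1))⁻¹ * (u : G)⁻¹ =
              (x⁻¹ * (x ^ (-(i : ℤ)) * u * (x ^ (-(i : ℤ)))⁻¹ * (u : G)⁻¹) * x) *
                (x⁻¹ * (x * u * x⁻¹ * (u : G)⁻¹)⁻¹ * x) := by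
            rw [zpow_sub_one]; group
          have fixC : ∀ c ∈ C, x⁻¹ * c * x = c := fun c hc => by
            rw [mul_assoc, hCA c hc, inv_mul_cancel_left]
          rw [e, fixC _ (ih (Subgroup.zpow_mem _ (Subgroup.mem_zpowers x) _)),
            fixC _ (inv_mem h1)]
          exact mul_mem (ih (Subgroup.zpow_mem _ (Subgroup.mem_zpowers x) _)) (inv_mem h1))
    have hcC : c ∈ C := ⟨hcQ, Subgroup.mem_centralizer_singleton_iff.mpr
      (hcA x (Subgroup.mem_zpowers x)).symm⟩
    refine (hker u).mpr (Subgroup.mem_sup_left ?_)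
    have := C.mul_mem hcC (inv_mem hcN)
    simpa using this
  have hVcomm : ∀ a ∈ V, ∀ b ∈ V, Commute a b := by
    rintro _ ⟨a, ha, rfl⟩ _ ⟨b, hb, rfl⟩
    change (a : G) ∈ Q at ha
    change (b : G) ∈ Q at hb
    rw [← commutatorElement_eq_one_iff_commute, ← map_commutatorElement, hker]
    refine Subgroup.mem_sup_left (hΦ ⁅(⟨(a : G), ha⟩ : Q), (⟨(b : G), hb⟩ : Q)⁆ ?_)
    exact commutator_le_frattini Q
      (Subgroup.commutator_mem_commutator (Subgroup.mem_top _) (Subgroup.mem_top _))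
  have hVp : ∀ a ∈ V, a ^ p = 1 := by
    rintro _ ⟨a, ha, rfl⟩
    change (a : G) ∈ Q at ha
    rw [← map_pow, hker]
    exact Subgroup.mem_sup_left (hΦ _ (FrattiniAut.pow_mem_frattini hQ ⟨(a : G), ha⟩))
  have hxbq : xb ^ q = 1 := by
    rw [hxb, ← map_pow, hker]
    exact Subgroup.mem_sup_right (Subgroup.mem_zpowers _)
  obtain ⟨v, hv, hv1⟩ : ∃ v ∈ V, v ≠ 1 := by
    obtain ⟨u, hu, hux⟩ : ∃ u ∈ Q, u * x ≠ x * u := by
      by_contra hcon
      push Not at hcon
      exact hxc hcon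
    refine ⟨π ⟨u, Subgroup.mem_sup_left hu⟩, ⟨_, hu, rfl⟩, fun h1 => hux ?_⟩
    exact Subgroup.mem_centralizer_singleton_iff.mp (hQN ⟨hu, (hker _).mp h1⟩).2
  have hdecomp : ∀ k, ∃ a ∈ V, ∃ i : ℤ, a * xb ^ i = k := by
    intro k
    obtain ⟨⟨y, hy⟩, rfl⟩ := QuotientGroup.mk'_surjective _ k
    obtain ⟨a, ha, b, hb, hab⟩ := (mem_sup_of_le_normalizer hAQ).mp hy
    obtain ⟨i, rfl⟩ := Subgroup.mem_zpowers_iff.mp hb
    refine ⟨π ⟨a, Subgroup.mem_sup_left ha⟩, ⟨_, ha, rfl⟩, i, ?_⟩
    rw [hxb, ← map_zpow, ← map_mul]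
    exact congrArg π (Subtype.ext hab)
  have hcop' : ∀ i : ℤ, ¬ (q : ℤ) ∣ i → ∀ a : H ⧸ (C ⊔ B).subgroupOf H,
      Commute (xb ^ i) a → Commute xb a := by
    intro i hi a hc
    obtain ⟨s, t, hst⟩ := ((Nat.prime_iff_prime_int.mp hq).coprime_iff_not_dvd.mpr hi)
    have : xb = (xb ^ i) ^ t := by
      conv_lhs => rw [← zpow_one xb, ← hst, zpow_add, mul_comm s, zpow_mul, zpow_natCast, hxbq,
        one_zpow, one_mul, mul_comm t, zpow_mul]
    rw [this]
    exact hc.zpow_left t
  have hord : ∀ k, k ∈ V ∨ k ^ q = 1 := by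
    intro k
    obtain ⟨a, ha, i, rfl⟩ := hdecomp k
    by_cases hi : (q : ℤ) ∣ i
    · obtain ⟨j, rfl⟩ := hi
      left
      rwa [zpow_mul, zpow_natCast, hxbq, one_zpow, mul_one]
    right
    have hmem : (a * xb ^ i) ^ q ∈ V := by
      rw [← QuotientGroup.eq_one_iff, QuotientGroup.mk_pow, QuotientGroup.mk_mul,
        (QuotientGroup.eq_one_iff a).mpr ha, one_mul, ← QuotientGroup.mk_pow, ← zpow_natCast,
        ← zpow_mul, mul_comm i, zpow_mul, zpow_natCast, hxbq, one_zpow, QuotientGroup.mk_one]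
    refine hfix _ hmem (hcop' i hi _ ?_)
    have h1 : Commute (a * xb ^ i) ((a * xb ^ i) ^ q) := (Commute.refl _).pow_right q
    have h2 : Commute a⁻¹ ((a * xb ^ i) ^ q) := (hVcomm a ha _ hmem).inv_left
    simpa using h2.mul_left h1
  constructor
  · rw [eq_bot_iff]
    intro m hm
    haveI : (pPrimeCore p (H ⧸ (C ⊔ B).subgroupOf H)).Normal := inferInstance
    have hmo : (orderOf m).Coprime p := Nat.Coprime.coprime_dvd_left
      ((pPrimeCore p _).orderOf_dvd_natCard hm) PLocal.Cores.coprime_card_pPrimeCore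
    rw [Subgroup.mem_bot]
    have hVm : ∀ w ∈ V, orderOf w ∣ p := fun w hw => orderOf_dvd_of_pow_eq_one (hVp w hw)
    have hdis : ∀ w ∈ V, w ∈ pPrimeCore p (H ⧸ (C ⊔ B).subgroupOf H) → w = 1 := by
      intro w hw hw'
      rw [← orderOf_eq_one_iff]
      exact Nat.eq_one_of_dvd_coprimes (Nat.Coprime.coprime_dvd_left
        ((pPrimeCore p _).orderOf_dvd_natCard hw') PLocal.Cores.coprime_card_pPrimeCore)
        dvd_rfl (hVm w hw)
    obtain ⟨a, ha, i, hai⟩ := hdecomp m
    by_cases hi : (q : ℤ) ∣ i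
    · obtain ⟨j, rfl⟩ := hi
      rw [zpow_mul, zpow_natCast, hxbq, one_zpow, mul_one] at hai
      exact hdis m (hai ▸ ha) hm
    exfalso
    refine hv1 (hfix v hv (hcop' i hi v ?_))
    have hmv : Commute m v := by
      rw [← commutatorElement_eq_one_iff_commute]
      refine hdis _ ?_ ?_
      · rw [commutatorElement_def]
        exact mul_mem (hVn.conj_mem v hv m) (inv_mem hv)
      · rw [commutatorElement_def, mul_assoc m v, mul_assoc m]
        exact mul_mem hm (Subgroup.Normal.conj_mem inferInstance _ (inv_mem hm) v)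
    have : Commute (a⁻¹ * m) v := ((hVcomm a ha v hv).inv_left).mul_left hmv
    rwa [← hai, inv_mul_cancel_left] at this
  · intro k hk
    have hp' : p ∣ orderOf k := by
      rw [hk]
      have : orderOf v = p := orderOf_eq_prime (hVp v hv) hv1
      exact this ▸ Monoid.order_dvd_exponent v
    have hq' : q ∣ orderOf k := by
      rw [hk]
      have hne : xb ≠ 1 := fun h1 => hv1 (hfix v hv (h1 ▸ Commute.one_left v))
      haveI := Fact.mk hq
      exact (orderOf_eq_prime hxbq hne) ▸ Monoid.order_dvd_exponent xb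
    rcases hord k with h' | h'
    · have := (Nat.prime_dvd_prime_iff_eq hq hp.out).mp
        (hq'.trans (orderOf_dvd_of_pow_eq_one (hVp k h')))
      exact hqp this
    · have := (Nat.prime_dvd_prime_iff_eq hp.out hq).mp
        (hp'.trans (orderOf_dvd_of_pow_eq_one h'))
      exact hqp this.symm

end Cfsg.Agent.GroupStructure3.SectionCriterion
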