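import Cfsg.Agent.Solvable.Frobenius
import Cfsg.Agent.S0042
import Mathlib

/-!
A Frobenius complement with a quaternion subgroup has a kernel of square order.
-/

set_option autoImplicit false

namespace Cfsg.Agent.GroupStructure3.SquareOrder

/-- Two anticommuting injective endomorphisms of a vector space force even dimension. -/
theorem isSquare_card_zmod {p : ℕ} [hp : Fact p.Prime] (hp2 : p ≠ 2) {V : Type*} [AddCommGroup V]
    [Module (ZMod p) V] [Finite V] (I J : V →+ V) (hI : Function.Injective I)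
    (hJ : Function.Injective J) (h : ∀ a, J (I a) = -(I (J a))) : IsSquare (Nat.card V) := by
  have hcomm : (J.toZModLinearMap p) ∘ₗ (I.toZModLinearMap p) =
      (-1 : ZMod p) • ((I.toZModLinearMap p) ∘ₗ (J.toZModLinearMap p)) := by
    refine LinearMap.ext fun a => ?_
    rw [LinearMap.smul_apply, neg_one_smul]
    exact h a
  have hne : ∀ T : V →+ V, Function.Injective T → LinearMap.det (T.toZModLinearMap p) ≠ 0 :=
    fun T hT h0 => (Submodule.ne_bot_iff _).1 (LinearMap.det_eq_zero_iff_ker_ne_bot.1 h0)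
      |> fun ⟨a, ha, ha0⟩ => ha0 (hT ((ha : T a = 0).trans (map_zero T).symm))
  have hdet := congrArg LinearMap.det hcomm
  rw [LinearMap.det_comp, LinearMap.det_smul, LinearMap.det_comp,
    mul_comm (LinearMap.det (J.toZModLinearMap p)), eq_comm, mul_left_eq_self₀] at hdet
  have heven : Even (Module.finrank (ZMod p) V) := by
    rcases hdet with hdet | hdet
    · by_contra hne'
      rw [Nat.not_even_iff_odd] at hne'
      rw [hne'.neg_one_pow] at hdet
      have h2 : ((2 : ℕ) : ZMod p) = 0 := by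
        push_cast
        linear_combination (-1 : ZMod p) * hdet
      rw [ZMod.natCast_eq_zero_iff] at h2
      exact hp2 ((Nat.prime_dvd_prime_iff_eq hp.out Nat.prime_two).1 h2)
    · exact absurd hdet (mul_ne_zero (hne I hI) (hne J hJ))
  rw [Module.natCard_eq_pow_finrank (K := ZMod p) (V := V), Nat.card_zmod]
  exact heven.isSquare_pow p

/-- Two anticommuting automorphisms force square order on a group of odd order. -/
theorem isSquare_card {A : Type*} [AddCommGroup A] [Finite A] (hodd : Odd (Nat.card A))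
    (I J : A ≃+ A) (hJI : ∀ a, J (I a) = -(I (J a))) : IsSquare (Nat.card A) := by
  classical
  suffices ∀ (n : ℕ) (S : AddSubgroup A), Nat.card S = n → (∀ a ∈ S, I a ∈ S) →
      (∀ a ∈ S, J a ∈ S) → IsSquare n by
    have h := this _ ⊤ AddSubgroup.card_top (fun _ _ => AddSubgroup.mem_top _)
      (fun _ _ => AddSubgroup.mem_top _)
    exact h
  intro n
  induction n using Nat.strong_induction_on with
  | _ n ih =>
    intro S hn hIS hJS
    by_cases h1 : n = 1
    · rw [h1]; exact IsSquare.one
    obtain ⟨p, hp, hpn⟩ := Nat.exists_prime_and_dvd h1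
    haveI := Fact.mk hp
    have hp2 : p ≠ 2 := by
      rintro rfl
      have h2 : 2 ∣ Nat.card A := (hn ▸ hpn).trans (AddSubgroup.card_addSubgroup_dvd_card S)
      exact (Nat.not_even_iff_odd.2 hodd) (even_iff_two_dvd.2 h2)
    let f : S →+ S := nsmulAddMonoidHom p
    obtain ⟨x, hx⟩ := exists_prime_addOrderOf_dvd_card' (G := S) p (hn ▸ hpn)
    have hker : Nontrivial f.ker := by
      refine nontrivial_of_ne ⟨x, ?_⟩ 0 fun e => ?_
      · show p • x = 0
        rw [← hx, addOrderOf_nsmul_eq_zero]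
      · have hx0 : x = 0 := congrArg Subtype.val e
        rw [hx0, addOrderOf_zero] at hx
        exact hp.one_lt.ne hx
    have hcard : Nat.card S = Nat.card f.range * Nat.card f.ker := by
      rw [AddSubgroup.card_eq_card_quotient_mul_card_addSubgroup f.ker,
        Nat.card_congr (QuotientAddGroup.quotientKerEquivRange f).toEquiv]
    have hrange : IsSquare (Nat.card f.range) := by
      refine ih _ ?_ (f.range.map S.subtype)
        (AddSubgroup.card_map_of_injective S.subtype_injective) ?_ ?_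
      · rw [← hn, hcard]
        exact lt_mul_right Nat.card_pos Finite.one_lt_card
      · rintro _ ⟨_, ⟨a, rfl⟩, rfl⟩
        exact ⟨f ⟨I a, hIS _ a.2⟩, ⟨_, rfl⟩, by simp [f]⟩
      · rintro _ ⟨_, ⟨a, rfl⟩, rfl⟩
        exact ⟨f ⟨J a, hJS _ a.2⟩, ⟨_, rfl⟩, by simp [f]⟩
    have hkill : ∀ x : f.ker, p • x = 0 := fun x => Subtype.ext x.2
    have hres : ∀ (T : A ≃+ A), (∀ a ∈ S, T a ∈ S) → ∃ T' : f.ker →+ f.ker,
        ∀ a, (((T' a : S)) : A) = T ((a : S) : A) := by
      intro T hT
      exact ⟨{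
        toFun := fun a => ⟨⟨T ((a : S) : A), hT _ (a : S).2⟩, Subtype.ext (by
          show p • T ((a : S) : A) = 0
          rw [← map_nsmul, show p • ((a : S) : A) = 0 from congrArg Subtype.val a.2, map_zero])⟩
        map_zero' := Subtype.ext (Subtype.ext (map_zero T))
        map_add' := fun a b => Subtype.ext (Subtype.ext (map_add T _ _)) }, fun a => rfl⟩
    obtain ⟨I', hI'⟩ := hres I hIS
    obtain ⟨J', hJ'⟩ := hres J hJS
    have hinj : ∀ (T : A ≃+ A) (T' : f.ker →+ f.ker),
        (∀ a, (((T' a : S)) : A) = T ((a : S) : A)) → Function.Injective T' := by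
      intro T T' hT' a b hab
      refine Subtype.ext (Subtype.ext (T.injective ?_))
      rw [← hT', ← hT', hab]
    have hsq := @isSquare_card_zmod p _ hp2 ↥f.ker _ (AddCommGroup.zmodModule hkill) _ I' J'
      (hinj I I' hI') (hinj J J' hJ') (fun a => by
        refine Subtype.ext (Subtype.ext ?_)
        show (((J' (I' a) : S)) : A) = -(((I' (J' a) : S)) : A)
        rw [hJ', hI', hI', hJ', hJI])
    rw [← hn, hcard]
    exact hrange.mul hsq

/-- A Frobenius complement with a noncyclic Sylow subgroup has a kernel of odd square order. -/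
theorem kernel_card {L : Type*} [Group L] [Finite L] {H : Subgroup L}
    (hF : Cfsg.IsFrobeniusComplement H) {p : ℕ} [Fact p.Prime] (P : Sylow p H) (hP : ¬ IsCyclic P) :
    Odd (Nat.card (Cfsg.frobeniusKernel H)) ∧ IsSquare (Nat.card (Cfsg.frobeniusKernel H)) ∧
      1 < Nat.card (Cfsg.frobeniusKernel H) := by
  obtain ⟨N, hNset, hNn, hc⟩ := Cfsg.Agent.Characters.frobenius_kernel_theorem hF
  rw [← hNset]
  have hfpf := Cfsg.Agent.Solvable.Frobenius.fpf_of_kernel hF hc
  have hHN : H ≤ Subgroup.normalizer (N : Set L) := Subgroup.le_normalizer_of_normal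
  have hN0 := Cfsg.Agent.Solvable.Frobenius.kernel_ne_bot hF hc
  set A := (P : Subgroup H).map H.subtype with hA
  have hAH : A ≤ H := Subgroup.map_subtype_le _
  let eA : (P : Subgroup H) ≃* A := Subgroup.equivMapOfInjective _ _ H.subtype_injective
  have hfA := Cfsg.Agent.Coprime.fpf_mono hfpf hAH le_rfl
  rcases Cfsg.Agent.Coprime.fpf_isCyclic_or_quaternion (p := p) (P.2.of_equiv eA)
    (hAH.trans hHN) hfA hN0 with hcyc | ⟨-, n, ⟨e⟩⟩
  · haveI := hcyc
    exact absurd (isCyclic_of_surjective eA.symm eA.symm.surjective) hP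
  obtain ⟨m, rfl⟩ : ∃ m, n = m + 1 := by
    refine Nat.exists_eq_succ_of_ne_zero fun h => hP ?_
    subst h
    haveI : NeZero (2 ^ 0) := ⟨by norm_num⟩
    haveI : IsCyclic (QuaternionGroup (2 ^ 0)) := isCyclic_of_orderOf_eq_card (QuaternionGroup.xa 0) (by
      rw [QuaternionGroup.orderOf_xa, Nat.card_eq_fintype_card, QuaternionGroup.card]; norm_num)
    haveI := isCyclic_of_surjective e.symm e.symm.surjective
    exact isCyclic_of_surjective eA.symm eA.symm.surjective
  -- `i, j` with `j i j⁻¹ = i⁻¹` and `z = i²` an involution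
  let i0 : QuaternionGroup (2 ^ (m + 1)) := .a (2 ^ m : ℕ)
  let j0 : QuaternionGroup (2 ^ (m + 1)) := .xa 0
  have hji : j0 * i0 = i0⁻¹ * j0 := by
    show QuaternionGroup.xa (0 + _) = QuaternionGroup.a (-_) * QuaternionGroup.xa 0
    rw [QuaternionGroup.a_mul_xa, zero_add, zero_sub, neg_neg]
  have hz : i0 * i0 ≠ 1 ∧ (i0 * i0) * (i0 * i0) = 1 := by
    rw [QuaternionGroup.a_mul_a, QuaternionGroup.a_mul_a, QuaternionGroup.one_def]
    constructor
    · intro h
      injection h with h
      rw [← Nat.cast_add, ZMod.natCast_eq_zero_iff] at h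
      have h2 := Nat.le_of_dvd (by positivity) h
      have h3 := Nat.two_pow_pos m
      rw [pow_succ] at h2
      omega
    · congr 1
      rw [← Nat.cast_add, ← Nat.cast_add, ZMod.natCast_eq_zero_iff]
      exact dvd_of_eq (by ring)
  set i : L := ((e.symm i0 : A) : L) with hi
  set j : L := ((e.symm j0 : A) : L) with hj
  have hji' : j * i = i⁻¹ * j := by
    have := congrArg (fun x => ((e.symm x : A) : L)) hji
    simpa only [map_mul, map_inv, Subgroup.coe_mul, Subgroup.coe_inv] using this
  have hzz : orderOf (i * i) = 2 := by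
    have h1 : orderOf (i0 * i0) = 2 := orderOf_eq_prime (by rw [sq]; exact hz.2) hz.1
    have : i * i = ((e.symm (i0 * i0) : A) : L) := by rw [map_mul, Subgroup.coe_mul]
    rw [this, Subgroup.orderOf_coe, MulEquiv.orderOf_eq, h1]
  have hiA : i ∈ A := (e.symm i0).2
  have hinv := Cfsg.Agent.Solvable.Frobenius.fpf_involution_inv (hAH.trans hHN) hfA
    (mul_mem hiA hiA) hzz
  have hodd : Odd (Nat.card N) := by
    have hcop := Cfsg.Agent.Coprime.fpf_coprime (hAH.trans hHN) hfA
    have h2 : 2 ∣ Nat.card A := hzz ▸ Subgroup.orderOf_dvd_natCard A (mul_mem hiA hiA)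
    exact (Nat.prime_two.coprime_iff_not_dvd.1 (hcop.coprime_dvd_left h2)) |> fun h =>
      Nat.odd_iff.2 (by omega)
  have hcomm : ∀ x y : N, x * y = y * x := fun x y => by
    refine Subtype.ext (inv_injective ?_)
    have h1 := hinv _ (mul_mem x.2 y.2)
    calc ((x : L) * y)⁻¹ = (i * i) * ((x : L) * y) * (i * i)⁻¹ := h1.symm
      _ = ((i * i) * x * (i * i)⁻¹) * ((i * i) * y * (i * i)⁻¹) := by group
      _ = ((y : L) * x)⁻¹ := by rw [hinv _ x.2, hinv _ y.2, mul_inv_rev]
  letI : CommGroup N := { (inferInstance : Group N) with mul_comm := hcomm }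
  let I : Additive N ≃+ Additive N := MulEquiv.toAdditive (MulAut.conjNormal i)
  let J : Additive N ≃+ Additive N := MulEquiv.toAdditive (MulAut.conjNormal j)
  refine ⟨hodd, ?_, (Subgroup.one_lt_card_iff_ne_bot _).2 hN0⟩
  have hJI : ∀ a, J (I a) = -(I (J a)) := by
    intro a
    apply Additive.toMul.injective
    refine Subtype.ext ?_
    show j * (i * (a.toMul : L) * i⁻¹) * j⁻¹ = (i * (j * (a.toMul : L) * j⁻¹) * i⁻¹)⁻¹
    have hjm : i * (j * (a.toMul : L) * j⁻¹) * i⁻¹ ∈ N :=
      hNn.conj_mem _ (hNn.conj_mem _ a.toMul.2 j) i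
    rw [← hinv _ hjm]
    calc j * (i * (a.toMul : L) * i⁻¹) * j⁻¹ = (j * i) * a.toMul * (j * i)⁻¹ := by group
      _ = (i⁻¹ * j) * a.toMul * (i⁻¹ * j)⁻¹ := by rw [hji']
      _ = i⁻¹ * (j * (a.toMul : L) * j⁻¹) * (i⁻¹)⁻¹ := by group
      _ = (i * i * i) * (j * (a.toMul : L) * j⁻¹) * (i * i * i)⁻¹ := by
          have h4 : (i * i) * (i * i) = 1 := by rw [← sq (i * i), ← hzz, pow_orderOf_eq_one]
          have h5 : i⁻¹ = i * i * i := inv_eq_of_mul_eq_one_right (by rw [← h4]; group)
          rw [h5]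
      _ = _ := by group
  exact isSquare_card (A := Additive N) hodd I J hJI

end Cfsg.Agent.GroupStructure3.SquareOrder
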