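import Mathlib
import Cfsg.Agent.GStructB.SubgroupCount
import Cfsg.Agent.Lib.Coprime.Basic
import Cfsg.Agent.GroupStructure3.Kulakoff

/-!
The number of subgroups of order `p ^ a` of a finite group is congruent modulo `p ^ 2` to that of
a Sylow `p`-subgroup, when `p ^ (a + 1)` divides the order of the group.
-/

set_option autoImplicit false
set_option linter.unusedSectionVars false

namespace Cfsg.Agent.GroupStructure3.SubgroupCountSq

open scoped Pointwise
open Cfsg.Agent.GStructB.SubgroupCount Cfsg.Agent.GroupStructure3.Kulakoff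

variable {G : Type*} [Group G] [Finite G] {p : ℕ} [hp : Fact p.Prime]

/-- An invariant function with `d ∣ |orbit| * f` has sum divisible by `d`. -/
theorem dvd_sum_invariant {A X : Type*} [Group A] [MulAction A X] [Fintype X] (f : X → ℕ)
    (hf : ∀ (a : A) x, f (a • x) = f x) (d : ℕ)
    (h : ∀ x, d ∣ Nat.card (MulAction.orbit A x) * f x) : d ∣ ∑ x, f x := by
  classical
  rw [← Finset.sum_fiberwise_of_maps_to
    (g := fun x : X => (Quotient.mk (MulAction.orbitRel A X) x))
    (t := Finset.univ.image fun x : X => Quotient.mk (MulAction.orbitRel A X) x)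
    (fun x hx => Finset.mem_image_of_mem _ hx)]
  refine Finset.dvd_sum fun C hC => ?_
  obtain ⟨x, -, rfl⟩ := Finset.mem_image.mp hC
  have hconst : ∀ y ∈ Finset.univ.filter (fun y => Quotient.mk (MulAction.orbitRel A X) y =
      Quotient.mk (MulAction.orbitRel A X) x), f y = f x := by
    intro y hy
    obtain ⟨a, rfl⟩ := MulAction.orbitRel_apply.mp (Quotient.exact (Finset.mem_filter.mp hy).2)
    exact hf a x
  rw [Finset.sum_congr rfl hconst, Finset.sum_const, smul_eq_mul]
  refine (h x).trans (dvd_of_eq ?_)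
  rw [Nat.card_eq_fintype_card, ← Set.toFinset_card]
  congr 2
  ext y
  simp only [Set.mem_toFinset, Finset.mem_filter, Finset.mem_univ, true_and]
  exact ⟨fun hy => Quotient.sound (MulAction.orbitRel_apply.mpr hy),
    fun hy => MulAction.orbitRel_apply.mp (Quotient.exact hy)⟩

/-- Conjugation of a subgroup `S` on all subgroups. -/
@[reducible] def conjAction (S : Subgroup G) : MulAction S (Subgroup G) :=
  MulAction.compHom (Subgroup G) ((MulAut.conj).comp S.subtype)

/-- The size of an orbit. -/
theorem card_orbit (S H : Subgroup G) :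
    letI := conjAction S
    Nat.card (MulAction.orbit S H) = (Subgroup.normalizer (H : Set G)).relIndex S := by
  letI := conjAction S
  rw [Nat.card_congr (MulAction.orbitEquivQuotientStabilizer S H), ← Subgroup.index_eq_card,
    Subgroup.relIndex]
  congr 1
  ext a
  rw [MulAction.mem_stabilizer_iff, Subgroup.mem_subgroupOf, ← Coprime.conj_smul_eq_self_iff]
  rfl

theorem card_filter_le (S : Subgroup G) [Fintype (Subgroup G)] (q : ℕ)
    [DecidablePred fun H : Subgroup G => Nat.card H = q ∧ H ≤ S] :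
    (Finset.univ.filter fun H : Subgroup G => Nat.card H = q ∧ H ≤ S).card = cnt S q := by
  classical
  rw [cnt_subgroup, Nat.card_eq_fintype_card, Fintype.card_subtype]

/-- The subgroups of a normalized `p`-subgroup fixed by a `p`-group are `1` modulo `p` many. -/
theorem card_fixed_modEq {R S : Subgroup G} (hR : IsPGroup p R)
    (hRS : R ≤ Subgroup.normalizer (S : Set G)) {a : ℕ} (ha : p ^ a ∣ Nat.card S)
    [Fintype (Subgroup G)]
    [DecidablePred fun H : Subgroup G => (Nat.card H = p ^ a ∧ H ≤ S) ∧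
      R ≤ Subgroup.normalizer (H : Set G)] :
    (Finset.univ.filter fun H : Subgroup G => (Nat.card H = p ^ a ∧ H ≤ S) ∧
      R ≤ Subgroup.normalizer (H : Set G)).card ≡ 1 [MOD p] := by
  classical
  letI := conjAction R
  have hinv : ∀ (r : R) (H : Subgroup G), (Nat.card (r • H : Subgroup G) = p ^ a ∧ r • H ≤ S) ↔
      (Nat.card H = p ^ a ∧ H ≤ S) := by
    intro r H
    change (Nat.card (MulAut.conj (r : G) • H : Subgroup G) = p ^ a ∧ MulAut.conj (r : G) • H ≤ S) ↔ _
    rw [Coprime.card_conj_smul]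
    refine and_congr_right fun _ => ?_
    conv_lhs => rw [← Coprime.conj_smul_eq_self_iff.mpr (hRS r.2)]
    exact Subgroup.pointwise_smul_le_pointwise_smul_iff
  let f : Subgroup G → ℕ := fun H =>
    if (Nat.card H = p ^ a ∧ H ≤ S) ∧ Nat.card (MulAction.orbit R H) ≠ 1 then 1 else 0
  have hd : p ∣ ∑ H, f H := by
    refine dvd_sum_invariant (A := R) f (fun r H => ?_) p fun H => ?_
    · simp only [f, MulAction.orbit_smul, hinv r H]
    · simp only [f]
      split_ifs with h
      · obtain ⟨k, hk⟩ := hR.card_orbit H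
        rw [mul_one, hk]
        refine dvd_pow_self p fun h0 => h.2 ?_
        rw [hk, h0, pow_zero]
      · simp
  have hfix : ∀ H : Subgroup G,
      Nat.card (MulAction.orbit R H) = 1 ↔ R ≤ Subgroup.normalizer (H : Set G) := fun H => by
    rw [card_orbit, Subgroup.relIndex_eq_one]
  have hsplit : (Finset.univ.filter fun H : Subgroup G => Nat.card H = p ^ a ∧ H ≤ S).card =
      (Finset.univ.filter fun H : Subgroup G => (Nat.card H = p ^ a ∧ H ≤ S) ∧
        R ≤ Subgroup.normalizer (H : Set G)).card + ∑ H, f H := by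
    rw [Finset.card_filter, Finset.card_filter, ← Finset.sum_add_distrib]
    refine Finset.sum_congr rfl fun H _ => ?_
    simp only [f, Ne, hfix]
    by_cases h1 : Nat.card H = p ^ a ∧ H ≤ S <;>
      by_cases h2 : R ≤ Subgroup.normalizer (H : Set G) <;> simp [h1, h2]
  rw [card_filter_le] at hsplit
  have h1 : cnt S (p ^ a) ≡ 1 [MOD p] := card_subgroups_modEq_one hp.out ha
  rw [hsplit] at h1
  refine Nat.ModEq.trans ?_ h1
  exact (Nat.add_modEq_left_iff.mpr hd).symm

theorem pow_index_inf {R S : Subgroup G} {v : ℕ} (hR : Nat.card R = p ^ v) (hSR : S ≤ R)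
    (hrel : S.relIndex R = p) : Nat.card S * p = p ^ v := by
  have h1 := Subgroup.relIndex_mul_relIndex (⊥ : Subgroup G) S R bot_le hSR
  rwa [Subgroup.relIndex_bot_left, Subgroup.relIndex_bot_left, hrel, hR] at h1

/-- A `p`-subgroup over a maximal subgroup of a Sylow subgroup, but not inside it, has Sylow
order. -/
theorem card_sup_maximal (P : Sylow p G) {v : ℕ} (hv : Nat.card (P : Subgroup G) = p ^ v)
    {H S : Subgroup G} (hH : IsPGroup p H) (hS : S ≤ (P : Subgroup G))
    (hrel : S.relIndex (P : Subgroup G) = p) (hHS : ¬ H ≤ S)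
    (hn : S ≤ Subgroup.normalizer (H : Set G)) :
    IsPGroup p (S ⊔ H : Subgroup G) ∧ Nat.card (S ⊔ H : Subgroup G) = p ^ v := by
  have hs : IsPGroup p (S ⊔ H : Subgroup G) := (P.2.to_le hS).to_sup_of_normal_right' hH hn
  refine ⟨hs, Nat.dvd_antisymm ?_ ?_⟩
  · obtain ⟨j, hj⟩ := hs.exists_card_eq
    rw [hj, ← hv]
    exact P.pow_dvd_card_of_pow_dvd_card (hj ▸ Subgroup.card_subgroup_dvd_card _)
  · have h1 := Subgroup.relIndex_mul_relIndex (⊥ : Subgroup G) S (S ⊔ H) bot_le le_sup_left
    rw [Subgroup.relIndex_bot_left, Subgroup.relIndex_bot_left] at h1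
    rw [← pow_index_inf hv hS hrel, ← h1]
    refine mul_dvd_mul_left _ ?_
    obtain ⟨j, hj⟩ := hs.index (S.subgroupOf (S ⊔ H))
    change S.relIndex (S ⊔ H) = p ^ j at hj
    rw [hj]
    refine dvd_pow_self p fun h0 => hHS ((le_sup_right : H ≤ S ⊔ H).trans (Subgroup.relIndex_eq_one.mp ?_))
    rw [hj, h0, pow_zero]

/-- Subgroups normalized by `R` outside a maximal subgroup `S` of it. -/
theorem dvd_fixed_outside [Fintype (Subgroup G)] {R S : Subgroup G} {v a : ℕ}
    (hR : Nat.card R = p ^ v) (hav : a + 1 ≤ v) (hSR : S ≤ R) (hrel : S.relIndex R = p)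
    [DecidablePred fun H : Subgroup G => (Nat.card H = p ^ a ∧ H ≤ R) ∧
      R ≤ Subgroup.normalizer (H : Set G) ∧ ¬ H ≤ S] :
    p ∣ (Finset.univ.filter fun H : Subgroup G => (Nat.card H = p ^ a ∧ H ≤ R) ∧
      R ≤ Subgroup.normalizer (H : Set G) ∧ ¬ H ≤ S).card := by
  classical
  have hRn : R ≤ Subgroup.normalizer (S : Set G) := by
    haveI : (S.subgroupOf R).Normal := by
      refine Subgroup.normal_of_index_eq_minFac_card ?_
      change S.relIndex R = _
      rw [hrel, hR, hp.out.pow_minFac (by omega)]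
    exact Subgroup.normal_subgroupOf_iff_le_normalizer hSR |>.mp this
  have hc1 : p ^ a ∣ Nat.card R := hR ▸ pow_dvd_pow p (by omega)
  have hc0 : p ^ a ∣ Nat.card S := by
    have h3 : p ^ (a + 1) ∣ Nat.card S * p := pow_index_inf hR hSR hrel ▸ pow_dvd_pow p hav
    rw [pow_succ] at h3
    exact Nat.dvd_of_mul_dvd_mul_right hp.out.pos h3
  have e1 := card_fixed_modEq (a := a) (IsPGroup.of_card hR) Subgroup.le_normalizer hc1
  have e0 := card_fixed_modEq (a := a) (IsPGroup.of_card hR) hRn hc0
  have hadd : (Finset.univ.filter fun H : Subgroup G => (Nat.card H = p ^ a ∧ H ≤ R) ∧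
        R ≤ Subgroup.normalizer (H : Set G) ∧ ¬ H ≤ S).card +
      (Finset.univ.filter fun H : Subgroup G => (Nat.card H = p ^ a ∧ H ≤ S) ∧
        R ≤ Subgroup.normalizer (H : Set G)).card =
      (Finset.univ.filter fun H : Subgroup G => (Nat.card H = p ^ a ∧ H ≤ R) ∧
        R ≤ Subgroup.normalizer (H : Set G)).card := by
    rw [Finset.card_filter, Finset.card_filter, Finset.card_filter, ← Finset.sum_add_distrib]
    refine Finset.sum_congr rfl fun H _ => ?_
    have h5 : H ≤ S → H ≤ R := fun h => h.trans hSR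
    by_cases h1 : Nat.card H = p ^ a <;> by_cases h2 : R ≤ Subgroup.normalizer (H : Set G) <;>
      by_cases h3 : H ≤ S <;> by_cases h4 : H ≤ R <;> simp [h1, h2, h3, h4]
    all_goals exact absurd (h5 h3) h4
  rw [← hadd] at e1
  rw [← Nat.modEq_zero_iff_dvd]
  exact Nat.ModEq.add_right_cancel e0 (e1.trans (by rw [zero_add]))

/-- The subgroups with orbits of length `p` under the Sylow subgroup. -/
theorem dvd_orbit_part [Fintype (Subgroup G)] (P : Sylow p G) {v a : ℕ}
    (hv : Nat.card (P : Subgroup G) = p ^ v) (hav : a + 1 ≤ v)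
    (hle : ∀ H : Subgroup G, IsPGroup p H →
      (P : Subgroup G) ≤ Subgroup.normalizer (H : Set G) → H ≤ (P : Subgroup G))
    : p ^ 2 ∣ Nat.card {H : Subgroup G // Nat.card H = p ^ a ∧ ¬ H ≤ (P : Subgroup G) ∧
      (Subgroup.normalizer (H : Set G)).relIndex (P : Subgroup G) = p} := by
  classical
  set Q : Subgroup G := (P : Subgroup G) with hQ
  rw [Nat.card_eq_fintype_card, Fintype.card_subtype]
  let Rs : Subgroup G → Prop := fun R => Nat.card R = p ^ v ∧ (Q ⊓ R).relIndex Q = p
  let F : Subgroup G → ℕ := fun R => if Rs R then (Finset.univ.filter fun H : Subgroup G =>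
    (Nat.card H = p ^ a ∧ H ≤ R) ∧ R ≤ Subgroup.normalizer (H : Set G) ∧ ¬ H ≤ Q ⊓ R).card else 0
  have hfib : ∀ R, ((Finset.univ.filter fun H : Subgroup G => Nat.card H = p ^ a ∧ ¬ H ≤ Q ∧
      (Subgroup.normalizer (H : Set G)).relIndex Q = p).filter
        fun H : Subgroup G => (Q ⊓ Subgroup.normalizer (H : Set G)) ⊔ H = R).card = F R := by
    intro R
    have hmeet : ∀ H : Subgroup G, Q ⊓ (Q ⊓ Subgroup.normalizer (H : Set G) ⊔ H) =
        Q ⊓ Subgroup.normalizer (H : Set G) := fun H =>
      le_antisymm (le_inf inf_le_left (inf_le_right.trans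
        (sup_le inf_le_right Subgroup.le_normalizer))) (le_inf inf_le_left le_sup_left)
    simp only [F]
    split_ifs with hR
    · congr 1
      ext H
      simp only [Finset.mem_filter, Finset.mem_univ, true_and]
      constructor
      · rintro ⟨⟨hc, hnle, hrel⟩, rfl⟩
        exact ⟨⟨hc, le_sup_right⟩, sup_le inf_le_right Subgroup.le_normalizer,
          fun h => hnle (h.trans inf_le_left)⟩
      · rintro ⟨⟨hc, hHR⟩, hRN, hnle⟩
        have hnQ : ¬ H ≤ Q := fun h => hnle (le_inf h hHR)
        have hP0 : Q ⊓ R ≤ Subgroup.normalizer (H : Set G) := inf_le_right.trans hRN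
        have hrel : (Subgroup.normalizer (H : Set G)).relIndex Q = p :=
          (hp.out.eq_one_or_self_of_dvd _ (hR.2 ▸ Subgroup.relIndex_dvd_of_le_left Q hP0)
            ).resolve_left fun h1 => hnQ (hle H (IsPGroup.of_card hc) (Subgroup.relIndex_eq_one.mp h1))
        have heq : Q ⊓ Subgroup.normalizer (H : Set G) = Q ⊓ R := by
          refine (Subgroup.eq_of_le_of_card_ge (le_inf inf_le_left hP0) (le_of_eq ?_)).symm
          refine Nat.eq_of_mul_eq_mul_right hp.out.pos ?_
          rw [pow_index_inf hv inf_le_left hR.2, pow_index_inf hv inf_le_left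
            ((Subgroup.inf_relIndex_left _ _).trans hrel)]
        refine ⟨⟨hc, hnQ, hrel⟩, ?_⟩
        rw [heq]
        refine Subgroup.eq_of_le_of_card_ge (sup_le inf_le_right hHR) (le_of_eq ?_)
        rw [hR.1]
        exact (card_sup_maximal P hv (IsPGroup.of_card hc) inf_le_left hR.2 hnle hP0).2.symm
    · rw [Finset.card_eq_zero, Finset.filter_eq_empty_iff]
      intro H hH hHR
      obtain ⟨hc, hnle, hrel⟩ := (Finset.mem_filter.mp hH).2
      have h0 : (Q ⊓ Subgroup.normalizer (H : Set G)).relIndex Q = p :=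
        (Subgroup.inf_relIndex_left _ _).trans hrel
      refine hR (hHR ▸ ⟨(card_sup_maximal P hv (IsPGroup.of_card hc) inf_le_left h0
        (fun h => hnle (h.trans inf_le_left)) inf_le_right).2, ?_⟩)
      rw [hmeet H]
      exact h0
  rw [Finset.card_eq_sum_card_fiberwise
    (f := fun H : Subgroup G => (Q ⊓ Subgroup.normalizer (H : Set G)) ⊔ H) (t := Finset.univ)
    (fun _ _ => Finset.mem_univ _), Finset.sum_congr rfl fun R _ => hfib R]
  letI := conjAction Q
  refine dvd_sum_invariant (A := Q) F (fun r R => ?_) _ fun R => ?_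
  · obtain ⟨g, hgQ⟩ := r
    have hsm : ∀ K : Subgroup G, (⟨g, hgQ⟩ : Q) • K = MulAut.conj g • K := fun K => rfl
    have hPr : MulAut.conj g • Q = Q :=
      Coprime.conj_smul_eq_self_iff.mpr (Subgroup.le_normalizer hgQ)
    have hinf : ∀ K : Subgroup G, Q ⊓ MulAut.conj g • K = MulAut.conj g • (Q ⊓ K) := by
      intro K; rw [Subgroup.smul_inf, hPr]
    have hRs : Rs (MulAut.conj g • R) ↔ Rs R := by
      have h2 : (Q ⊓ MulAut.conj g • R).relIndex Q = (Q ⊓ R).relIndex Q := by
        rw [hinf]
        conv_lhs => arg 2; rw [← hPr]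
        rw [Subgroup.relIndex_pointwise_smul]
      simp only [Rs, Coprime.card_conj_smul, h2]
    simp only [F, hsm, hRs]
    split_ifs with h
    · refine (Finset.card_bij (fun H _ => MulAut.conj g • H) ?_
        (fun _ _ _ _ h => MulAction.injective (MulAut.conj g) h) ?_).symm
      · intro H hH
        simp only [Finset.mem_filter, Finset.mem_univ, true_and] at hH ⊢
        rw [Coprime.card_conj_smul, ← Coprime.conj_smul_normalizer, hinf,
          Subgroup.pointwise_smul_le_pointwise_smul_iff, Subgroup.pointwise_smul_le_pointwise_smul_iff,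
          Subgroup.pointwise_smul_le_pointwise_smul_iff]
        exact hH
      · intro K hK
        obtain ⟨H, rfl⟩ : ∃ H, MulAut.conj g • H = K :=
          ⟨(MulAut.conj g)⁻¹ • K, smul_inv_smul _ K⟩
        refine ⟨H, ?_, rfl⟩
        simp only [Finset.mem_filter, Finset.mem_univ, true_and] at hK ⊢
        rw [Coprime.card_conj_smul, ← Coprime.conj_smul_normalizer, hinf,
          Subgroup.pointwise_smul_le_pointwise_smul_iff, Subgroup.pointwise_smul_le_pointwise_smul_iff,
          Subgroup.pointwise_smul_le_pointwise_smul_iff] at hK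
        exact hK
    · rfl
  simp only [F]
  split_ifs with hR
  swap
  · simp
  have hRor : Nat.card (MulAction.orbit Q R) = p := by
    rw [card_orbit, ← Subgroup.inf_relIndex_left]
    conv_rhs => rw [← hR.2]
    congr 1
    refine le_antisymm (le_inf inf_le_left ?_) (le_inf inf_le_left
      (inf_le_right.trans Subgroup.le_normalizer))
    -- a `p`-group normalizing a Sylow subgroup lies in it
    obtain ⟨R', hR'⟩ := (IsPGroup.of_card hR.1).exists_le_sylow
    have hReq : R = (R' : Subgroup G) := Subgroup.eq_of_le_of_card_ge hR'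
      (le_of_eq ((Sylow.card_eq_multiplicity R').trans
        (((Sylow.card_eq_multiplicity P).symm.trans hv).trans hR.1.symm)))
    have h1 := R'.3 (R'.2.to_sup_of_normal_left'
      (P.2.to_le (inf_le_left : Q ⊓ Subgroup.normalizer (R : Set G) ≤ Q))
      (hReq ▸ inf_le_right)) le_sup_left
    exact le_sup_right.trans (h1.trans hReq.symm).le
  rw [hRor, sq]
  refine mul_dvd_mul_left p (dvd_fixed_outside hR.1 hav inf_le_right ?_)
  have e1 := Subgroup.relIndex_mul_relIndex (⊥ : Subgroup G) (Q ⊓ R) R bot_le inf_le_right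
  have e2 := pow_index_inf hv inf_le_left hR.2
  rw [Subgroup.relIndex_bot_left, Subgroup.relIndex_bot_left, hR.1, ← e2] at e1
  exact Nat.eq_of_mul_eq_mul_left Nat.card_pos e1

/-- Reduction to a Sylow subgroup. -/
theorem cnt_modEq_sylow {a : ℕ} (hdvd : p ^ (a + 1) ∣ Nat.card G) (P : Sylow p G) :
    cnt G (p ^ a) ≡ cnt (P : Subgroup G) (p ^ a) [MOD p ^ 2] := by
  classical
  haveI := Fintype.ofFinite (Subgroup G)
  set Q : Subgroup G := (P : Subgroup G) with hQ
  have hQp : IsPGroup p Q := P.2
  obtain ⟨v, hv⟩ := hQp.exists_card_eq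
  have hav : a + 1 ≤ v :=
    (Nat.pow_dvd_pow_iff_le_right hp.out.one_lt).mp (hv ▸ P.pow_dvd_card_of_pow_dvd_card hdvd)
  letI := conjAction Q
  have hle : ∀ H : Subgroup G, IsPGroup p H → Q ≤ Subgroup.normalizer (H : Set G) → H ≤ Q := by
    intro H hH hn
    have h1 := P.3 (hQp.to_sup_of_normal_right' hH hn) le_sup_left
    exact le_sup_right.trans h1.le
  let f : Subgroup G → ℕ := fun H => if Nat.card H = p ^ a ∧ ¬ H ≤ Q ∧
    (Subgroup.normalizer (H : Set G)).relIndex Q ≠ p then 1 else 0
  have hsplit : cnt G (p ^ a) = cnt Q (p ^ a) + (Finset.univ.filter fun H : Subgroup G =>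
      Nat.card H = p ^ a ∧ ¬ H ≤ Q ∧
        (Subgroup.normalizer (H : Set G)).relIndex Q = p).card + ∑ H, f H := by
    rw [← card_filter_le Q (p ^ a), cnt, Nat.card_eq_fintype_card, Fintype.card_subtype,
      Finset.card_filter, Finset.card_filter, Finset.card_filter, ← Finset.sum_add_distrib,
      ← Finset.sum_add_distrib]
    refine Finset.sum_congr rfl fun H _ => ?_
    simp only [f, Ne]
    by_cases h1 : Nat.card H = p ^ a <;> by_cases h2 : H ≤ Q <;>
      by_cases h3 : (Subgroup.normalizer (H : Set G)).relIndex Q = p <;> simp [h1, h2, h3]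
  have hbig : p ^ 2 ∣ ∑ H, f H := by
    refine dvd_sum_invariant (A := Q) f (fun r H => ?_) _ fun H => ?_
    · have h1 : (Subgroup.normalizer ((r • H : Subgroup G) : Set G)).relIndex Q =
          (Subgroup.normalizer (H : Set G)).relIndex Q := by
        rw [← card_orbit, ← card_orbit, MulAction.orbit_smul]
      have h2 : Nat.card (r • H : Subgroup G) = Nat.card H := Coprime.card_conj_smul (r : G) H
      have h3 : r • H ≤ Q ↔ H ≤ Q := by
        obtain ⟨g, hg⟩ := r
        change MulAut.conj g • H ≤ Q ↔ _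
        conv_lhs => rw [← Coprime.conj_smul_eq_self_iff.mpr (Subgroup.le_normalizer hg)]
        exact Subgroup.pointwise_smul_le_pointwise_smul_iff
      simp only [f, h1, h2, h3]
    · simp only [f]
      split_ifs with h
      · obtain ⟨k, hk⟩ := hQp.card_orbit H
        rw [card_orbit] at hk
        rw [mul_one, card_orbit, hk]
        refine pow_dvd_pow p ?_
        have h0 : k ≠ 0 := fun h0 => h.2.1 (hle H (IsPGroup.of_card h.1)
          (Subgroup.relIndex_eq_one.mp (by rw [hk, h0, pow_zero])))
        have h1 : k ≠ 1 := fun h1 => h.2.2 (by rw [hk, h1, pow_one])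
        omega
      · simp
  rw [hsplit, add_assoc]
  refine Nat.add_modEq_left_iff.mpr (dvd_add ?_ hbig)
  have h2 := dvd_orbit_part P hv hav hle
  rwa [Nat.card_eq_fintype_card, Fintype.card_subtype] at h2

end Cfsg.Agent.GroupStructure3.SubgroupCountSq
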