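import Mathlib

/-!
Subgroups of order `64` of `Sp₄(3)/±1` and of order `128` of `GO₆⁻(2)`, given by tables, together with
isomorphisms to permutation groups of degree `8`.
-/

set_option autoImplicit false

namespace Cfsg.Agent.GroupStructure3.SylowTables

/-- Two homomorphisms with the same kernel on a subgroup have isomorphic images. -/
theorem nonempty_range_equiv {H G A : Type*} [Group H] [Group G] [Group A] (f₁ : H →* G)
    (f₂ : H →* A) (h : f₁.ker = f₂.ker) : Nonempty (f₁.range ≃* f₂.range) :=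
  ⟨(QuotientGroup.quotientKerEquivRange f₁).symm.trans
    ((QuotientGroup.quotientMulEquivOfEq h).trans (QuotientGroup.quotientKerEquivRange f₂))⟩

/-- A table of pairs closed under left multiplication by three generators gives isomorphic subgroups. -/
theorem iso_of_table {G G' A Mm : Type*} [Group G] [Group G'] [Group A] [Finite G] [Finite A] [Monoid Mm]
    (tG : G →* Mm) (act : A → Fin 8 → Fin 8) (hact : ∀ a b, act (a * b) = act a ∘ act b)
    (hone : act 1 = id) (hinj : Function.Injective act) (φ : G →* G') (g : Fin 3 → G) (q : Fin 3 → A)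
    {N : ℕ} (hN : 0 < N) (m : Fin N → Mm) (s : Fin N → Fin 8 → Fin 8) (T : Fin 3 → Fin N → Fin N)
    (hm0 : m ⟨0, hN⟩ = 1) (hs0 : s ⟨0, hN⟩ = id)
    (hT : ∀ k i, tG (g k) * m i = m (T k i) ∧ act (q k) ∘ s i = s (T k i))
    (htree : ∀ i : Fin N, (i : ℕ) ≠ 0 → ∃ j : Fin N, (j : ℕ) < i ∧ ∃ k, T k j = i)
    (hker : ∀ h i, tG h = m i → (φ h = 1 ↔ s i = id)) :
    ∃ (K₁ : Subgroup G') (K₂ : Subgroup A), Nonempty (K₁ ≃* K₂) ∧
      Nat.card K₁ = (Finset.univ.image s).card ∧ Nat.card K₂ = (Finset.univ.image s).card := by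
  classical
  set H := Subgroup.closure (Set.range fun k => (g k, q k)) with hH
  have hto : ∀ x ∈ H, ∃ i, tG x.1 = m i ∧ act x.2 = s i := by
    intro x hx
    have hx' : x ∈ Submonoid.closure (Set.range fun k => (g k, q k)) := by
      rw [← Subgroup.closure_toSubmonoid_of_finite]; exact hx
    induction hx' using Submonoid.closure_induction_left with
    | one => exact ⟨⟨0, hN⟩, by rw [Prod.fst_one, map_one, hm0], by rw [Prod.snd_one, hone, hs0]⟩
    | mul_left y hy z hz ih =>
      obtain ⟨k, rfl⟩ := hy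
      obtain ⟨i, h1, h2⟩ := ih (by
        have := H.mul_mem (H.inv_mem (Subgroup.subset_closure (Set.mem_range_self k))) hx
        rwa [inv_mul_cancel_left] at this)
      exact ⟨T k i, by rw [Prod.fst_mul, map_mul, h1, (hT k i).1],
        by rw [Prod.snd_mul, hact, h2, (hT k i).2]⟩
  have hfrom : ∀ n, ∀ i : Fin N, (i : ℕ) = n → ∃ x ∈ H, act x.2 = s i := by
    intro n
    induction n using Nat.strong_induction_on with
    | _ n ih =>
      intro i hi
      by_cases h0 : (i : ℕ) = 0
      · exact ⟨1, H.one_mem, by rw [Prod.snd_one, hone, show i = ⟨0, hN⟩ from Fin.ext h0, hs0]⟩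
      obtain ⟨j, hj, k, hk⟩ := htree i h0
      obtain ⟨x, hx, hxs⟩ := ih _ (hi ▸ hj) j rfl
      exact ⟨(g k, q k) * x, H.mul_mem (Subgroup.subset_closure (Set.mem_range_self k)) hx,
        by rw [Prod.snd_mul, hact, hxs, (hT k j).2, hk]⟩
  let f₁ : H →* G' := φ.comp ((MonoidHom.fst G A).comp H.subtype)
  let f₂ : H →* A := (MonoidHom.snd G A).comp H.subtype
  have hk : f₁.ker = f₂.ker := by
    ext ⟨x, hx⟩
    obtain ⟨i, h1, h2⟩ := hto x hx
    show φ x.1 = 1 ↔ x.2 = 1
    rw [hker x.1 i h1, ← h2]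
    exact ⟨fun h => hinj (h.trans hone.symm), fun h => by rw [h, hone]⟩
  obtain ⟨e⟩ := nonempty_range_equiv f₁ f₂ hk
  have hc : Nat.card f₂.range = (Finset.univ.image s).card := by
    rw [← Nat.card_eq_finsetCard]
    refine Nat.card_congr (Equiv.ofBijective
      (fun a => ⟨act (a : A), ?_⟩) ⟨fun a b h => Subtype.ext (hinj (Subtype.ext_iff.1 h)), ?_⟩)
    · obtain ⟨⟨x, hx⟩, hxa⟩ := a.2
      obtain ⟨i, -, h2⟩ := hto x hx
      exact Finset.mem_image.2 ⟨i, Finset.mem_univ _, h2.symm.trans (congrArg act hxa)⟩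
    · rintro ⟨t, ht⟩
      obtain ⟨i, -, rfl⟩ := Finset.mem_image.1 ht
      obtain ⟨x, hx, hxs⟩ := hfrom _ i rfl
      exact ⟨⟨x.2, ⟨⟨x, hx⟩, rfl⟩⟩, Subtype.ext hxs⟩
  exact ⟨f₁.range, f₂.range, ⟨e⟩, (Nat.card_congr e.toEquiv).trans hc, hc⟩

/-- Decoding a square matrix over `ZMod p`. -/
def decMat (p d n : ℕ) : Matrix (Fin d) (Fin d) (ZMod p) :=
  Matrix.of fun a b => ((n / p ^ ((a : ℕ) * d + b) % p : ℕ) : ZMod p)

/-- Decoding a map of eight points. -/
def decFun (n : ℕ) (a : Fin 8) : Fin 8 := Fin.ofNat 8 (n / 8 ^ (a : ℕ))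

/-- The three generating matrices, coded in base `3`. -/
def spGen : List ℕ := [14355729, 14473819, 4960200]

/-- The group they generate. -/
def spMat : List ℕ := [14408200, 14355729, 14473819, 4960200, 14467250, 14480389, 710049, 14414771, 10275339, 4802787, 5157057, 14362281, 14421341, 9743250, 10807509, 552636, 906906, 5492451, 10117926, 10472196, 5137350, 5176767, 1657747, 4979913, 30353617, 1240761, 6024621, 9585837, 9940107, 10650096, 11004366, 887199, 926616, 1605276, 729762, 30301146, 5335038, 5689308, 10452489, 10491906, 1723366, 10295052, 30419236, 4822443, 4999623, 28757350, 31950127, 16004953, 1083348, 1437618, 5867208, 6221478, 9920400, 9959817, 1716797, 9762963, 30412667, 10984659, 11024076, 1729936, 10827222, 30425806, 572292, 749472, 28704879, 31897656, 15952482, 5669601, 5709018, 1664318, 5512164, 30360188, 10137582, 10314762, 28822969, 32015746, 16070572, 3249883, 17601463, 1417911, 1457328, 1611828, 1260474, 30307698, 6201771, 6241188, 1670888, 6044334,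 30366758, 9605493, 9782673, 28816400, 32009177, 16064003, 10669752, 10846932, 28829539, 32022316, 16077142, 3197412, 17548992, 5354694, 5531874, 28763921, 31956698, 16011524, 3315502, 17667082, 1103004, 1280184, 28711431, 31904208, 15959034, 5886864, 6064044, 28770491, 31963268, 16018094, 3308933, 17660513, 3322072, 17673652, 3256454, 17608034, 3203964, 17555544, 3263024, 17614604]

/-- The corresponding permutations, coded in base `8`. -/
def spPerm : List ℕ := [16434824, 9953370, 6823404, 16333128, 14570689, 2206071, 7069797, 342846, 9706963, 9735642, 7070252, 11760147, 5017509, 14527233, 2250423, 414967, 14526792, 443646, 14498568, 2249982, 14527233, 2278647, 6852069, 415422, 9953811, 5206572, 11571098, 11542419, 5206117, 7041132, 11570643, 5206572, 9736083, 371511, 11541978, 14571144, 5235237, 9707418, 11571098, 5234796, 14599368, 7041573, 2206526, 11542419, 5206117, 14570689, 2177847, 371070, 2279102, 16333569, 16361793, 444087, 16333128, 415422, 4988844, 2278647,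 11759706, 443646, 14498113, 9924691, 16362248, 5017068, 2279102, 16333569, 11760147, 6852524, 4988389, 2250423, 16362248, 11788826, 14498113, 6823845, 16361793, 444087, 5017509, 11788371, 9925146, 4988844, 11759706, 7069797, 11541978, 2177406, 9736083, 16434369, 9706963, 7041573, 16406145, 5234796, 342391, 9735642, 7070252, 16434824, 371070, 2177847, 5235237, 9707418, 342846, 14599809, 16405704, 2177406, 16434369, 7041132, 11570643, 2206071, 16405704, 14599809, 16406145, 342391, 414967, 14526792, 9953370, 4988389, 6852524, 14498568, 2249982, 6823404, 9925146, 11788371, 6852069, 9953811, 11788826, 6823845, 9924691, 5017068, 371511, 14571144, 14599368, 2206526]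

/-- The left multiplication table of the generators. -/
def spMul : List (List ℕ) := [[1, 4, 7, 9, 11, 2, 15, 12, 18, 20, 23, 0, 5, 27, 29, 31, 34, 36, 38, 41, 43, 10, 33, 44, 35, 48, 50, 52, 55, 57, 60, 62, 16, 54, 63, 56, 67, 70, 72, 19, 69, 73, 71, 3, 21, 64, 65, 66, 79, 82, 84, 87, 89, 28, 81, 90, 83, 94, 30, 40, 95, 42, 6, 32, 91, 92, 93, 101, 37, 86, 102, 88, 8, 39, 103, 104, 105, 99, 100, 108, 49, 22, 109, 24, 113, 51, 59, 114, 61, 13, 53, 110, 111, 112, 14, 58, 74, 75, 76, 118, 119, 17, 68, 115, 116, 117, 122, 123, 25, 80, 45, 46, 47, 26, 85, 96, 97, 98, 124, 125, 106, 107, 126, 127, 77, 78, 120, 121], [2, 5, 4, 10, 12, 11, 16, 1, 19, 21, 20, 7, 0, 28, 30, 32, 31, 37, 39, 38, 44, 43, 40, 9, 42, 49, 51, 53, 52, 58, 57, 63, 62, 59, 15, 61, 68, 67, 73, 72, 54, 18, 56, 23, 3, 74, 75, 76, 80, 79, 85, 84, 90, 89, 86, 27, 88, 95, 94, 81, 29, 83, 34, 6, 96, 97, 98, 102, 101, 33, 36, 35, 41, 8, 91, 92, 93, 106, 107, 109, 108, 69, 48, 71, 114, 113, 22, 50, 24, 55, 13, 115,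 116, 117, 60, 14, 110, 111, 112, 120, 121, 70, 17, 64, 65, 66, 118, 119, 82, 25, 103, 104, 105, 87, 26, 45, 46, 47, 126, 127, 124, 125, 99, 100, 122, 123, 77, 78], [3, 6, 8, 0, 13, 14, 1, 17, 2, 22, 24, 25, 26, 4, 5, 33, 35, 7, 40, 42, 45, 46, 9, 47, 10, 11, 12, 54, 56, 59, 61, 64, 65, 15, 66, 16, 69, 71, 74, 75, 18, 76, 19, 77, 78, 20, 21, 23, 81, 83, 86, 88, 91, 92, 27, 93, 28, 96, 97, 29, 98, 30, 99, 100, 31, 32, 34, 103, 104, 36, 105, 37, 106, 107, 38, 39, 41, 43, 44, 110, 111, 48, 112, 49, 115, 116, 50, 117, 51, 118, 119, 52, 53, 55, 120, 121, 57, 58, 60, 62, 63, 122, 123, 67, 68, 70, 72, 73, 124, 125, 79, 80, 82, 126, 127, 84, 85, 87, 89, 90, 94, 95, 101, 102, 108, 109, 113, 114]]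

/-- A spanning tree: parents and labels. -/
def spTree : List (ℕ × ℕ) := [(0, 0), (0, 0), (0, 1), (0, 2), (1, 0), (1, 1), (1, 2), (2, 0), (2, 2), (3, 0), (3, 1), (4, 0), (4, 1), (4, 2), (5, 2), (6, 0), (6, 1), (7, 2), (8, 0), (8, 1), (9, 0), (9, 1), (9, 2), (10, 0), (10, 2), (11, 2), (12, 2), (13, 0), (13, 1), (14, 0), (14, 1), (15, 0), (15, 1), (15, 2), (16, 0), (16, 2), (17, 0), (17, 1), (18, 0), (18, 1), (18, 2), (19, 0), (19, 2), (20, 0), (20, 1), (20, 2), (21, 2), (23, 2), (25, 0), (25, 1), (26, 0), (26, 1), (27, 0), (27, 1), (27, 2), (28, 0), (28, 2), (29, 0), (29, 1), (29, 2), (30, 0), (30, 2), (31, 0), (31, 1), (31, 2), (32, 2), (34, 2), (36, 0), (36, 1), (36, 2), (37, 0), (37, 2), (38, 0), (38, 1), (38, 2), (39, 2), (41, 2), (43, 2), (44, 2), (48, 0), (48, 1), (48, 2), (49, 0), (49, 2), (50, 0), (50, 1), (50, 2), (51, 0), (51, 2), (52, 0), (52, 1), (52, 2), (53, 2), (55, 2), (57, 0), (57, 1), (57, 2), (58, 2), (60, 2), (62, 2), (63, 2), (67, 0), (67, 1), (67,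 2), (68, 2), (70, 2), (72, 2), (73, 2), (79, 0), (79, 1), (79, 2), (80, 2), (82, 2), (84, 0), (84, 1), (84, 2), (85, 2), (87, 2), (89, 2), (90, 2), (94, 2), (95, 2), (101, 2), (102, 2), (108, 2), (109, 2), (113, 2), (114, 2)]

/-- The generating permutations. -/
def spP (k : Fin 3) : Equiv.Perm (Fin 8) :=
  ![Equiv.swap 0 2 * Equiv.swap 2 1 * Equiv.swap 1 3 * Equiv.swap 4 6 * Equiv.swap 6 5 * Equiv.swap 5 7,
    Equiv.swap 0 4 * Equiv.swap 4 1 * Equiv.swap 1 5 * Equiv.swap 2 7 * Equiv.swap 7 3 * Equiv.swap 3 6,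
    Equiv.swap 2 5 * Equiv.swap 3 4] k

/-- The three generating matrices, coded in base `2`. -/
def omGen : List ℕ := [34891807214, 34647498945, 51002466039]

/-- The group they generate. -/
def omMat : List ℕ := [34630287489, 34891807214, 34647498945, 51002466039, 35182613102, 50742261469, 35233903364, 6246727325, 50741499799, 51139408695, 34698445227, 5711322487, 51001655229, 50685006237, 35165573636, 5668066999, 5660966269, 6058924509, 50586677847, 34890247019, 50685661437, 10961218923, 35427117931, 6206092637, 6196420247, 5967802551, 51037982973, 34628702724, 51140325975, 11415330436, 51530004381, 6256448855, 6006864759, 6117249597, 35235316139, 6018265239, 11391223723, 51037327773, 11314679425, 51286867901, 11423729281, 51286892471, 5718374077, 6117380637, 6006995799, 34697032452, 6109125117, 11483660164, 50585760567, 10860543342, 51530028951, 10969593198, 51287654141, 51038114013, 5967933591, 34645742190, 6066917949, 11432369902, 5956533111, 11331890881, 6206117207,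 11440940737, 51530790621, 10868942187, 35428690411, 51530815191, 50586546807, 6058793469, 35184369857, 5956664151, 11340277441, 6067048989, 11440756462, 5668042429, 11331706606, 51287678711, 11323053700, 35167146116, 50684875197, 35428678126, 50585891607, 10868929902, 6109256157, 11492046724, 5711297917, 11382996868, 5718398647, 11483500459, 34696872747, 35165585921, 51139539735, 35167158401, 51037196733, 11323065985, 6018134199, 11382837163, 6246751895, 11491887019, 6256424285, 11391383428, 35235475844, 35427105646, 51140194935, 11423716996, 50742286039, 11314667140, 6196395677, 11340093166, 35184185582, 35182797377, 50685792477, 10969605483, 51002441469, 10860555627, 5660990839, 11432554177, 34645926465, 34647314670, 51001679799, 10961206638, 34890234734, 34698604932, 50741475229, 11415342721, 34628715009, 35233743659, 34630275204, 34891819499]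

/-- The corresponding permutations, coded in base `8`. -/
def omPerm : List ℕ := [16434824, 16434817, 16433690, 6852524, 16433683, 6852517, 16433242, 6851390, 6823852, 2207660, 16433235, 6851383, 6823845, 2207653, 16434376, 6850942, 6822718, 2206526, 2178988, 16406152, 372652, 11789960, 16434369, 6850935, 6822711, 2206519, 2178981, 16406145, 372645, 11789953, 6852076, 6822270, 2206078, 2177854, 16405018, 371518, 11788826, 343980, 11761288, 5017516, 9954952, 6852069, 6822263, 2206071, 2177847, 16405011, 371511, 11788819, 343973, 11761281, 5017509, 9954945, 6823404, 2207212, 2177406, 16404570, 371070, 11788378, 342846, 11760154, 5016382, 9953818, 4988844, 9926280, 14599816, 6823397, 2207205, 2177399, 16404563, 371063, 11788371, 342839, 11760147, 5016375, 9953811, 4988837, 9926273, 14599809, 2178540, 16405704, 372204, 11789512, 342398, 11759706, 5015934, 9953370, 4987710, 9925146, 14598682, 14571144, 2178533, 16405697, 372197, 11789505, 342391, 11759699, 5015927, 9953363,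 4987703, 9925139, 14598675, 14571137, 343532, 11760840, 5017068, 9954504, 4987262, 9924698, 14598234, 14570010, 343525, 11760833, 5017061, 9954497, 4987255, 9924691, 14598227, 14570003, 4988396, 9925832, 14599368, 14569562, 4988389, 9925825, 14599361, 14569555, 14570696, 14570689]

/-- The left multiplication table of the generators. -/
def omMul : List (List ℕ) := [[1, 0, 6, 8, 10, 12, 2, 16, 3, 20, 4, 24, 5, 28, 22, 31, 7, 35, 37, 27, 9, 29, 14, 42, 11, 46, 48, 19, 13, 21, 52, 15, 56, 58, 55, 17, 57, 18, 49, 62, 51, 65, 23, 69, 71, 68, 25, 70, 26, 38, 75, 40, 30, 80, 82, 34, 32, 36, 33, 83, 86, 85, 39, 76, 77, 41, 92, 94, 45, 43, 47, 44, 95, 98, 97, 50, 63, 64, 102, 91, 53, 93, 54, 59, 106, 61, 60, 107, 108, 101, 110, 79, 66, 81, 67, 72, 114, 74, 73, 115, 116, 89, 78, 111, 118, 113, 84, 87, 88, 121, 90, 103, 122, 105, 96, 99, 100, 125, 104, 123, 124, 109, 112, 119, 120, 117, 127, 126], [2, 4, 0, 9, 1, 13, 14, 17, 18, 3, 22, 25, 26, 5, 6, 32, 33, 7, 8, 34, 39, 36, 10,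 43, 44, 11, 12, 45, 50, 47, 53, 54, 15, 16, 19, 60, 21, 62, 59, 20, 61, 66, 67, 23, 24, 27, 73, 29, 75, 72, 28, 74, 78, 30, 31, 79, 84, 81, 86, 38, 35, 40, 37, 87, 88, 90, 41, 42, 91, 96, 93, 98, 49, 46, 51, 48, 99, 100, 52, 55, 104, 57, 106, 103, 56, 105, 58, 63, 64, 109, 65, 68, 112, 70, 114, 111, 69, 113, 71, 76, 77, 117, 118, 83, 80, 85, 82, 119, 120, 89, 122, 95, 92, 97, 94, 123, 124, 101, 102, 107, 108, 126, 110, 115, 116, 127, 121, 125], [3, 5, 7, 0, 11, 1, 15, 2, 19, 21, 23, 4, 27, 29, 30, 6, 34, 36, 38, 8, 40, 9, 41, 10, 45, 47, 49, 12, 51, 13, 14, 55, 57, 59, 16, 61, 17, 63, 18, 64, 20, 22, 68, 70, 72, 24, 74, 25, 76, 26, 77, 28, 79, 81, 83, 31, 85, 32, 87, 33, 88, 35, 89, 37, 39, 91, 93, 95, 42, 97, 43, 99, 44, 100, 46, 101, 48, 50, 103, 52, 105, 53, 107, 54, 108, 56, 109, 58, 60, 62, 111, 65, 113, 66, 115, 67, 116, 69, 117, 71, 73, 75, 119, 78, 120, 80, 121, 82, 84, 86, 123, 90, 124, 92, 125, 94, 96, 98, 126, 102, 104, 106, 127, 110, 112, 114, 118, 122]]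

/-- A spanning tree: parents and labels. -/
def omTree : List (ℕ × ℕ) := [(0, 0), (0, 0), (0, 1), (0, 2), (1, 1), (1, 2), (2, 0), (2, 2), (3, 0), (3, 1), (4, 0), (4, 2), (5, 0), (5, 1), (6, 1), (6, 2), (7, 0), (7, 1), (8, 1), (8, 2), (9, 0), (9, 2), (10, 1), (10, 2), (11, 0), (11, 1), (12, 1), (12, 2), (13, 0), (13, 2), (14, 2), (15, 0), (15, 1), (16, 1), (16, 2), (17, 0), (17, 2), (18, 0), (18, 2), (20, 1), (20, 2), (22, 2), (23, 0), (23, 1), (24, 1), (24, 2), (25, 0), (25, 2), (26, 0), (26, 2), (28, 1), (28, 2), (30, 0), (30, 1), (31, 1), (31, 2), (32, 0), (32, 2), (33, 0), (33, 2), (35, 1), (35, 2), (37, 1), (37, 2), (39, 2), (41, 0), (41, 1), (42, 1), (42, 2), (43, 0), (43, 2), (44, 0), (44, 2), (46, 1), (46, 2), (48, 1), (48, 2), (50, 2), (52, 1), (52, 2), (53, 0), (53, 2), (54, 0), (54, 2), (56, 1), (56, 2), (58, 1), (58, 2), (60, 2), (62, 2), (65, 1), (65, 2), (66, 0), (66, 2), (67, 0), (67, 2), (69, 1), (69, 2), (71, 1), (71, 2), (73, 2), (75, 2), (78, 0), (78,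 2), (80, 1), (80, 2), (82, 1), (82, 2), (84, 2), (86, 2), (90, 0), (90, 2), (92, 1), (92, 2), (94, 1), (94, 2), (96, 2), (98, 2), (102, 1), (102, 2), (104, 2), (106, 2), (110, 1), (110, 2), (112, 2), (114, 2), (118, 2), (122, 2)]

/-- The generating permutations. -/
def omP (k : Fin 3) : Equiv.Perm (Fin 8) :=
  ![Equiv.swap 0 1,
    Equiv.swap 0 2 * Equiv.swap 1 3,
    Equiv.swap 0 4 * Equiv.swap 1 5 * Equiv.swap 2 6 * Equiv.swap 3 7] k

/-- The table maps of `Sp₄(3)`. -/
def spM (i : Fin 128) : Matrix (Fin 4) (Fin 4) (ZMod 3) := decMat 3 4 (spMat.getD i 0)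

/-- The matrices of the generators. -/
def spG (k : Fin 3) : Matrix (Fin 4) (Fin 4) (ZMod 3) := decMat 3 4 (spGen.getD k 0)

/-- The permutations. -/
def spS (i : Fin 128) : Fin 8 → Fin 8 := decFun (spPerm.getD i 0)

/-- The multiplication. -/
def spT (k : Fin 3) (i : Fin 128) : Fin 128 := Fin.ofNat 128 ((spMul.getD k []).getD i 0)

/-- The table maps of `GO₆⁻(2)`. -/
def omM (i : Fin 128) : Matrix (Fin 6) (Fin 6) (ZMod 2) := decMat 2 6 (omMat.getD i 0)

/-- The matrices of the generators. -/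
def omG (k : Fin 3) : Matrix (Fin 6) (Fin 6) (ZMod 2) := decMat 2 6 (omGen.getD k 0)

/-- The permutations. -/
def omS (i : Fin 128) : Fin 8 → Fin 8 := decFun (omPerm.getD i 0)

/-- The multiplication. -/
def omT (k : Fin 3) (i : Fin 128) : Fin 128 := Fin.ofNat 128 ((omMul.getD k []).getD i 0)

set_option maxRecDepth 100000
set_option maxHeartbeats 2000000

theorem sp_zero : spM 0 = 1 ∧ spS 0 = id := by decide +kernel
theorem om_zero : omM 0 = 1 ∧ omS 0 = id := by decide +kernel
theorem sp_mul : ∀ k i, spG k * spM i = spM (spT k i) := by decide +kernel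
theorem om_mul : ∀ k i, omG k * omM i = omM (omT k i) := by decide +kernel
theorem sp_perm : ∀ k i, ⇑(spP k) ∘ spS i = spS (spT k i) := by decide +kernel
theorem om_perm : ∀ k i, ⇑(omP k) ∘ omS i = omS (omT k i) := by decide +kernel
theorem sp_tree : ∀ i : Fin 128, (i : ℕ) ≠ 0 → (spTree.getD i (0, 0)).1 < (i : ℕ) ∧
    spT (Fin.ofNat 3 (spTree.getD i (0, 0)).2) (Fin.ofNat 128 (spTree.getD i (0, 0)).1) = i := by
  decide +kernel
theorem om_tree : ∀ i : Fin 128, (i : ℕ) ≠ 0 → (omTree.getD i (0, 0)).1 < (i : ℕ) ∧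
    omT (Fin.ofNat 3 (omTree.getD i (0, 0)).2) (Fin.ofNat 128 (omTree.getD i (0, 0)).1) = i := by
  decide +kernel
theorem sp_triv : ∀ i, spS i = id → spM i = 1 ∨ spM i = -1 := by decide +kernel
theorem sp_noncentral : ∀ i, spS i ≠ id → ∃ k, spG k * spM i ≠ spM i * spG k := by decide +kernel
theorem om_faithful : ∀ i, omS i = id ↔ omM i = 1 := by decide +kernel
theorem sp_count : (Finset.univ.image spS).card = 64 := by decide +kernel
theorem om_count : (Finset.univ.image omS).card = 128 := by decide +kernel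
theorem sp_even : ∀ k, Equiv.Perm.sign (spP k) = 1 := by decide +kernel

theorem exists_lt_sp (i : Fin 128) (hi : (i : ℕ) ≠ 0) :
    ∃ j : Fin 128, (j : ℕ) < i ∧ ∃ k, spT k j = i := by
  obtain ⟨h1, h2⟩ := sp_tree i hi
  refine ⟨Fin.ofNat 128 _, ?_, _, h2⟩
  rw [Fin.val_ofNat, Nat.mod_eq_of_lt (h1.trans i.2)]
  exact h1

theorem exists_lt_om (i : Fin 128) (hi : (i : ℕ) ≠ 0) :
    ∃ j : Fin 128, (j : ℕ) < i ∧ ∃ k, omT k j = i := by
  obtain ⟨h1, h2⟩ := om_tree i hi
  refine ⟨Fin.ofNat 128 _, ?_, _, h2⟩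
  rw [Fin.val_ofNat, Nat.mod_eq_of_lt (h1.trans i.2)]
  exact h1

end Cfsg.Agent.GroupStructure3.SylowTables
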