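import Cfsg.Agent.Lib.Counting.Brodkey
import Cfsg.Agent.Lib.Counting.SylowCount
import Mathlib.GroupTheory.Transfer
import Mathlib.GroupTheory.Perm.Cycle.Type
import Mathlib.GroupTheory.SpecificGroups.Cyclic

/-!
No group has exactly `2p + 1` Sylow `p`-subgroups for some pairs such as `(7, 15)`, `(17, 35)`.
-/

set_option autoImplicit false

namespace Cfsg.Agent.GroupStructure3.SylowTwoP

open Subgroup MulAction

variable {G : Type*} [Group G] [Finite G] {p : ℕ} [Fact p.Prime]

theorem forall_mem_eq_one [IsSimpleGroup G] (h : Nat.card (Sylow p G) ≠ 1) (x : G)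
    (hx : ∀ Q : Sylow p G, x ∈ (Q : Subgroup G)) : x = 1 := by
  let N : Subgroup G := ⨅ Q : Sylow p G, (Q : Subgroup G)
  have hN : N.Normal := by
    refine ⟨fun n hn g => ?_⟩
    simp only [N, mem_iInf] at hn ⊢
    intro Q
    have := Transfer.Fusion.mem_smul_sylow_iff.1 (hn (g⁻¹ • Q))
    rwa [inv_inv] at this
  rcases hN.eq_bot_or_eq_top with h0 | h0
  · exact mem_bot.1 (h0 ▸ mem_iInf.2 hx)
  · refine absurd ?_ h
    obtain ⟨P⟩ := (Sylow.nonempty : Nonempty (Sylow p G))
    refine Counting.SylowCount.card_sylow_eq_one_of_normal P ?_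
    have : (P : Subgroup G) = ⊤ := top_le_iff.1 (h0 ▸ iInf_le _ P)
    rw [this]
    infer_instance

variable (P : Sylow p G)

/-- Setting: `G` simple non-abelian, `n_p = 2p + 1`, `|P| = p`. -/
theorem sq_smul_mem_orbit (hn : Nat.card (Sylow p G) = 2 * p + 1)
    (hP : Nat.card (P : Subgroup G) = p)
    (hcore : ∀ x : G, (∀ Q : Sylow p G, x ∈ (Q : Subgroup G)) → x = 1)
    {x : G} (hx : x ∈ centralizer ((P : Subgroup G) : Set G)) {a : Sylow p G} (ha : a ≠ P) :
    (x • x • a ∈ orbit (P : Subgroup G) a) ∧
      ∀ b, b ≠ P → b ∉ orbit (P : Subgroup G) a →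
        ∀ c, c ≠ P → c ∈ orbit (P : Subgroup G) a ∨ c ∈ orbit (P : Subgroup G) b := by
  classical
  have hp : p.Prime := Fact.out
  have hcard : ∀ q : Sylow p G, q ≠ P → (orbit (P : Subgroup G) q).ncard = p := by
    intro q hq
    rw [← index_stabilizer]
    have hbot : stabilizer (P : Subgroup G) q = ⊥ := by
      refine (Subgroup.eq_bot_or_eq_top_of_prime_card (hp := ⟨by rwa [hP]⟩) _).resolve_right ?_
      intro htop
      refine hq (Sylow.ext ?_)
      refine (P.3 q.2 fun y hy => ?_)
      have h1 : (⟨y, hy⟩ : (P : Subgroup G)) ∈ stabilizer (P : Subgroup G) q := htop ▸ mem_top _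
      have h2 : y ∈ normalizer ((q : Subgroup G) : Set G) :=
        Sylow.smul_eq_iff_mem_normalizer.1 h1
      have h3 := (P.2.inf_normalizer_sylow q).le ⟨hy, h2⟩
      exact h3.2
    rw [hbot, index_bot, hP]
  have hP' : ∀ q : Sylow p G, q ≠ P → ∀ c ∈ orbit (P : Subgroup G) q, c ≠ P := by
    rintro q hq c ⟨y, rfl⟩ hc
    refine hq (smul_left_cancel y ?_)
    have hc' : y • q = P := hc
    rw [hc']
    exact (Sylow.smul_eq_iff_mem_normalizer.2 (le_normalizer y.2)).symm
  have two : ∀ q, q ≠ P → ∀ b, b ≠ P → b ∉ orbit (P : Subgroup G) q →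
      ∀ c, c ≠ P → c ∈ orbit (P : Subgroup G) q ∨ c ∈ orbit (P : Subgroup G) b := by
    intro q hq b hb hbq c hc
    by_contra hcon
    push Not at hcon
    have hd : Disjoint (orbit (P : Subgroup G) q) (orbit (P : Subgroup G) b) := by
      rw [Set.disjoint_left]
      intro z hz hz'
      exact hbq (by rw [← orbit_eq_iff.2 hz, orbit_eq_iff.2 hz']; exact mem_orbit_self b)
    have h1 : (orbit (P : Subgroup G) q ∪ orbit (P : Subgroup G) b ∪ {c, P}).ncard ≤
        Nat.card (Sylow p G) := by
      rw [← Set.ncard_univ]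
      exact Set.ncard_le_ncard (Set.subset_univ _)
    rw [Set.ncard_union_eq, Set.ncard_union_eq hd, hcard q hq, hcard b hb, Set.ncard_pair hc,
      hn] at h1
    · omega
    · rw [Set.disjoint_left]
      rintro z (hz | hz) hz'
      · rcases hz' with rfl | rfl
        exacts [hcon.1 hz, hP' q hq _ hz rfl]
      · rcases hz' with rfl | rfl
        exacts [hcon.2 hz, hP' b hb _ hz rfl]
  refine ⟨?_, two a ha⟩
  have hcomm : ∀ (y : (P : Subgroup G)) (q : Sylow p G), x • y • q = y • x • q := by
    intro y q
    show x • (y : G) • q = (y : G) • x • q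
    rw [smul_smul, smul_smul, mem_centralizer_iff.1 hx y y.2]
  have hxP : x • P = P :=
    Sylow.smul_eq_iff_mem_normalizer.2 (centralizer_le_normalizer _ hx)
  have hxne : ∀ q, q ≠ P → x • q ≠ P := fun q hq h => hq (smul_left_cancel x (h.trans hxP.symm))
  by_cases h : x • a ∈ orbit (P : Subgroup G) a
  · obtain ⟨y, hy⟩ := h
    refine ⟨y * y, ?_⟩
    have hy' : y • a = x • a := hy
    show (y * y) • a = x • x • a
    rw [← hy', hcomm, ← hy', smul_smul]
  · refine (two a ha _ (hxne a ha) h _ (hxne _ (hxne a ha))).resolve_right ?_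
    rintro ⟨y, hy⟩
    refine h ⟨y, smul_left_cancel x ?_⟩
    show x • y • a = x • x • a
    rw [hcomm]
    exact hy

theorem eq_one_of_forall_smul (hcore : ∀ x : G, (∀ Q : Sylow p G, x ∈ (Q : Subgroup G)) → x = 1)
    [IsSimpleGroup G] (hn : Nat.card (Sylow p G) ≠ 1) {x : G}
    (hx : ∀ Q : Sylow p G, x • Q = Q) : x = 1 := by
  rcases (MulAction.toPermHom G (Sylow p G)).normal_ker.eq_bot_or_eq_top with h | h
  · refine mem_bot.1 (h ▸ ?_)
    exact MonoidHom.mem_ker.2 (Equiv.ext hx)
  · exfalso
    apply hn
    haveI : Subsingleton (Sylow p G) := ⟨fun A B => by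
      obtain ⟨g, rfl⟩ := exists_smul_eq G A B
      have : MulAction.toPermHom G (Sylow p G) g = 1 := MonoidHom.mem_ker.1 (h ▸ mem_top g)
      exact (congrFun (congrArg DFunLike.coe this) A).symm⟩
    exact Nat.card_unique

theorem centralizer_eq [IsSimpleGroup G] (hG : ¬ IsMulCommutative G) (hp2 : p ≠ 2)
    (hn : Nat.card (Sylow p G) = 2 * p + 1) (hP : Nat.card (P : Subgroup G) = p) :
    centralizer ((P : Subgroup G) : Set G) = (P : Subgroup G) := by
  classical
  have hp : p.Prime := Fact.out
  have hn1 : Nat.card (Sylow p G) ≠ 1 := by have := hp.pos; omega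
  have hcore := forall_mem_eq_one (G := G) hn1
  have hodd : Odd p := hp.odd_of_ne_two hp2
  have hPcomm : IsMulCommutative (P : Subgroup G) := by
    haveI : IsCyclic (P : Subgroup G) := isCyclic_of_prime_card (p := p) hP
    infer_instance
  set C := centralizer ((P : Subgroup G) : Set G)
  -- no involutions
  have hno : ∀ t ∈ C, t ^ 2 = 1 → t = 1 := by
    intro t ht ht2
    by_contra htne
    have htt : t * t = 1 := by rwa [pow_two] at ht2
    have hcomm : ∀ (y : (P : Subgroup G)) (q : Sylow p G), t • y • q = y • t • q := by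
      intro y q
      show t • (y : G) • q = (y : G) • t • q
      rw [smul_smul, smul_smul, mem_centralizer_iff.1 ht y y.2]
    have htP : t • P = P := Sylow.smul_eq_iff_mem_normalizer.2 (centralizer_le_normalizer _ ht)
    have htinv : ∀ q : Sylow p G, t • t • q = q := fun q => by rw [smul_smul, htt, one_smul]
    have horb : ∀ a, a ≠ P → t • a ∈ orbit (P : Subgroup G) a → t • a = a := by
      rintro a ha ⟨y, hy⟩
      have hy' : y • a = t • a := hy
      have hy2 : (y * y) • a = a := by
        rw [← smul_smul, hy', ← hcomm, hy', htinv]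
      have hyy : y = (y * y) ^ ((p + 1) / 2) := by
        rw [← pow_two, ← pow_mul, Nat.mul_div_cancel' (Odd.add_one hodd).two_dvd, pow_succ]
        have : y ^ p = 1 := by
          have := pow_card_eq_one' (x := y); rwa [hP] at this
        rw [this, one_mul]
      have hya : y • a = a := by
        have hs : y * y ∈ stabilizer (P : Subgroup G) a := hy2
        have := Subgroup.pow_mem _ hs ((p + 1) / 2)
        rw [← hyy] at this
        exact this
      rw [← hy', hya]
    have hmove : ∀ a, a ≠ P → t • a ≠ a := by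
      intro a ha hfix
      refine htne (eq_one_of_forall_smul hcore hn1 fun b => ?_)
      by_cases hb : b = P
      · rw [hb, htP]
      by_cases hba : b ∈ orbit (P : Subgroup G) a
      · obtain ⟨y, rfl⟩ := hba
        show t • y • a = y • a
        rw [hcomm, hfix]
      refine horb b hb ?_
      rcases (sq_smul_mem_orbit P hn hP hcore ht ha).2 b hb hba (t • b)
        (fun h => hb (smul_left_cancel t (h.trans htP.symm))) with h | h
      · exfalso
        obtain ⟨y, hy⟩ := h
        refine hba ⟨y, ?_⟩
        show y • a = b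
        have hy' : y • a = t • b := hy
        rw [← htinv b, ← hy', hcomm, hfix]
      · exact h
    -- sign
    haveI := Fintype.ofFinite (Sylow p G)
    set σ := MulAction.toPermHom G (Sylow p G) t with hσ
    have hsupp : σ.support = Finset.univ.erase P := by
      ext q
      rw [Equiv.Perm.mem_support, Finset.mem_erase]
      constructor
      · exact fun h => ⟨fun hq => h (by rw [hq]; exact htP), Finset.mem_univ _⟩
      · exact fun h => hmove q h.1
    have hsc : σ.support.card = 2 * p := by
      rw [hsupp, Finset.card_erase_of_mem (Finset.mem_univ _), Finset.card_univ,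
        ← Nat.card_eq_fintype_card, hn]
      omega
    have hσ2 : σ ^ 2 = 1 := by rw [hσ, ← map_pow, ht2, map_one]
    have htwo : ∀ k ∈ σ.cycleType, k = 2 := fun k hk =>
      le_antisymm (Nat.le_of_dvd two_pos ((Equiv.Perm.dvd_of_mem_cycleType hk).trans
        (orderOf_dvd_of_pow_eq_one hσ2))) (Equiv.Perm.two_le_of_mem_cycleType hk)
    have hct : σ.cycleType = Multiset.replicate p 2 := by
      rw [Multiset.eq_replicate]
      refine ⟨?_, htwo⟩
      have hrep := Multiset.eq_replicate_of_mem htwo
      have hsum := σ.sum_cycleType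
      rw [hrep, Multiset.sum_replicate, hsc, smul_eq_mul] at hsum
      omega
    have hsign : Equiv.Perm.sign σ = -1 := by
      rw [Equiv.Perm.sign_of_cycleType, hct, Multiset.sum_replicate, Multiset.card_replicate,
        smul_eq_mul]
      exact Odd.neg_one_pow (by
        obtain ⟨k, hk⟩ := hodd
        exact ⟨3 * k + 1, by omega⟩)
    have hker := ((Equiv.Perm.sign).comp (MulAction.toPermHom G (Sylow p G))).normal_ker
    rcases hker.eq_bot_or_eq_top with h | h
    · refine hG ⟨⟨fun a b => (MonoidHom.ker_eq_bot_iff _).1 h ?_⟩⟩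
      rw [map_mul, map_mul, mul_comm]
    · have hmem : t ∈ ((Equiv.Perm.sign).comp (MulAction.toPermHom G (Sylow p G))).ker := by
        rw [h]; exact mem_top t
      have h1 : Equiv.Perm.sign σ = 1 := MonoidHom.mem_ker.1 hmem
      rw [hsign] at h1
      exact absurd h1 (by decide)
  -- every element has exponent `p`
  have hexp : ∀ x ∈ C, x ^ p = 1 := by
    intro x hx
    have h2 : (x * x) ^ p = 1 := by
      refine eq_one_of_forall_smul hcore hn1 fun a => ?_
      by_cases ha : a = P
      · subst ha
        refine Sylow.smul_eq_iff_mem_normalizer.2 (centralizer_le_normalizer _ ?_)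
        exact Subgroup.pow_mem _ (mul_mem hx hx) p
      obtain ⟨y, hy⟩ := (sq_smul_mem_orbit P hn hP hcore hx ha).1
      have hy' : (y : G) • a = (x * x) • a := by rw [← smul_smul]; exact hy
      have hk : ∀ k : ℕ, (x * x) ^ k • a = (y : G) ^ k • a := by
        intro k
        induction k with
        | zero => simp
        | succ k ih =>
          rw [pow_succ, ← smul_smul, ← hy', smul_smul]
          have hc : Commute ((x * x) ^ k) (y : G) :=
            (mem_centralizer_iff.1 (Subgroup.pow_mem _ (mul_mem hx hx) k) y y.2).symm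
          rw [hc.eq, ← smul_smul, ih, smul_smul, ← pow_succ']
      rw [hk, show ((y : G)) ^ p = 1 by
        rw [← Subgroup.coe_pow]
        have := pow_card_eq_one' (x := y)
        rw [hP] at this
        rw [this, Subgroup.coe_one], one_smul]
    refine hno _ (Subgroup.pow_mem _ hx p) ?_
    rw [← pow_mul, mul_comm, pow_mul, pow_two, h2]
  refine P.3 ?_ fun a ha => ?_
  · intro x
    exact ⟨1, Subtype.ext (by simpa using hexp x x.2)⟩
  · exact mem_centralizer_iff.2 fun b hb =>
      congrArg Subtype.val (hPcomm.is_comm.comm ⟨b, hb⟩ ⟨a, ha⟩)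

theorem card_relIndex_centralizer_dvd_totient {R : Subgroup G} (hR : IsCyclic R) :
    (centralizer (R : Set G)).relIndex (normalizer (R : Set G)) ∣ (Nat.card R).totient := by
  rw [relIndex, ← normalizerMonoidHom_ker, index_ker, ← hR.card_mulAut]
  exact card_subgroup_dvd_card _

theorem not_simple [IsSimpleGroup G] (hG : ¬ IsMulCommutative G) (hp2 : p ≠ 2)
    (r : ℕ) (hr : r.Prime) (hrn : r ∣ 2 * p + 1) (hrn2 : ¬ r ^ 2 ∣ 2 * p + 1)
    (hrp : ¬ r ∣ p * (p - 1)) (hr1 : ∀ d, d ∣ r - 1 → Odd d → d = 1) :
    Nat.card (Sylow p G) ≠ 2 * p + 1 := by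
  intro hn
  have hp : p.Prime := Fact.out
  have hn1 : Nat.card (Sylow p G) ≠ 1 := by have := hp.pos; omega
  have hcore := forall_mem_eq_one (G := G) hn1
  have hpG : p ∣ Nat.card G := by
    by_contra h
    exact hn1 (Counting.SylowCount.card_sylow_eq_one_of_not_dvd h)
  have hlt : Nat.card (Sylow p G) < p ^ 2 := by
    have h3 : 3 ≤ p := Nat.lt_of_le_of_ne hp.two_le (Ne.symm hp2)
    rw [hn]
    nlinarith
  obtain ⟨P⟩ := (Sylow.nonempty : Nonempty (Sylow p G))
  have hP := Counting.Brodkey.card_eq_prime_of_card_sylow_lt hlt hcore hpG P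
  haveI hPc : IsCyclic (P : Subgroup G) := isCyclic_of_prime_card (p := p) hP
  have hC := centralizer_eq P hG hp2 hn hP
  set N := normalizer ((P : Subgroup G) : Set G)
  have hNidx : N.index = 2 * p + 1 := by
    rw [← Counting.SylowCount.card_sylow_eq_index P, hn]
  have hNcard : Nat.card N ∣ p * (p - 1) := by
    have h := card_relIndex_centralizer_dvd_totient hPc
    rw [hC, hP, Nat.totient_prime hp] at h
    have h2 := relIndex_mul_relIndex ⊥ (P : Subgroup G) N bot_le le_normalizer
    rw [relIndex_bot_left, relIndex_bot_left, hP] at h2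
    rw [← h2]
    exact Nat.mul_dvd_mul_left p h
  have hGcard : Nat.card G = Nat.card N * (2 * p + 1) := by
    rw [← hNidx, card_mul_index]
  have hsimple : ∀ {q : ℕ} [Fact q.Prime] (S : Sylow q G), q ∣ Nat.card G → ¬ IsPGroup q G →
      ∀ K : Subgroup G, K.Normal → K.IsComplement' (S : Subgroup G) → False := by
    intro q _ S hq hnot K hK hc
    rcases hK.eq_bot_or_eq_top with h | h
    · subst h
      refine hnot ?_
      have := (isComplement'_bot_left.1 hc)
      exact (this ▸ S.2).of_equiv topEquiv
    · subst h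
      exact S.ne_bot_of_dvd_card hq (isComplement'_top_left.1 hc)
  have hnot : ∀ q : ℕ, q.Prime → q ≠ p → ¬ IsPGroup q G := by
    intro q hq hqp hG'
    haveI := Fact.mk hq
    obtain ⟨k, hk⟩ := hG'.exists_card_eq
    exact hqp (((Nat.prime_dvd_prime_iff_eq hp hq).1 (hp.dvd_of_dvd_pow (hk ▸ hpG))).symm)
  rcases Nat.even_or_odd (Nat.card G) with heven | hodd
  · -- cyclic Sylow `2`-subgroup
    haveI : Fact (Nat.Prime 2) := ⟨Nat.prime_two⟩
    obtain ⟨S₀⟩ := (Sylow.nonempty : Nonempty (Sylow 2 N))
    let f := (normalizerMonoidHom (P : Subgroup G)).domRestrict (S₀ : Subgroup N)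
    have hinj : Function.Injective f := by
      rw [← MonoidHom.ker_eq_bot_iff, eq_bot_iff]
      intro x hx
      rw [mem_bot]
      have h1 : ((x : N) : G) ∈ (P : Subgroup G) := by
        have hx' : (x : N) ∈ (normalizerMonoidHom (P : Subgroup G)).ker := hx
        rw [normalizerMonoidHom_ker, mem_subgroupOf, hC] at hx'
        exact hx'
      have h2 : orderOf ((x : N) : G) ∣ 1 := by
        obtain ⟨k, hk⟩ := IsPGroup.iff_orderOf.1 S₀.2 x
        have hcop : (2 ^ k).Coprime p :=
          Nat.Coprime.pow_left _ ((Nat.coprime_primes Nat.prime_two hp).2 (Ne.symm hp2))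
        refine dvd_of_eq (Nat.eq_one_of_dvd_coprimes hcop ?_ ?_)
        · rw [Subgroup.orderOf_coe, Subgroup.orderOf_coe, hk]
        · have := orderOf_dvd_natCard (⟨_, h1⟩ : (P : Subgroup G))
          rwa [hP, Subgroup.orderOf_mk] at this
      rw [Nat.dvd_one, orderOf_eq_one_iff] at h2
      exact Subtype.ext (Subtype.ext h2)
    haveI : IsCyclic (ZMod (Nat.card (P : Subgroup G)))ˣ := by
      rw [hP]; exact ZMod.isCyclic_units_prime hp
    haveI : IsCyclic (MulAut (P : Subgroup G)) :=
      isCyclic_of_surjective _ (IsCyclic.mulAutMulEquiv (P : Subgroup G)).symm.surjective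
    haveI : IsCyclic (S₀ : Subgroup N) := isCyclic_of_injective f hinj
    let S : Sylow 2 G := IsPGroup.toSylow (S₀.2.map N.subtype) (by
      rw [index_map_subtype, hNidx]
      intro hd
      rcases Nat.prime_two.dvd_mul.1 hd with h | h
      · exact S₀.not_dvd_index h
      · omega)
    have hScyc : IsCyclic (S : Subgroup G) :=
      isCyclic_of_surjective _
        ((S₀ : Subgroup N).equivMapOfInjective N.subtype N.subtype_injective).surjective
    have hmin : (Nat.card G).minFac = 2 := (Nat.minFac_eq_two_iff _).2 heven.two_dvd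
    exact hsimple S heven.two_dvd (hnot 2 Nat.prime_two (Ne.symm hp2)) _ inferInstance
      (hScyc.isComplement' hmin)
  · haveI := Fact.mk hr
    obtain ⟨R⟩ := (Sylow.nonempty : Nonempty (Sylow r G))
    have hrG : r ∣ Nat.card G := hGcard ▸ hrn.mul_left _
    have hrN : ¬ r ∣ Nat.card N := fun h => hrp (h.trans hNcard)
    have hR : Nat.card (R : Subgroup G) = r := by
      rw [R.card_eq_multiplicity, hGcard, Nat.factorization_mul Nat.card_pos.ne' (by omega),
        Finsupp.add_apply, Nat.factorization_eq_zero_of_not_dvd hrN, zero_add]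
      have h1 : (2 * p + 1).factorization r = 1 := by
        have hpos : 0 < (2 * p + 1).factorization r :=
          hr.factorization_pos_of_dvd (by omega) hrn
        by_contra hne
        exact hrn2 ((pow_dvd_pow r (by omega)).trans (Nat.ordProj_dvd (2 * p + 1) r))
      rw [h1, pow_one]
    haveI hRc : IsCyclic (R : Subgroup G) := isCyclic_of_prime_card (p := r) hR
    have hle : normalizer ((R : Subgroup G) : Set G) ≤ centralizer ((R : Subgroup G) : Set G) := by
      rw [← relIndex_eq_one]
      have h := card_relIndex_centralizer_dvd_totient hRc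
      rw [hR, Nat.totient_prime hr] at h
      refine hr1 _ h ?_
      exact hodd.of_dvd_nat ((relIndex_dvd_card _ _).trans (card_subgroup_dvd_card _))
    refine hsimple R hrG (hnot r hr ?_) _ inferInstance
      (MonoidHom.ker_transferSylow_isComplement' R hle)
    rintro rfl
    exact hrp (dvd_mul_right _ _)

universe u

/-- Reduction of `n_p ≠ n` to simple groups. -/
theorem card_sylow_ne_of_simple {n : ℕ} (hn1 : n ≠ 1)
    (hdiv : ∀ d, d ∣ n → d % p = 1 → d = 1 ∨ d = n) (r : ℕ) (hr : r.Prime)
    (hr1 : n.factorization r = 1) (hr2 : r % p ≠ 1)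
    (hsimp : ∀ (S : Type u) [Group S] [Finite S] [IsSimpleGroup S], ¬ IsMulCommutative S →
      Nat.card (Sylow p S) ≠ n) :
    ∀ (k : ℕ) (H : Type u) [Group H] [Finite H], Nat.card H = k → Nat.card (Sylow p H) ≠ n := by
  intro k
  induction k using Nat.strong_induction_on with
  | _ k ih =>
    intro H _ _ hk hcard
    have hp : p.Prime := Fact.out
    have hmod : ∀ (X : Type u) [Group X] [Finite X], Nat.card (Sylow p X) % p = 1 := by
      intro X _ _
      have := card_sylow_modEq_one p X
      rwa [Nat.ModEq, Nat.one_mod_eq_one.2 hp.ne_one] at this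
    by_cases hab : IsMulCommutative H
    · obtain ⟨P⟩ := (Sylow.nonempty : Nonempty (Sylow p H))
      refine hn1 (hcard ▸ Counting.SylowCount.card_sylow_eq_one_of_normal P ?_)
      exact ⟨fun x hx y => by rwa [hab.is_comm.comm y x, mul_inv_cancel_right]⟩
    haveI : Nontrivial H := by
      by_contra h
      rw [not_nontrivial_iff_subsingleton] at h
      exact hab ⟨⟨fun a b => Subsingleton.elim _ _⟩⟩
    obtain ⟨K, hK, hKbot, hKtop⟩ : ∃ K : Subgroup H, K.Normal ∧ K ≠ ⊥ ∧ K ≠ ⊤ := by
      by_contra h
      push Not at h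
      haveI : IsSimpleGroup H := ⟨fun K hK => or_iff_not_imp_left.2 (h K hK)⟩
      exact hsimp H hab hcard
    haveI := hK
    obtain ⟨P⟩ := (Sylow.nonempty : Nonempty (Sylow p H))
    set D := (P : Subgroup H) ⊓ K with hD
    set M := ((P : Subgroup H) ⊔ K) ⊓ normalizer (D : Set H) with hM
    haveI hDn : (D.subgroupOf M).Normal := by
      refine ⟨fun x hx y => ?_⟩
      rw [mem_subgroupOf] at hx ⊢
      exact (Subgroup.mem_normalizer_iff.1 y.2.2 _).1 hx
    have heq := Counting.SylowCount.card_sylow_eq_mul_mul P K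
    rw [← Counting.SylowCount.card_sylow_third P K M hM, hcard] at heq
    have hQlt : Nat.card (H ⧸ K) < k := by
      rw [← index_eq_card, ← hk, ← K.card_mul_index]
      exact lt_mul_left (Nat.pos_of_ne_zero FiniteIndex.index_ne_zero)
        (K.one_lt_card_iff_ne_bot.2 hKbot)
    have hKlt : Nat.card K < k := by
      rw [← hk]
      exact lt_of_le_of_ne (Nat.le_of_dvd Nat.card_pos (card_subgroup_dvd_card K))
        (fun h => hKtop (card_eq_iff_eq_top K |>.1 h))
    have h1 := (hdiv _ (heq ▸ dvd_mul_of_dvd_left (dvd_mul_right _ _) _) (hmod _)).resolve_right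
      (ih _ hQlt (H ⧸ K) rfl)
    have h2 := (hdiv _ (heq ▸ dvd_mul_of_dvd_left (dvd_mul_left _ _) _) (hmod _)).resolve_right
      (ih _ hKlt K rfl)
    rw [h1, h2, one_mul, one_mul] at heq
    by_cases hlast : Nat.card (M ⧸ D.subgroupOf M) < k
    · exact ih _ hlast _ rfl heq.symm
    -- `D = ⊥`
    have hDbot : D = ⊥ := by
      by_contra hDne
      refine hlast ?_
      rw [← index_eq_card, ← hk]
      refine lt_of_lt_of_le ?_ (Nat.le_of_dvd Nat.card_pos (card_subgroup_dvd_card M))
      rw [← (D.subgroupOf M).card_mul_index]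
      refine lt_mul_left (Nat.pos_of_ne_zero FiniteIndex.index_ne_zero)
        ((D.subgroupOf M).one_lt_card_iff_ne_bot.2 fun hb => hDne ?_)
      rw [subgroupOf_eq_bot, disjoint_iff] at hb
      rwa [inf_eq_left.2] at hb
      refine le_inf (inf_le_left.trans le_sup_left) le_normalizer
    have hKp : ¬ p ∣ Nat.card K := fun h => by
      have h3 := Cores.sylow_subgroupOf_isSubnormal P (Normal.isSubnormal hK)
      rw [← inf_subgroupOf_right, ← hD, hDbot, bot_subgroupOf, index_bot] at h3
      exact h3 h
    have h4 : n = (centralizer ((P : Subgroup H) : Set H)).relIndex K := by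
      have h5 := Counting.SylowCount.card_sylow_eq_mul P K
      rw [h1, one_mul, hcard] at h5
      rw [h5, ← inf_relIndex_right,
        Counting.SylowCount.normalizer_inf_eq_centralizer_inf (by rw [normalizer_eq_top]; exact le_top)
          hDbot, inf_relIndex_right]
    have h6 := Counting.SylowCount.qpart_relIndex_centralizer_modEq_one (P := (P : Subgroup H))
      P.2 (by rw [normalizer_eq_top]; exact le_top) hKp r
    rw [← h4, hr1, pow_one, Nat.ModEq, Nat.one_mod_eq_one.2 hp.ne_one] at h6
    exact hr2 h6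

end Cfsg.Agent.GroupStructure3.SylowTwoP
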