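import Mathlib
import Cfsg.Prelude.Def_FischerSpaces
import Cfsg.Agent.Lib.Forms.Reflections
import Cfsg.Agent.Lib.Forms.Witt

/-!
The reflections of a non-degenerate quadratic form over the field with two elements form a class of
3-transpositions of the isometry group, outside dimension four.
-/

set_option autoImplicit false

namespace Cfsg.Agent.GroupStructure3.ThreeTransOrth

open Matrix Cfsg.Agent.Forms.QuadStd Cfsg.Agent.Forms.Reflections

variable {ι : Type} [Fintype ι] [DecidableEq ι] {Q : QuadraticForm (ZMod 2) (ι → ZMod 2)}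

theorem eq_one_of_ne_zero : ∀ x : ZMod 2, x ≠ 0 → x = 1 := by decide

theorem rank_eq (g : Cfsg.isometryGroup (ZMod 2) ⇑Q) :
    (((g : Matrix.GeneralLinearGroup ι (ZMod 2)) : Matrix ι ι (ZMod 2)) - 1).rank =
      Module.finrank (ZMod 2) (imSp g) := by
  have e : (((g : Matrix.GeneralLinearGroup ι (ZMod 2)) : Matrix ι ι (ZMod 2)) - 1).mulVecLin =
      act g - LinearMap.id := LinearMap.ext fun v => by
    simp [act_apply, Matrix.sub_mulVec]
  rw [Matrix.rank, e]
  rfl

theorem eq_of_act {g h : Cfsg.isometryGroup (ZMod 2) ⇑Q} (hgh : ∀ x, act g x = act h x) : g = h :=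
  iso_ext fun x => by rw [← act_apply, ← act_apply]; exact hgh x

/-- Conjugating a reflection moves its centre. -/
theorem conj_reflect (g : Cfsg.isometryGroup (ZMod 2) ⇑Q) (v : ι → ZMod 2) :
    g * reflect Q v * g⁻¹ = reflect Q (act g v) := by
  refine eq_of_act fun x => ?_
  have hx : act g (act g⁻¹ x) = x := by rw [← act_mul, mul_inv_cancel, act_one]
  have hp : QuadraticMap.polar Q (act g v) x = QuadraticMap.polar Q v (act g⁻¹ x) := by
    conv_lhs => rw [← hx, act_polar]
  rw [act_mul, act_mul, act_reflect, act_reflect, map_sub, map_smul, hx, act_map, hp]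

variable (hQ : (QuadraticMap.polarBilin Q).Nondegenerate)
include hQ

theorem fix_eq_top {g : Cfsg.isometryGroup (ZMod 2) ⇑Q}
    (h : Module.finrank (ZMod 2) (fixSp g) = Fintype.card ι) : g = 1 := by
  have h1 : fixSp g = ⊤ := Submodule.eq_top_of_finrank_eq (by rw [Module.finrank_pi]; exact h)
  exact eq_of_act fun x => by rw [act_one]; exact mem_fixSp.1 (h1 ▸ Submodule.mem_top)

theorem rank_one_iff (g : Cfsg.isometryGroup (ZMod 2) ⇑Q) :
    (((g : Matrix.GeneralLinearGroup ι (ZMod 2)) : Matrix ι ι (ZMod 2)) - 1).rank = 1 ↔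
      ∃ v, Q v ≠ 0 ∧ g = reflect Q v := by
  rw [rank_eq]
  constructor
  · intro h
    obtain ⟨v, hvm, hv⟩ : ∃ v ∈ imSp g, Q v ≠ 0 := by
      by_contra hc
      push Not at hc
      obtain ⟨k, hk⟩ := even_of_singular hQ hc
      have := finrank_imSp hQ g
      omega
    refine ⟨v, hv, ?_⟩
    have h1 := (fix_reflect_of_mem hQ hv hvm).2
    have h2 := finrank_imSp hQ g
    have h3 : reflect Q v * g = 1 := fix_eq_top hQ (by omega)
    calc g = reflect Q v * (reflect Q v * g) := by rw [← mul_assoc, reflect_sq, one_mul]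
      _ = reflect Q v := by rw [h3, mul_one]
  · rintro ⟨v, hv, rfl⟩
    have h0 : v ∉ imSp (1 : Cfsg.isometryGroup (ZMod 2) ⇑Q) := by
      rintro ⟨x, hx⟩
      rw [LinearMap.sub_apply, LinearMap.id_apply, act_one, sub_self] at hx
      exact hv (by rw [← hx, QuadraticMap.map_zero])
    have h1 := (fix_reflect_of_not_mem hQ hv h0).2
    rw [mul_one, fixSp_one, finrank_top, Module.finrank_pi] at h1
    have h2 := finrank_imSp hQ (reflect Q v)
    omega

theorem orderOf_reflect {v : ι → ZMod 2} (hv : Q v ≠ 0) : orderOf (reflect Q v) = 2 := by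
  refine orderOf_eq_prime (by rw [pow_two, reflect_sq]) fun h => ?_
  have h1 := (rank_one_iff hQ (reflect Q v)).2 ⟨v, hv, rfl⟩
  rw [rank_eq] at h1
  have h2 := finrank_imSp hQ (reflect Q v)
  rw [h, fixSp_one, finrank_top, Module.finrank_pi] at h2
  rw [h] at h1
  omega

theorem product_order {v w : ι → ZMod 2} (hv : Q v ≠ 0) (hw : Q w ≠ 0) :
    (reflect Q v * reflect Q w) ^ 2 = 1 ∨ (reflect Q v * reflect Q w) ^ 3 = 1 := by
  have hinv : ∀ u : ι → ZMod 2, (reflect Q u)⁻¹ = reflect Q u := fun u =>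
    inv_eq_of_mul_eq_one_right (reflect_sq u)
  have hcj : ∀ a b : ι → ZMod 2, reflect Q a * reflect Q b * reflect Q a =
      reflect Q (act (reflect Q a) b) := fun a b => by
    have := conj_reflect (reflect Q a) b
    rwa [hinv] at this
  by_cases h : QuadraticMap.polar Q v w = 0
  · left
    have h1 := hcj v w
    rw [act_reflect, h, mul_zero, zero_smul, sub_zero] at h1
    rw [pow_two]
    calc reflect Q v * reflect Q w * (reflect Q v * reflect Q w)
        = reflect Q v * reflect Q w * reflect Q v * reflect Q w := by group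
      _ = 1 := by rw [h1, reflect_sq]
  · right
    have hp := eq_one_of_ne_zero _ h
    have h1 := hcj v w
    have h2 := hcj w v
    rw [act_reflect, hp, eq_one_of_ne_zero _ hv, inv_one, one_mul, one_smul] at h1
    rw [act_reflect, QuadraticMap.polar_comm, hp, eq_one_of_ne_zero _ hw, inv_one, one_mul,
      one_smul] at h2
    have h3 : v - w = w - v := by
      funext i; simp only [Pi.sub_apply]; exact (by decide : ∀ a b : ZMod 2, a - b = b - a) _ _
    rw [h3] at h2
    rw [pow_succ, pow_two]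
    calc reflect Q v * reflect Q w * (reflect Q v * reflect Q w) *
          (reflect Q v * reflect Q w)
        = (reflect Q v * reflect Q w * reflect Q v) *
            (reflect Q w * reflect Q v * reflect Q w) := by group
      _ = 1 := by rw [h1, h2, reflect_sq]

theorem conj_all {v w : ι → ZMod 2} (hv : Q v ≠ 0) (hw : Q w ≠ 0) :
    ∃ g : Cfsg.isometryGroup (ZMod 2) ⇑Q, g * reflect Q v * g⁻¹ = reflect Q w := by
  have hv0 : v ≠ 0 := fun hh => hv (by rw [hh, QuadraticMap.map_zero])
  have hw0 : w ≠ 0 := fun hh => hw (by rw [hh, QuadraticMap.map_zero])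
  let e := LinearEquiv.toSpanNonzeroSingleton (ZMod 2) (ι → ZMod 2) v hv0
  let f : Submodule.span (ZMod 2) {v} →ₗ[ZMod 2] (ι → ZMod 2) :=
    (LinearMap.toSpanSingleton (ZMod 2) (ι → ZMod 2) w) ∘ₗ e.symm.toLinearMap
  have hf : Function.Injective f := by
    intro a b hab
    exact e.symm.injective (smul_left_injective (ZMod 2) hw0 hab)
  have hiso : ∀ x : Submodule.span (ZMod 2) {v}, Q (f x) = Q (x : ι → ZMod 2) := by
    intro x
    obtain ⟨c, rfl⟩ := e.surjective x
    have h1 : (e c : ι → ZMod 2) = c • v := by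
      simp [e, LinearEquiv.toSpanNonzeroSingleton]
    rw [h1]
    simp [f, QuadraticMap.map_smul, eq_one_of_ne_zero _ hv, eq_one_of_ne_zero _ hw]
  obtain ⟨g, hg, hgv⟩ := Cfsg.Agent.Forms.Witt.witt_quad Q hQ _ f hf hiso
  refine ⟨isoOfEquiv (⇑Q) g hg, ?_⟩
  rw [conj_reflect]
  congr 1
  rw [act_apply, isoOfEquiv_mulVec]
  have h2 := hgv (e 1)
  have h1 : (e 1 : ι → ZMod 2) = v := by simp [e, LinearEquiv.toSpanNonzeroSingleton]
  rw [h1] at h2
  rw [h2]
  simp [f]

theorem three_class (h4 : Fintype.card ι ≠ 4) (hne : ∃ v, Q v ≠ 0) :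
    Cfsg.IsThreeTranspositionClass
      {g : Cfsg.isometryGroup (ZMod 2) ⇑Q |
        (((g : Matrix.GeneralLinearGroup ι (ZMod 2)) : Matrix ι ι (ZMod 2)) - 1).rank = 1} := by
  obtain ⟨v, hv⟩ := hne
  have hD : {g : Cfsg.isometryGroup (ZMod 2) ⇑Q |
        (((g : Matrix.GeneralLinearGroup ι (ZMod 2)) : Matrix ι ι (ZMod 2)) - 1).rank = 1} =
      {g | ∃ v, Q v ≠ 0 ∧ g = reflect Q v} := Set.ext (rank_one_iff hQ)
  rw [hD]
  refine ⟨⟨?_, ?_⟩, ⟨reflect Q v, ⟨v, hv, rfl⟩, ?_⟩, refGroup_eq_top hQ (Or.inr h4)⟩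
  · rintro _ ⟨u, hu, rfl⟩
    exact orderOf_reflect hQ hu
  · rintro _ ⟨u, hu, rfl⟩ _ ⟨w, hw, rfl⟩
    exact product_order hQ hu hw
  · ext d
    show _ ↔ IsConj (reflect Q v) d
    rw [isConj_iff]
    constructor
    · rintro ⟨w, hw, rfl⟩
      exact conj_all hQ hv hw
    · rintro ⟨g, rfl⟩
      exact ⟨act g v, by rwa [act_map], conj_reflect g v⟩

end Cfsg.Agent.GroupStructure3.ThreeTransOrth
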