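import Mathlib
import Cfsg.Prelude.Def_SporadicB
import Cfsg.Agent.Lib.Classical.UnitarySimple
import Cfsg.Agent.Lib.Classical.RankOne
import Cfsg.Agent.Lib.Classical.TransvectionGL

/-!
The transvections of `SU(n, 2)`, `4 ≤ n`, form a class of 3-transpositions.
-/

set_option autoImplicit false
set_option linter.unusedSectionVars false

namespace Cfsg.Agent.GroupStructure3.ThreeTransUnitary

open Matrix Cfsg.Agent.Classical.Unitary
open Cfsg.Agent.Forms

variable {F : Type*} [Field F] [Fintype F] {n : ℕ} (hF : Fintype.card F = 2 ^ 2)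
include hF

theorem two_zero : (2 : F) = 0 := two_eq_zero_of_two (q := 2) hF rfl

theorem cube {x : F} (hx : x ≠ 0) : x ^ 3 = 1 := pow_three_eq_one (q := 2) hF rfl hx

theorem one_trace : (1 : F) + 1 ^ 2 = 0 := by
  rw [one_pow, one_add_one_eq_two, two_zero hF]

/-- The transvection with centre `v`. -/
noncomputable def tr {v : Fin n → F} (hv : Cfsg.hermForm n F 2 v v = 0) : Cfsg.SU n F 2 :=
  tvu hF hv (one_trace hF)

theorem tr_mulVec {v : Fin n → F} (hv : Cfsg.hermForm n F 2 v v = 0) (x : Fin n → F) :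
    mat (tr hF hv) *ᵥ x = x + Cfsg.hermForm n F 2 x v • v := by
  rw [tr, tvu_mulVec, one_mul]

theorem tr_smul {v : Fin n → F} (hv : Cfsg.hermForm n F 2 v v = 0) {a : F} (ha : a ≠ 0)
    (h' : Cfsg.hermForm n F 2 (a • v) (a • v) = 0) : tr hF h' = tr hF hv := by
  refine SU_ext fun x => ?_
  rw [tr_mulVec, tr_mulVec, H_smul_right, smul_smul]
  congr 2
  have h3 := cube hF ha
  linear_combination (Cfsg.hermForm n F 2 x v) * h3

theorem tr_sq {v : Fin n → F} (hv : Cfsg.hermForm n F 2 v v = 0) : tr hF hv * tr hF hv = 1 := by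
  refine SU_ext fun x => ?_
  rw [mul_mulVec, mat_one, one_mulVec, tr_mulVec, tr_mulVec, H_add_left, H_smul_left, hv, mul_zero,
    add_zero, add_assoc, ← add_smul, ← two_mul, two_zero hF, zero_mul, zero_smul, add_zero]

theorem tr_ne_one {v : Fin n → F} (hv : Cfsg.hermForm n F 2 v v = 0) (hv0 : v ≠ 0) :
    tr hF hv ≠ 1 := by
  intro h
  refine hv0 (eq_zero_of_H hF fun x => (H_eq_zero_comm hF).1 ?_)
  have h1 := tr_mulVec hF hv x
  rw [h, mat_one, one_mulVec, left_eq_add, smul_eq_zero] at h1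
  exact h1.resolve_right hv0

theorem tr_conj (g : Cfsg.SU n F 2) {v w : Fin n → F} (hv : Cfsg.hermForm n F 2 v v = 0)
    (hw : Cfsg.hermForm n F 2 w w = 0) (h : mat g *ᵥ v = w) :
    g * tr hF hv * g⁻¹ = tr hF hw :=
  tvu_conj hF g h hv hw _

theorem tr_congr {v w : Fin n → F} (hv : Cfsg.hermForm n F 2 v v = 0)
    (hw : Cfsg.hermForm n F 2 w w = 0) (h : v = w) : tr hF hv = tr hF hw := by
  subst h; rfl

theorem rank_one_iff (g : Cfsg.SU n F 2) :
    (((g : Matrix.SpecialLinearGroup (Fin n) F) : Matrix (Fin n) (Fin n) F) - 1).rank = 1 ↔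
      ∃ (v : Fin n → F) (hv : Cfsg.hermForm n F 2 v v = 0), v ≠ 0 ∧ g = tr hF hv := by
  constructor
  · intro h
    obtain ⟨a, φ, ha, hM, y, hy⟩ := Cfsg.Agent.Classical.RankOne.exists_axis h
    have hpres : ∀ x z : Fin n → F,
        (φ z) ^ 2 * Cfsg.hermForm n F 2 x a +
          φ x * (Cfsg.hermForm n F 2 a z + (φ z) ^ 2 * Cfsg.hermForm n F 2 a a) = 0 := by
      intro x z
      have h1 := SU_H g x z
      rw [hM, hM, H_add_left, H_smul_left, H_add_right hF, H_add_right hF, H_smul_right,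
        H_smul_right] at h1
      linear_combination h1
    obtain ⟨x₀, hx₀⟩ : ∃ x, Cfsg.hermForm n F 2 x a ≠ 0 := by
      by_contra hc
      push Not at hc
      exact ha (eq_zero_of_H hF fun x => (H_eq_zero_comm hF).1 (hc x))
    set s := Cfsg.hermForm n F 2 a y + (φ y) ^ 2 * Cfsg.hermForm n F 2 a a with hs
    have hs0 : s ≠ 0 := by
      intro e
      have := hpres x₀ y
      rw [← hs, e, mul_zero, add_zero] at this
      exact hx₀ ((mul_eq_zero.1 this).resolve_left (pow_ne_zero _ hy))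
    obtain ⟨c, hc⟩ : ∃ c : F, c = -(φ y) ^ 2 / s := ⟨_, rfl⟩
    have hφ : ∀ x, φ x = c * Cfsg.hermForm n F 2 x a := fun x => by
      have := hpres x y
      rw [← hs] at this
      rw [hc]
      field_simp
      linear_combination this
    have hc0 : c ≠ 0 := by rw [hc]; simp [hy, hs0]
    have hmat : mat g = Cfsg.unitaryTransvection n 2 a c := mat_ext fun x => by
      rw [HermStd.transvection_mulVec, ← hφ, ← hM]
    have hdet : (1 : F) + c * Cfsg.hermForm n F 2 a a = 1 := by
      have h1 : (Cfsg.unitaryTransvection n 2 a c).det = 1 := by rw [← hmat]; exact g.1.2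
      rw [Cfsg.unitaryTransvection, ← Matrix.smul_vecMulVec, Matrix.vecMulVec_eq Unit,
        Matrix.det_one_add_replicateCol_mul_replicateRow, dotProduct_comm, smul_dotProduct,
        ← H_eq_dot, smul_eq_mul] at h1
      exact h1
    have haa : Cfsg.hermForm n F 2 a a = 0 := by simpa [hc0] using hdet
    have hy0 : Cfsg.hermForm n F 2 y a ≠ 0 := fun e => hy (by rw [hφ, e, mul_zero])
    have hy1 : Cfsg.hermForm n F 2 a y ≠ 0 := fun e => hy0 ((H_eq_zero_comm hF).1 e)
    have hct : c + c ^ 2 = 0 := by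
      have h1 := hpres y y
      rw [haa, hφ, mul_zero, add_zero, mul_pow, H_conj hF] at h1
      have h2 : Cfsg.hermForm n F 2 y a * Cfsg.hermForm n F 2 a y * (c + c ^ 2) = 0 := by
        linear_combination h1
      exact (mul_eq_zero.1 h2).resolve_left (mul_ne_zero hy0 hy1)
    have hc1 : c = 1 := by
      have h1 : c * (1 + c) = 0 := by linear_combination hct
      have h2 := (mul_eq_zero.1 h1).resolve_left hc0
      linear_combination h2 - two_zero hF
    refine ⟨a, haa, ha, SU_ext fun x => ?_⟩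
    rw [tr_mulVec, hM, hφ, hc1, one_mul]
  · rintro ⟨v, hv, hv0, rfl⟩
    have e : mat (tr hF hv) - 1 = Matrix.vecMulVec v (fun j => v j ^ 2) := by
      show Cfsg.unitaryTransvection n 2 v (1 : F) - 1 = _
      rw [Cfsg.unitaryTransvection, one_smul, add_sub_cancel_left]
    rw [show ((tr hF hv : Matrix.SpecialLinearGroup (Fin n) F) : Matrix (Fin n) (Fin n) F) - 1 =
      Matrix.vecMulVec v (fun j => v j ^ 2) from e]
    refine le_antisymm (Matrix.rank_vecMulVec_le _ _) (Nat.one_le_iff_ne_zero.2 fun h => ?_)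
    refine tr_ne_one hF hv hv0 (SU_ext fun x => ?_)
    rw [mat_one, one_mulVec]
    rw [Matrix.rank, Submodule.finrank_eq_zero, LinearMap.range_eq_bot] at h
    have h1 : (mat (tr hF hv) - 1) *ᵥ x = 0 := by
      rw [e, ← Matrix.mulVecLin_apply, h, LinearMap.zero_apply]
    rwa [sub_mulVec, one_mulVec, sub_eq_zero] at h1

theorem product_order {u v : Fin n → F} (hu : Cfsg.hermForm n F 2 u u = 0)
    (hv : Cfsg.hermForm n F 2 v v = 0) :
    (tr hF hu * tr hF hv) ^ 2 = 1 ∨ (tr hF hu * tr hF hv) ^ 3 = 1 := by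
  set a := Cfsg.hermForm n F 2 v u with ha
  have hb : Cfsg.hermForm n F 2 u v = a ^ 2 := (H_conj hF v u).symm
  have hinv : ∀ {w : Fin n → F} (hw : Cfsg.hermForm n F 2 w w = 0), (tr hF hw)⁻¹ = tr hF hw :=
    fun hw => inv_eq_of_mul_eq_one_right (tr_sq hF hw)
  have hv' : Cfsg.hermForm n F 2 (v + a • u) (v + a • u) = 0 := by
    rw [show v + a • u = mat (tr hF hu) *ᵥ v by rw [tr_mulVec], SU_H, hv]
  have hu' : Cfsg.hermForm n F 2 (u + a ^ 2 • v) (u + a ^ 2 • v) = 0 := by
    rw [show u + a ^ 2 • v = mat (tr hF hv) *ᵥ u by rw [tr_mulVec, hb], SU_H, hu]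
  have h1 : tr hF hu * tr hF hv * tr hF hu = tr hF hv' := by
    have := tr_conj hF (tr hF hu) hv hv' (by rw [tr_mulVec])
    rwa [hinv] at this
  have h2 : tr hF hv * tr hF hu * tr hF hv = tr hF hu' := by
    have := tr_conj hF (tr hF hv) hu hu' (by rw [tr_mulVec, hb])
    rwa [hinv] at this
  by_cases h0 : a = 0
  · left
    rw [tr_congr hF hv' hv (by rw [h0, zero_smul, add_zero])] at h1
    rw [pow_two]
    calc tr hF hu * tr hF hv * (tr hF hu * tr hF hv)
        = tr hF hu * tr hF hv * tr hF hu * tr hF hv := by group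
      _ = 1 := by rw [h1, tr_sq]
  · right
    have hvec : v + a • u = a • (u + a ^ 2 • v) := by
      rw [smul_add, smul_smul, ← pow_succ', cube hF h0, one_smul, add_comm]
    have h3 : tr hF hv' = tr hF hu' := by
      rw [tr_congr hF hv' (hvec ▸ hv') hvec, tr_smul hF hu' h0]
    rw [pow_succ, pow_two]
    calc tr hF hu * tr hF hv * (tr hF hu * tr hF hv) * (tr hF hu * tr hF hv)
        = (tr hF hu * tr hF hv * tr hF hu) * (tr hF hv * tr hF hu * tr hF hv) := by group
      _ = 1 := by rw [h1, h2, h3, tr_sq]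

theorem three_class (hn : 4 ≤ n) :
    Cfsg.IsThreeTranspositionClass
      {g : Cfsg.SU n F 2 |
        (((g : Matrix.SpecialLinearGroup (Fin n) F) : Matrix (Fin n) (Fin n) F) - 1).rank = 1} := by
  rw [Set.ext (rank_one_iff hF)]
  obtain ⟨v₀, hv₀, hv1, -, -⟩ :=
    exists_isotropic_pair hF (n := n) ⟨0, by omega⟩ ⟨1, by omega⟩ (by simp)
  have hv00 : v₀ ≠ 0 := fun e => by simp [e] at hv1
  refine ⟨⟨?_, ?_⟩, ⟨tr hF hv₀, ⟨v₀, hv₀, hv00, rfl⟩, ?_⟩, ?_⟩
  · rintro _ ⟨v, hv, hv0, rfl⟩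
    exact orderOf_eq_prime (by rw [pow_two, tr_sq]) (tr_ne_one hF hv hv0)
  · rintro _ ⟨u, hu, -, rfl⟩ _ ⟨v, hv, -, rfl⟩
    exact product_order hF hu hv
  · ext d
    show _ ↔ IsConj (tr hF hv₀) d
    rw [isConj_iff]
    constructor
    · rintro ⟨v, hv, hv0, rfl⟩
      obtain ⟨k, a, hk⟩ := exists_su_point hF hv00 hv0 hv₀ hv
      have ha : a ≠ 0 := by
        rintro rfl
        rw [zero_smul] at hk
        exact mat_mulVec_ne_zero k hv00 hk
      have hav : Cfsg.hermForm n F 2 (a • v) (a • v) = 0 := by rw [← hk, SU_H, hv₀]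
      exact ⟨k, by rw [tr_conj hF k hv₀ hav hk, tr_smul hF hv ha]⟩
    · rintro ⟨g, rfl⟩
      exact ⟨mat g *ᵥ v₀, by rw [SU_H, hv₀], mat_mulVec_ne_zero g hv00, tr_conj hF g hv₀ _ rfl⟩
  · rw [eq_top_iff, ← tvGroup_eq_top (q := 2) hF (show 1 ≤ n by omega) (by omega)]
    refine (Subgroup.closure_le _).2 ?_
    rintro g ⟨v, c, hv, hc, hg⟩
    have hgx : ∀ x, mat g *ᵥ x = x + (c * Cfsg.hermForm n F 2 x v) • v := fun x => by
      rw [hg, HermStd.transvection_mulVec]
    by_cases h0 : c = 0 ∨ v = 0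
    · have : g = 1 := SU_ext fun x => by
        rw [hgx, mat_one, one_mulVec]
        rcases h0 with rfl | rfl <;> simp
      rw [this]; exact one_mem _
    push Not at h0
    refine Subgroup.subset_closure ⟨v, hv, h0.2, SU_ext fun x => ?_⟩
    have h1 : c * (1 + c) = 0 := by linear_combination hc
    have hc1 : c = 1 := by
      linear_combination (mul_eq_zero.1 h1).resolve_left h0.1 - two_zero hF
    rw [hgx, tr_mulVec, hc1, one_mul]

end Cfsg.Agent.GroupStructure3.ThreeTransUnitary
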